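import Mathlib

/-!
Coverings of a central quotient by conjugates of two proper subgroups.
-/

set_option autoImplicit false

namespace CfsgLib.NormalCover

/-- Every element of the group is conjugate into one of two proper subgroups. -/
def CoveredByTwo (G : Type*) [Group G] : Prop :=
  ∃ H K : Subgroup G, H ≠ ⊤ ∧ K ≠ ⊤ ∧ ∀ g : G, ∃ x : G, x * g * x⁻¹ ∈ H ∨ x * g * x⁻¹ ∈ K

/-- Two proper subgroups containing the centre give a covering of the central quotient. -/
theorem coveredByTwo_quotient {G : Type*} [Group G] (H K : Subgroup G) (hH : H ≠ ⊤) (hK : K ≠ ⊤)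
    (hZH : Subgroup.center G ≤ H) (hZK : Subgroup.center G ≤ K)
    (hcov : ∀ g : G, ∃ x : G, x * g * x⁻¹ ∈ H ∨ x * g * x⁻¹ ∈ K) :
    CoveredByTwo (G ⧸ Subgroup.center G) := by
  have hne : ∀ L : Subgroup G, L ≠ ⊤ → Subgroup.center G ≤ L →
      L.map (QuotientGroup.mk' (Subgroup.center G)) ≠ ⊤ := fun L hL hZ h => hL (by
    have := congrArg (Subgroup.comap (QuotientGroup.mk' (Subgroup.center G))) h
    rwa [Subgroup.comap_map_eq_self (by rwa [QuotientGroup.ker_mk']), Subgroup.comap_top] at this)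
  refine ⟨_, _, hne H hH hZH, hne K hK hZK, fun g => ?_⟩
  obtain ⟨g, rfl⟩ := QuotientGroup.mk'_surjective _ g
  obtain ⟨x, hx⟩ := hcov g
  refine ⟨QuotientGroup.mk' _ x, hx.imp (fun h => ?_) fun h => ?_⟩ <;>
  · rw [← map_inv, ← map_mul, ← map_mul]; exact Subgroup.mem_map_of_mem _ h

end CfsgLib.NormalCover
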