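import Mathlib
import Cfsg.Prelude.Def_G2

/-!
Three kinds of automorphisms of Zorn's algebra and the transitivity they give on elements of trace one.
-/

set_option autoImplicit false
set_option maxHeartbeats 1000000

namespace CfsgLib.NormalCover

open Matrix Cfsg.Lie

variable {F : Type*} [Field F]

local notation "V8" => Fin 8 → F

/-- `(α, a, b, β) ↦ (α + u·b, a + (β - α)u - (u·b)u, b - u×a, β - u·b)`. -/
def moveA (u : Fin 3 → F) : V8 →ₗ[F] V8 where
  toFun x :=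
    let s := u 0 * x 4 + u 1 * x 5 + u 2 * x 6
    ![x 0 + s, x 1 + (x 7 - x 0 - s) * u 0, x 2 + (x 7 - x 0 - s) * u 1, x 3 + (x 7 - x 0 - s) * u 2,
      x 4 - (u 1 * x 3 - u 2 * x 2), x 5 - (u 2 * x 1 - u 0 * x 3), x 6 - (u 0 * x 2 - u 1 * x 1), x 7 - s]
  map_add' x y := by funext i; fin_cases i <;> simp <;> ring
  map_smul' c x := by funext i; fin_cases i <;> simp <;> ring

/-- `(α, a, b, β) ↦ (α + v·a, a - v×b, b - (α - β)v - (v·a)v, β - v·a)`. -/
def moveB (v : Fin 3 → F) : V8 →ₗ[F] V8 where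
  toFun x :=
    let s := v 0 * x 1 + v 1 * x 2 + v 2 * x 3
    ![x 0 + s, x 1 - (v 1 * x 6 - v 2 * x 5), x 2 - (v 2 * x 4 - v 0 * x 6), x 3 - (v 0 * x 5 - v 1 * x 4),
      x 4 - (x 0 - x 7 + s) * v 0, x 5 - (x 0 - x 7 + s) * v 1, x 6 - (x 0 - x 7 + s) * v 2, x 7 - s]
  map_add' x y := by funext i; fin_cases i <;> simp <;> ring
  map_smul' c x := by funext i; fin_cases i <;> simp <;> ring

/-- `(α, a, b, β) ↦ (α, A a, adj(A)ᵀ b, β)`. -/
def moveS (A : Matrix (Fin 3) (Fin 3) F) : V8 →ₗ[F] V8 where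
  toFun x :=
    ![x 0, A 0 0 * x 1 + A 0 1 * x 2 + A 0 2 * x 3, A 1 0 * x 1 + A 1 1 * x 2 + A 1 2 * x 3,
      A 2 0 * x 1 + A 2 1 * x 2 + A 2 2 * x 3,
      (A 1 1 * A 2 2 - A 1 2 * A 2 1) * x 4 + (A 1 2 * A 2 0 - A 1 0 * A 2 2) * x 5 +
        (A 1 0 * A 2 1 - A 1 1 * A 2 0) * x 6,
      (A 0 2 * A 2 1 - A 0 1 * A 2 2) * x 4 + (A 0 0 * A 2 2 - A 0 2 * A 2 0) * x 5 +
        (A 0 1 * A 2 0 - A 0 0 * A 2 1) * x 6,
      (A 0 1 * A 1 2 - A 0 2 * A 1 1) * x 4 + (A 0 2 * A 1 0 - A 0 0 * A 1 2) * x 5 +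
        (A 0 0 * A 1 1 - A 0 1 * A 1 0) * x 6,
      x 7]
  map_add' x y := by funext i; fin_cases i <;> simp <;> ring
  map_smul' c x := by funext i; fin_cases i <;> simp <;> ring

theorem moveA_mul (u : Fin 3 → F) (x y : V8) : moveA u (zornMul x y) = zornMul (moveA u x) (moveA u y) := by
  funext i
  fin_cases i <;> simp [moveA, zornMul, dot3, cross3] <;> ring

theorem moveB_mul (v : Fin 3 → F) (x y : V8) : moveB v (zornMul x y) = zornMul (moveB v x) (moveB v y) := by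
  funext i
  fin_cases i <;> simp [moveB, zornMul, dot3, cross3] <;> ring

theorem moveS_mul {A : Matrix (Fin 3) (Fin 3) F} (hA : A.det = 1) (x y : V8) :
    moveS A (zornMul x y) = zornMul (moveS A x) (moveS A y) := by
  rw [det_fin_three] at hA
  funext i
  fin_cases i <;> simp [moveS, zornMul, dot3, cross3]
  · linear_combination -(x 1 * y 4 + x 2 * y 5 + x 3 * y 6) * hA
  · linear_combination (x 5 * y 6 - x 6 * y 5) * A 0 0 * hA + (x 6 * y 4 - x 4 * y 6) * A 0 1 * hA +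
      (x 4 * y 5 - x 5 * y 4) * A 0 2 * hA
  · linear_combination (x 5 * y 6 - x 6 * y 5) * A 1 0 * hA + (x 6 * y 4 - x 4 * y 6) * A 1 1 * hA +
      (x 4 * y 5 - x 5 * y 4) * A 1 2 * hA
  · linear_combination (x 5 * y 6 - x 6 * y 5) * A 2 0 * hA + (x 6 * y 4 - x 4 * y 6) * A 2 1 * hA +
      (x 4 * y 5 - x 5 * y 4) * A 2 2 * hA
  · ring
  · ring
  · ring
  · linear_combination -(x 4 * y 1 + x 5 * y 2 + x 6 * y 3) * hA

theorem moveA_injective (u : Fin 3 → F) : Function.Injective (moveA u) := by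
  refine Function.LeftInverse.injective (g := moveA (-u)) fun x => ?_
  funext i
  fin_cases i <;> simp [moveA] <;> ring

theorem moveB_injective (v : Fin 3 → F) : Function.Injective (moveB v) := by
  refine Function.LeftInverse.injective (g := moveB (-v)) fun x => ?_
  funext i
  fin_cases i <;> simp [moveB] <;> ring

theorem moveS_injective {A : Matrix (Fin 3) (Fin 3) F} (hA : A.det = 1) : Function.Injective (moveS A) := by
  refine Function.LeftInverse.injective (g := moveS A.adjugate) fun x => ?_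
  rw [det_fin_three] at hA
  funext i
  fin_cases i <;> simp [moveS, adjugate_fin_three]
  · linear_combination x 1 * hA
  · linear_combination x 2 * hA
  · linear_combination x 3 * hA
  · linear_combination x 4 *
      (A 0 0 * A 1 1 * A 2 2 - A 0 0 * A 1 2 * A 2 1 - A 0 1 * A 1 0 * A 2 2 + A 0 1 * A 1 2 * A 2 0 + A 0 2 * A 1 0 * A 2 1 - A 0 2 * A 1 1 * A 2 0 + 1) * hA
  · linear_combination x 5 *
      (A 0 0 * A 1 1 * A 2 2 - A 0 0 * A 1 2 * A 2 1 - A 0 1 * A 1 0 * A 2 2 + A 0 1 * A 1 2 * A 2 0 + A 0 2 * A 1 0 * A 2 1 - A 0 2 * A 1 1 * A 2 0 + 1) * hA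
  · linear_combination x 6 *
      (A 0 0 * A 1 1 * A 2 2 - A 0 0 * A 1 2 * A 2 1 - A 0 1 * A 1 0 * A 2 2 + A 0 1 * A 1 2 * A 2 0 + A 0 2 * A 1 0 * A 2 1 - A 0 2 * A 1 1 * A 2 0 + 1) * hA

/-- `x` and `y` lie in one orbit of `G₂`. -/
def SameOrbit (x y : V8) : Prop :=
  ∃ g ∈ Cfsg.Lie.G2 F, ((g : GL (Fin 8) F) : Matrix (Fin 8) (Fin 8) F) *ᵥ x = y

theorem SameOrbit.refl (x : V8) : SameOrbit x x := ⟨1, one_mem _, by simp⟩

theorem SameOrbit.trans {x y z : V8} : SameOrbit x y → SameOrbit y z → SameOrbit x z := by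
  rintro ⟨g, hg, rfl⟩ ⟨k, hk, rfl⟩
  exact ⟨k * g, mul_mem hk hg, by rw [Units.val_mul, mulVec_mulVec]⟩

/-- An injective multiplicative linear map is in `G₂`. -/
theorem exists_g2 (f : V8 →ₗ[F] V8) (hi : Function.Injective f)
    (hm : ∀ x y, f (zornMul x y) = zornMul (f x) (f y)) :
    ∃ g ∈ Cfsg.Lie.G2 F, ∀ x, ((g : GL (Fin 8) F) : Matrix (Fin 8) (Fin 8) F) *ᵥ x = f x := by
  let e := LinearEquiv.ofInjectiveEndo f hi
  have hinv : ∀ (a b : V8 →ₗ[F] V8), (∀ v, a (b v) = v) → LinearMap.toMatrix' a * LinearMap.toMatrix' b = 1 :=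
    fun a b h => by
      rw [← LinearMap.toMatrix'_comp, show a.comp b = LinearMap.id from LinearMap.ext h, LinearMap.toMatrix'_id]
  let g : GL (Fin 8) F := ⟨LinearMap.toMatrix' (e : V8 →ₗ[F] V8), LinearMap.toMatrix' (e.symm : V8 →ₗ[F] V8),
    hinv _ _ fun v => e.apply_symm_apply v, hinv _ _ fun v => e.symm_apply_apply v⟩
  have hg : ∀ x, (g : Matrix (Fin 8) (Fin 8) F) *ᵥ x = f x := fun x => LinearMap.toMatrix'_mulVec _ x
  refine ⟨g, fun x y => ?_, hg⟩
  show (g : Matrix (Fin 8) (Fin 8) F) *ᵥ _ = zornMul ((g : Matrix (Fin 8) (Fin 8) F) *ᵥ x) ((g : Matrix (Fin 8) (Fin 8) F) *ᵥ y)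
  rw [hg, hg, hg, hm]

theorem sameOrbit_A (u : Fin 3 → F) (x : V8) : SameOrbit x (moveA u x) := by
  obtain ⟨g, hg, h⟩ := exists_g2 _ (moveA_injective u) (moveA_mul u)
  exact ⟨g, hg, h x⟩

theorem sameOrbit_B (v : Fin 3 → F) (x : V8) : SameOrbit x (moveB v x) := by
  obtain ⟨g, hg, h⟩ := exists_g2 _ (moveB_injective v) (moveB_mul v)
  exact ⟨g, hg, h x⟩

theorem sameOrbit_S {A : Matrix (Fin 3) (Fin 3) F} (hA : A.det = 1) (x : V8) : SameOrbit x (moveS A x) := by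
  obtain ⟨g, hg, h⟩ := exists_g2 _ (moveS_injective hA) (moveS_mul hA)
  exact ⟨g, hg, h x⟩

/-- A representative of the elements of trace one and norm `e`. -/
def stdElt (e : F) : V8 := ![1, 1, 0, 0, -e, 0, 0, 0]

/-- In characteristic two every element `(α, a, b, 1 - α)` of norm `e` is equivalent to the representative. -/
theorem sameOrbit_std (h2 : (2 : F) = 0) {w : V8} {e : F} (hT : w 0 + w 7 = 1)
    (hN : w 0 * w 7 - (w 1 * w 4 + w 2 * w 5 + w 3 * w 6) = e) : SameOrbit w (stdElt e) := by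
  classical
  -- invariance of trace and norm is built into the coordinates below
  suffices h : ∀ w : V8, w 0 = 1 → w 7 = 0 → -(w 1 * w 4 + w 2 * w 5 + w 3 * w 6) = e →
      (w 1 ≠ 0 ∨ w 2 ≠ 0 ∨ w 3 ≠ 0) → SameOrbit w (stdElt e) by
    have step2 : ∀ w : V8, w 0 + w 7 = 1 → w 0 * w 7 - (w 1 * w 4 + w 2 * w 5 + w 3 * w 6) = e →
        (w 1 ≠ 0 ∨ w 2 ≠ 0 ∨ w 3 ≠ 0) → SameOrbit w (stdElt e) := by
      intro w hT hN ha
      by_cases h0 : w 0 = 1
      · refine h w h0 (by linear_combination hT - h0) ?_ ha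
        linear_combination hN - (w 7) * h0 - (hT - h0)
      obtain ⟨v, hv⟩ : ∃ v : Fin 3 → F, v 0 * w 1 + v 1 * w 2 + v 2 * w 3 = 1 - w 0 := by
        rcases ha with ha | ha | ha
        · exact ⟨![(1 - w 0) / w 1, 0, 0], by simp [ha]⟩
        · exact ⟨![0, (1 - w 0) / w 2, 0], by simp [ha]⟩
        · exact ⟨![0, 0, (1 - w 0) / w 3], by simp [ha]⟩
      refine (sameOrbit_B v w).trans (h _ ?_ ?_ ?_ ?_)
      · show w 0 + (v 0 * w 1 + v 1 * w 2 + v 2 * w 3) = 1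
        linear_combination hv
      · show w 7 - (v 0 * w 1 + v 1 * w 2 + v 2 * w 3) = 0
        linear_combination hT - hv
      · simp [moveB]
        linear_combination hN + (v 0 * w 1 + v 1 * w 2 + v 2 * w 3) * (v 0 * w 1 + v 1 * w 2 + v 2 * w 3)
          + (w 0 - w 7) * (v 0 * w 1 + v 1 * w 2 + v 2 * w 3)
          - (w 0 + (v 0 * w 1 + v 1 * w 2 + v 2 * w 3)) * (hT - hv) + (w 7 - (v 0 * w 1 + v 1 * w 2 + v 2 * w 3)) * 0
      · by_contra hc
        push Not at hc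
        simp [moveB] at hc
        refine h0 ?_
        linear_combination hv - v 0 * hc.1 - v 1 * hc.2.1 - v 2 * hc.2.2
    by_cases ha : w 1 ≠ 0 ∨ w 2 ≠ 0 ∨ w 3 ≠ 0
    · exact step2 w hT hN ha
    push Not at ha
    obtain ⟨u, hub, hu⟩ : ∃ u : Fin 3 → F, u 0 * w 4 + u 1 * w 5 + u 2 * w 6 = 0 ∧ u ≠ 0 := by
      by_cases h4 : w 4 = 0
      · exact ⟨![1, 0, 0], by simp [h4], fun h => by simpa using congrFun h 0⟩
      · exact ⟨![w 5, -w 4, 0], by simp; ring, fun h => h4 (by simpa using congrFun h 1)⟩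
    refine (sameOrbit_A u w).trans (step2 _ ?_ ?_ ?_)
    · simp [moveA]; linear_combination hT
    · simp [moveA, ha.1, ha.2.1, ha.2.2, hub]
      linear_combination hN + (w 4) * ha.1 + (w 5) * ha.2.1 + (w 6) * ha.2.2 + (w 0 - w 7) * hub
    · have h71 : w 7 - w 0 = 1 := by linear_combination hT - w 0 * h2
      by_contra hc
      push Not at hc
      simp [moveA, ha.1, ha.2.1, ha.2.2, hub, h71] at hc
      refine hu (funext fun i => ?_)
      fin_cases i
      · exact hc.1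
      · exact hc.2.1
      · exact hc.2.2
  intro w h0 h7 hN ha
  obtain ⟨A, hA, hAa⟩ : ∃ A : Matrix (Fin 3) (Fin 3) F, A.det = 1 ∧
      A *ᵥ ![w 1, w 2, w 3] = ![1, 0, 0] := by
    by_cases h1 : w 1 = 0
    · by_cases h2' : w 2 = 0
      · have h3 : w 3 ≠ 0 := by tauto
        exact ⟨!![0, 0, (w 3)⁻¹; w 3, 0, 0; 0, 1, 0], by simp [det_fin_three, h3],
          by funext i; fin_cases i <;> simp [mulVec, vec3_dotProduct, h1, h2', h3]⟩
      · exact ⟨!![0, (w 2)⁻¹, 0; -(w 2), 0, 0; 0, -(w 3) / (w 2), 1], by simp [det_fin_three, h2'],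
          by funext i; fin_cases i <;> simp [mulVec, vec3_dotProduct, h1, h2']⟩
    · exact ⟨!![(w 1)⁻¹, 0, 0; -(w 2), w 1, 0; -(w 3) / w 1, 0, 1], by simp [det_fin_three, h1],
        by funext i; fin_cases i <;> simp [mulVec, vec3_dotProduct, h1] <;> field_simp <;> ring⟩
  refine (sameOrbit_S hA w).trans ?_
  obtain ⟨z, hz⟩ : ∃ z : V8, z = moveS A w := ⟨_, rfl⟩
  rw [← hz]
  have z0 : z 0 = 1 := by rw [hz]; simpa [moveS] using h0
  have z7 : z 7 = 0 := by rw [hz]; simpa [moveS] using h7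
  have e0 : A 0 0 * w 1 + A 0 1 * w 2 + A 0 2 * w 3 = 1 := by
    simpa [mulVec, dotProduct, Fin.sum_univ_three] using congrFun hAa 0
  have e1 : A 1 0 * w 1 + A 1 1 * w 2 + A 1 2 * w 3 = 0 := by
    simpa [mulVec, dotProduct, Fin.sum_univ_three] using congrFun hAa 1
  have e2 : A 2 0 * w 1 + A 2 1 * w 2 + A 2 2 * w 3 = 0 := by
    simpa [mulVec, dotProduct, Fin.sum_univ_three] using congrFun hAa 2
  have z1 : z 1 = 1 := by rw [hz]; simpa [moveS] using e0
  have z2 : z 2 = 0 := by rw [hz]; simpa [moveS] using e1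
  have z3 : z 3 = 0 := by rw [hz]; simpa [moveS] using e2
  have z4 : z 4 = -e := by
    have hd := hA
    rw [det_fin_three] at hd
    rw [← mul_one (z 4), ← z1, hz]
    simp [moveS]
    linear_combination -hN + (w 1 * w 4 + w 2 * w 5 + w 3 * w 6) * hd + (-1 : F) * 0
      + (-(((A 0 2 * A 2 1 - A 0 1 * A 2 2) * w 4 + (A 0 0 * A 2 2 - A 0 2 * A 2 0) * w 5 +
        (A 0 1 * A 2 0 - A 0 0 * A 2 1) * w 6))) * e1
      + (-((A 0 1 * A 1 2 - A 0 2 * A 1 1) * w 4 + (A 0 2 * A 1 0 - A 0 0 * A 1 2) * w 5 +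
        (A 0 0 * A 1 1 - A 0 1 * A 1 0) * w 6)) * e2
  let v : Fin 3 → F := ![0, z 5, z 6]
  refine (sameOrbit_B v z).trans ?_
  let A' : Matrix (Fin 3) (Fin 3) F := !![1, 0, 0; z 6 * z 4, 1, 0; -(z 5 * z 4), 0, 1]
  refine (sameOrbit_S (A := A') (by simp [A', det_fin_three]) _).trans ?_
  convert SameOrbit.refl (stdElt e) using 1
  funext i
  fin_cases i <;> simp [moveS, moveB, v, A', stdElt, z0, z1, z2, z3, z4, z7] <;> ring

end CfsgLib.NormalCover
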