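import Mathlib
import Cfsg.Agent.Lib.NormalCover.Basic
import Cfsg.Agent.Lib.NormalCover.G2Moves

/-!
In characteristic two every automorphism of the split octonions stabilises a quadratic subalgebra
`{w, w + 1}`, so `G₂` is covered by the stabilisers of two of them.
-/

set_option autoImplicit false

namespace CfsgLib.NormalCover

open Matrix Cfsg.Lie

variable {F : Type*} [Field F]

local notation "V8" => Fin 8 → F

/-- The identity of Zorn's algebra. -/
def zOne : V8 := ![1, 0, 0, 0, 0, 0, 0, 1]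

/-- The trace. -/
def zTr (x : V8) : F := x 0 + x 7

/-- The norm. -/
def zNm (x : V8) : F := x 0 * x 7 - (x 1 * x 4 + x 2 * x 5 + x 3 * x 6)

/-- The polar form of the norm. -/
def zPol (x y : V8) : F :=
  x 0 * y 7 + x 7 * y 0 - (x 1 * y 4 + x 4 * y 1 + x 2 * y 5 + x 5 * y 2 + x 3 * y 6 + x 6 * y 3)

theorem zNm_add (x y : V8) : zNm (x + y) = zNm x + zNm y + zPol x y := by
  simp [zNm, zPol]; ring

theorem one_zorn (x : V8) : zornMul zOne x = x := by
  funext i; fin_cases i <;> simp [zOne, zornMul, dot3, cross3]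

theorem zorn_one (x : V8) : zornMul x zOne = x := by
  funext i; fin_cases i <;> simp [zOne, zornMul, dot3, cross3]

theorem zorn_self (x : V8) : zornMul x x = zTr x • x - zNm x • (zOne : V8) := by
  funext i; fin_cases i <;> simp [zOne, zTr, zNm, zornMul, dot3, cross3] <;> ring

variable {g : GL (Fin 8) F}

local notation "gm" => ((g : GL (Fin 8) F) : Matrix (Fin 8) (Fin 8) F)

theorem g2_mul (hg : g ∈ Cfsg.Lie.G2 F) (x y : V8) : gm *ᵥ zornMul x y = zornMul (gm *ᵥ x) (gm *ᵥ y) := hg x y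

theorem gm_inv (x : V8) : ((g⁻¹ : GL (Fin 8) F) : Matrix (Fin 8) (Fin 8) F) *ᵥ (gm *ᵥ x) = x := by
  rw [mulVec_mulVec, ← Units.val_mul, inv_mul_cancel, Units.val_one, one_mulVec]

theorem g2_one (hg : g ∈ Cfsg.Lie.G2 F) : gm *ᵥ zOne = zOne := by
  have h := g2_mul hg zOne (((g⁻¹ : GL (Fin 8) F) : Matrix (Fin 8) (Fin 8) F) *ᵥ zOne)
  rw [one_zorn, mulVec_mulVec, ← Units.val_mul, mul_inv_cancel, Units.val_one, one_mulVec, zorn_one] at h
  exact h.symm

theorem g2_tr_nm (hg : g ∈ Cfsg.Lie.G2 F) (x : V8) : zTr (gm *ᵥ x) = zTr x ∧ zNm (gm *ᵥ x) = zNm x := by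
  by_cases hx : ∃ c : F, x = c • zOne
  · obtain ⟨c, rfl⟩ := hx
    rw [mulVec_smul, g2_one hg]
    exact ⟨rfl, rfl⟩
  have h := g2_mul hg x x
  rw [zorn_self x, zorn_self, mulVec_sub, mulVec_smul, mulVec_smul, g2_one hg] at h
  have ht : zTr (gm *ᵥ x) = zTr x := by
    by_contra ht
    refine hx ⟨(zNm (gm *ᵥ x) - zNm x) / (zTr (gm *ᵥ x) - zTr x), ?_⟩
    have h1 : (zTr (gm *ᵥ x) - zTr x) • (gm *ᵥ x) = (zNm (gm *ᵥ x) - zNm x) • (zOne : V8) := by
      linear_combination (norm := module) -h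
    have h2 : gm *ᵥ x = ((zNm (gm *ᵥ x) - zNm x) / (zTr (gm *ᵥ x) - zTr x)) • (zOne : V8) := by
      rw [div_eq_inv_mul, mul_smul, ← h1, smul_smul, inv_mul_cancel₀ (sub_ne_zero.2 ht), one_smul]
    have h3 := congrArg (fun z => ((g⁻¹ : GL (Fin 8) F) : Matrix (Fin 8) (Fin 8) F) *ᵥ z) h2
    rw [gm_inv, mulVec_smul] at h3
    have h4 : ((g⁻¹ : GL (Fin 8) F) : Matrix (Fin 8) (Fin 8) F) *ᵥ zOne = zOne := by
      conv_lhs => rw [← g2_one hg, gm_inv]
    rwa [h4] at h3
  refine ⟨ht, ?_⟩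
  rw [ht] at h
  have h1 : (zNm (gm *ᵥ x) - zNm x) • (zOne : V8) = 0 := by linear_combination (norm := module) h
  have := congrFun h1 0
  simpa [zOne, sub_eq_zero] using this

theorem g2_pol (hg : g ∈ Cfsg.Lie.G2 F) (x y : V8) : zPol (gm *ᵥ x) (gm *ᵥ y) = zPol x y := by
  have h := (g2_tr_nm hg (x + y)).2
  rw [mulVec_add, zNm_add, zNm_add, (g2_tr_nm hg x).2, (g2_tr_nm hg y).2] at h
  exact add_left_cancel h

/-- The trace as a linear map. -/
def zTrL : V8 →ₗ[F] F where
  toFun := zTr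
  map_add' x y := by simp [zTr]; ring
  map_smul' c x := by simp [zTr]; ring

/-- An automorphism moves some element of trace one by `0` or `1`. -/
theorem exists_shifted (h2 : (2 : F) = 0) (hg : g ∈ Cfsg.Lie.G2 F) :
    ∃ (w : V8) (k : F), zTr w = 1 ∧ gm *ᵥ w = w + k • zOne ∧ (k = 0 ∨ k = 1) := by
  classical
  let w₀ : V8 := Pi.single 0 1
  let D : V8 →ₗ[F] V8 := Matrix.toLin' gm - LinearMap.id
  have hD : ∀ x, D x = gm *ᵥ x - x := fun x => by simp [D]
  let S : Submodule F V8 := (LinearMap.ker (zTrL (F := F))).map D ⊔ Submodule.span F {zOne}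
  have hmem : D w₀ ∈ S := by
    by_contra hn
    obtain ⟨f, hf, hS⟩ := Submodule.exists_dual_map_eq_bot_of_notMem hn inferInstance
    have hS' : ∀ x ∈ S, f x = 0 := fun x hx => by
      have := Submodule.mem_map_of_mem (f := f) hx
      rwa [hS, Submodule.mem_bot] at this
    let F' : Fin 8 → F := fun i => f (Pi.single i 1)
    let y : V8 := ![F' 7, -F' 4, -F' 5, -F' 6, -F' 1, -F' 2, -F' 3, F' 0]
    have hy : ∀ x, f x = zPol y x := fun x => by
      conv_lhs => rw [pi_eq_sum_univ' x]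
      rw [map_sum]
      simp [Fin.sum_univ_eight, zPol, y, F', map_smul]
      ring
    have hty : y 0 + y 7 = 0 := by
      have := hS' zOne (Submodule.mem_sup_right (Submodule.mem_span_singleton_self _))
      rw [hy] at this
      simpa [zPol, zOne] using this
    obtain ⟨y', hy'⟩ : ∃ y', gm *ᵥ y' = y := ⟨((g⁻¹ : GL (Fin 8) F) : Matrix (Fin 8) (Fin 8) F) *ᵥ y, by
      rw [mulVec_mulVec, ← Units.val_mul, mul_inv_cancel, Units.val_one, one_mulVec]⟩
    have hd : ∀ z : V8, z 0 + z 7 = 0 → zPol y' z = zPol y z := fun z hz => by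
      have h := hS' (D z) (Submodule.mem_sup_left (Submodule.mem_map_of_mem hz))
      rw [hD, map_sub, sub_eq_zero, hy, hy] at h
      rw [← g2_pol hg y' z, hy', h]
    have hdiff : y' = y + (y' 0 - y 0) • zOne := by
      have e := fun i : Fin 8 => hd (Pi.single i 1)
      have e1 := e 1 (by simp); have e2 := e 2 (by simp); have e3 := e 3 (by simp)
      have e4 := e 4 (by simp); have e5 := e 5 (by simp); have e6 := e 6 (by simp)
      have e07 := hd ![1, 0, 0, 0, 0, 0, 0, -1] (by simp)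
      simp [zPol] at e1 e2 e3 e4 e5 e6 e07
      funext i
      fin_cases i <;> simp [zOne]
      · exact e4
      · exact e5
      · exact e6
      · exact e1
      · exact e2
      · exact e3
      · linear_combination e07
    generalize hc : y' 0 - y 0 = c at hdiff
    have hN := (g2_tr_nm hg y').2
    rw [hy', hdiff, zNm_add] at hN
    have hc0 : c = 0 := by
      simp [zPol, zNm, zOne] at hN
      exact (mul_eq_zero.1 (show c * c = 0 by linear_combination -hN - c * hty)).elim id id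
    rw [hc0, zero_smul, add_zero] at hdiff
    subst hdiff
    refine hf ?_
    rw [hD, map_sub, hy, hy, sub_eq_zero]
    conv_lhs => rw [← hy', g2_pol hg]
  obtain ⟨a, ⟨z, hz, rfl⟩, b, hb, hab⟩ := Submodule.mem_sup.1 hmem
  obtain ⟨k, rfl⟩ := Submodule.mem_span_singleton.1 hb
  have hz' : z 0 + z 7 = 0 := hz
  have hw : gm *ᵥ (w₀ - z) = (w₀ - z) + k • zOne := by
    rw [hD, hD] at hab
    rw [mulVec_sub]
    linear_combination (norm := module) -hab
  have htw : zTr (w₀ - z) = 1 := by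
    simp [zTr, w₀]
    linear_combination -hz'
  refine ⟨w₀ - z, k, htw, hw, ?_⟩
  have hN := (g2_tr_nm hg (w₀ - z)).2
  rw [hw] at hN
  have hN' : k * (k + 1) = 0 := by
    simp [zNm, zOne] at hN
    have hT : (w₀ - z) 0 + (w₀ - z) 7 = 1 := htw
    simp at hT
    linear_combination hN - k * hT
  rcases mul_eq_zero.1 hN' with h | h
  · exact Or.inl h
  · exact Or.inr (by linear_combination h - h2)

/-- The stabiliser of `{c, c + 1}`. -/
def g2Pair (h2 : (2 : F) = 0) (c : V8) : Subgroup (Cfsg.Lie.G2 F) where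
  carrier := {g | ∃ k : F, (k = 0 ∨ k = 1) ∧
    ((g : GL (Fin 8) F) : Matrix (Fin 8) (Fin 8) F) *ᵥ c = c + k • zOne}
  mul_mem' := by
    rintro a b ⟨k, hk, ha⟩ ⟨l, hl, hb⟩
    refine ⟨k + l, ?_, ?_⟩
    · rcases hk with rfl | rfl <;> rcases hl with rfl | rfl <;> simp [one_add_one_eq_two, h2]
    · rw [Subgroup.coe_mul, Units.val_mul, ← mulVec_mulVec, hb, mulVec_add, mulVec_smul, g2_one a.2, ha]
      module
  one_mem' := ⟨0, Or.inl rfl, by simp⟩
  inv_mem' := by
    rintro a ⟨k, hk, ha⟩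
    refine ⟨k, hk, ?_⟩
    have h := congrArg (fun z => (((a : GL (Fin 8) F)⁻¹ : GL (Fin 8) F) : Matrix (Fin 8) (Fin 8) F) *ᵥ z) ha
    rw [gm_inv, mulVec_add, mulVec_smul, g2_one (inv_mem a.2)] at h
    have hkk : k + k = 0 := by linear_combination k * h2
    rw [Subgroup.coe_inv]
    calc _ = c - k • zOne := eq_sub_of_add_eq h.symm
      _ = c + k • zOne := by
        rw [sub_eq_iff_eq_add, add_assoc, ← add_smul, hkk, zero_smul, add_zero]

variable [Fintype F]

theorem g2Pair_ne_top (h2 : (2 : F) = 0) (e : F) : g2Pair h2 (stdElt e) ≠ ⊤ := by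
  intro h
  obtain ⟨g, hg, hgx⟩ := exists_g2 _ (moveA_injective (![0, 1, 0] : Fin 3 → F)) (moveA_mul _)
  obtain ⟨k, -, hk⟩ : (⟨g, hg⟩ : Cfsg.Lie.G2 F) ∈ g2Pair h2 (stdElt e) := h ▸ Subgroup.mem_top _
  change (g : Matrix (Fin 8) (Fin 8) F) *ᵥ stdElt e = _ at hk
  rw [hgx] at hk
  have := congrFun hk 2
  simp [moveA, stdElt, zOne] at this

theorem g2_covered (h2 : (2 : F) = 0) : CoveredByTwo (Cfsg.Lie.G2 F) := by
  classical
  let φ : F →+ F := AddMonoidHom.mk' (fun t => t ^ 2 + t) fun a b => by linear_combination (a * b) * h2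
  have hidx : φ.range.index = 2 := by
    have hk : Nat.card φ.ker = 2 := by
      have e : (φ.ker : Set F) = {0, 1} := by
        ext t
        simp only [SetLike.mem_coe, AddMonoidHom.mem_ker, Set.mem_insert_iff, Set.mem_singleton_iff]
        show t ^ 2 + t = 0 ↔ _
        refine ⟨fun h => ?_, ?_⟩
        · rcases mul_eq_zero.1 (show t * (t + 1) = 0 by linear_combination h) with h | h
          · exact Or.inl h
          · exact Or.inr (by linear_combination h - h2)
        · rintro (rfl | rfl)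
          · ring
          · linear_combination h2
      show Nat.card ↥(φ.ker : Set F) = 2
      rw [Nat.card_coe_set_eq, e, Set.ncard_pair zero_ne_one]
    have h1 := φ.range.index_mul_card
    have h3 := φ.ker.index_mul_card
    rw [AddSubgroup.index_ker] at h3
    rw [hk] at h3
    exact mul_right_cancel₀ (Nat.card_pos (α := φ.range)).ne' (h1.trans (h3.symm.trans (mul_comm _ _)))
  obtain ⟨ε, hε⟩ : ∃ ε : F, ∀ e, e ∈ φ.range ∨ e - ε ∈ φ.range := by
    obtain ⟨ε, hε⟩ : ∃ ε, ε ∉ φ.range := by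
      by_contra hall
      push Not at hall
      rw [(AddSubgroup.eq_top_iff' φ.range).2 hall, AddSubgroup.index_top] at hidx
      omega
    refine ⟨ε, fun e => ?_⟩
    by_contra hc
    push Not at hc
    have := (AddSubgroup.add_mem_iff_of_index_two hidx (a := e) (b := -ε)).2
      (iff_of_false hc.1 (by rwa [AddSubgroup.neg_mem_iff]))
    exact hc.2 (by rwa [← sub_eq_add_neg] at this)
  refine ⟨g2Pair h2 (stdElt 0), g2Pair h2 (stdElt ε), g2Pair_ne_top h2 0, g2Pair_ne_top h2 ε, fun g => ?_⟩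
  obtain ⟨w, k, hT, hw, hk⟩ := exists_shifted h2 g.2
  have key : ∀ e', (∃ t, e' = zNm w + (t ^ 2 + t)) →
      ∃ x : Cfsg.Lie.G2 F, x * g * x⁻¹ ∈ g2Pair h2 (stdElt e') := by
    rintro e' ⟨t, rfl⟩
    have hT' : w 0 + w 7 = 1 := hT
    obtain ⟨x, hx, hxw⟩ := sameOrbit_std h2 (w := w + t • zOne) (e := zNm w + (t ^ 2 + t))
      (by simp [zOne]; linear_combination hT' + t * h2)
      (by simp [zOne, zNm]; linear_combination t * hT')
    refine ⟨⟨x, hx⟩, k, hk, ?_⟩
    show ((x * g.1 * x⁻¹ : GL (Fin 8) F) : Matrix (Fin 8) (Fin 8) F) *ᵥ _ = _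
    rw [Units.val_mul, Units.val_mul, ← hxw, ← mulVec_mulVec, gm_inv, ← mulVec_mulVec, mulVec_add,
      mulVec_smul, g2_one g.2, hw, mulVec_add, mulVec_smul, g2_one hx, mulVec_add, mulVec_smul, g2_one hx,
      mulVec_add, mulVec_smul, g2_one hx]
    module
  rcases hε (zNm w) with h | h
  · obtain ⟨t, ht⟩ := h
    obtain ⟨x, hx⟩ := key 0 ⟨t, by
      have ht' : t ^ 2 + t = zNm w := ht
      linear_combination -ht' - zNm w * h2⟩
    exact ⟨x, Or.inl hx⟩
  · obtain ⟨t, ht⟩ := h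
    obtain ⟨x, hx⟩ := key ε ⟨t, by
      have ht' : t ^ 2 + t = zNm w - ε := ht
      linear_combination -ht' + (ε - zNm w) * 0 + (ε - zNm w) * h2⟩
    exact ⟨x, Or.inr hx⟩

end CfsgLib.NormalCover
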