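import Mathlib

/-!
Orders of three by three matrices of determinant one whose roots are permuted by a twisted Frobenius.
-/

set_option autoImplicit false

namespace CfsgLib.NormalCover

open Matrix Polynomial

variable {L : Type*} [Field L]

/-- The second coefficient of the characteristic polynomial. -/
def midCoef (A : Matrix (Fin 3) (Fin 3) L) : L := A.adjugate.trace

theorem cayley_three {A : Matrix (Fin 3) (Fin 3) L} (hA : A.det = 1) :
    A * A * A - A.trace • (A * A) + midCoef A • A - 1 = 0 := by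
  rw [det_fin_three] at hA
  ext i j
  fin_cases i <;> fin_cases j <;>
    simp [midCoef, Matrix.mul_apply, Fin.sum_univ_three, Matrix.trace_fin_three, adjugate_fin_three]
  all_goals first
    | ring1
    | linear_combination hA
    | (ring_nf; done)

/-- A matrix of determinant one has three roots. -/
theorem exists_roots_three [IsAlgClosed L] {A : Matrix (Fin 3) (Fin 3) L} (hA : A.det = 1) :
    ∃ a b c : L, a + b + c = A.trace ∧ a * b + b * c + c * a = midCoef A ∧ a * b * c = 1 ∧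
      aeval A ((X - C a) * (X - C b) * (X - C c)) = 0 := by
  obtain ⟨T, hT⟩ : ∃ T, T = A.trace := ⟨_, rfl⟩
  obtain ⟨M, hM⟩ : ∃ M, M = midCoef A := ⟨_, rfl⟩
  obtain ⟨a, ha⟩ := IsAlgClosed.exists_root (X ^ 3 - C T * X ^ 2 + C M * X - 1 : L[X]) (by
    intro h
    have h3 : (X ^ 3 - C T * X ^ 2 + C M * X - 1 : L[X]).coeff 3 = 1 := by
      simp [coeff_X, coeff_one, coeff_C_mul, coeff_X_pow]
    rw [coeff_eq_zero_of_degree_lt (by rw [h]; decide)] at h3
    exact zero_ne_one h3)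
  obtain ⟨b, hb⟩ := IsAlgClosed.exists_root (X ^ 2 + C (a - T) * X + C (M + a * (a - T)) : L[X]) (by
    intro h
    have h3 : (X ^ 2 + C (a - T) * X + C (M + a * (a - T)) : L[X]).coeff 2 = 1 := by
      simp [coeff_X, coeff_C, coeff_C_mul, coeff_X_pow]
    rw [coeff_eq_zero_of_degree_lt (by rw [h]; decide)] at h3
    exact zero_ne_one h3)
  simp [IsRoot.def] at ha hb
  have h1 : a + b + (T - a - b) = T := by ring
  have h2 : a * b + b * (T - a - b) + (T - a - b) * a = M := by linear_combination -hb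
  have h3 : a * b * (T - a - b) = 1 := by linear_combination ha - a * hb
  refine ⟨a, b, T - a - b, hT ▸ h1, hM ▸ h2, h3, ?_⟩
  have hp : (X - C a) * (X - C b) * (X - C (T - a - b)) = X ^ 3 - C T * X ^ 2 + C M * X - C (1 : L) := by
    conv_rhs => rw [← h1, ← h2, ← h3]
    simp only [map_add, map_mul, map_sub]
    ring
  rw [hp]
  simp only [map_sub, map_add, map_mul, map_pow, aeval_X, aeval_C, Algebra.algebraMap_eq_smul_one]
  simp only [pow_succ, pow_zero, one_mul, Matrix.smul_mul, one_smul]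
  rw [hT, hM]
  exact cayley_three hA

theorem pow_eq_one_of_dvd {A : Matrix (Fin 3) (Fin 3) L} {p : L[X]} (hp : aeval A p = 0) {N : ℕ}
    (h : p ∣ X ^ N - 1) : A ^ N = 1 := by
  obtain ⟨r, hr⟩ := h
  have := congrArg (aeval A) hr
  rw [map_mul, hp, zero_mul] at this
  simpa [sub_eq_zero] using this

theorem dvd_distinct {N : ℕ} (hN : 0 < N) {s : Finset L} (h : ∀ x ∈ s, x ^ N = 1) :
    (∏ x ∈ s, (X - C x)) ∣ (X ^ N - 1 : L[X]) := by
  classical
  have hne : (X ^ N - 1 : L[X]) ≠ 0 := by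
    rw [← C_1]; exact X_pow_sub_C_ne_zero hN 1
  rw [Finset.prod_eq_multiset_prod, Multiset.prod_X_sub_C_dvd_iff_le_roots hne,
    Multiset.le_iff_subset s.nodup]
  intro x hx
  rw [mem_roots hne]
  simp [h x hx]

theorem pow_distinct {A : Matrix (Fin 3) (Fin 3) L} {a b c : L} {N : ℕ} (hN : 0 < N)
    (hA : aeval A ((X - C a) * (X - C b) * (X - C c)) = 0) (hab : a ≠ b) (hbc : b ≠ c) (hca : c ≠ a)
    (ha : a ^ N = 1) (hb : b ^ N = 1) (hc : c ^ N = 1) : A ^ N = 1 := by
  classical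
  refine pow_eq_one_of_dvd hA ?_
  have h := dvd_distinct hN (s := {a, b, c}) (by simp [ha, hb, hc])
  rwa [Finset.prod_insert (by simp [hab, hca.symm]), Finset.prod_insert (by simp [hbc]), Finset.prod_singleton,
    ← mul_assoc] at h

theorem pow_double (h2 : (2 : L) = 0) {A : Matrix (Fin 3) (Fin 3) L} {a c : L} {N : ℕ} (hN : 0 < N)
    (hA : aeval A ((X - C a) * (X - C a) * (X - C c)) = 0) (hac : a ≠ c)
    (ha : a ^ N = 1) (hc : c ^ N = 1) : A ^ (2 * N) = 1 := by
  classical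
  refine pow_eq_one_of_dvd hA ?_
  have h1 := dvd_distinct hN (s := {a}) (by simp [ha])
  have h12 := dvd_distinct hN (s := {a, c}) (by simp [ha, hc])
  rw [Finset.prod_singleton] at h1
  rw [Finset.prod_insert (by simp [hac]), Finset.prod_singleton] at h12
  have h := mul_dvd_mul h1 h12
  rw [← mul_assoc] at h
  have e : (X ^ N - 1 : L[X]) * (X ^ N - 1) = X ^ (2 * N) - 1 := by
    have hC : (2 : L[X]) = 0 := by rw [← map_ofNat C 2, h2, map_zero]
    rw [two_mul N, pow_add]
    linear_combination (1 - X ^ N) * hC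
  rwa [e] at h

theorem pow_triple (h2 : (2 : L) = 0) {A : Matrix (Fin 3) (Fin 3) L} {a : L}
    (hA : aeval A ((X - C a) * (X - C a) * (X - C a)) = 0) (ha : a ^ 3 = 1) :
    A ^ 12 = 1 ∧ (a = 1 → A ^ 4 = 1) := by
  have e : ((X - C a) * (X - C a) * (X - C a) : L[X]) * (X - C a) = X ^ 4 - C a := by
    have hC : (2 : L[X]) = 0 := by rw [← map_ofNat C 2, h2, map_zero]
    have ha4 : a * (a * (a * a)) = a := by linear_combination a * ha
    conv_rhs => rw [← ha4]
    simp only [map_mul]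
    linear_combination (-2 * X ^ 3 * C a + 3 * X ^ 2 * C a ^ 2 - 2 * X * C a ^ 3 + C a ^ 4) * hC
  have h := congrArg (aeval A) e
  rw [map_mul, hA, zero_mul, map_sub, map_pow, aeval_X, aeval_C] at h
  have h4 : A ^ 4 = algebraMap L _ a := sub_eq_zero.1 h.symm
  refine ⟨?_, fun h1 => by rw [h4, h1, map_one]⟩
  rw [show 12 = 4 * 3 from rfl, pow_mul, h4, ← map_pow, ha, map_one]

/-- Two triples with the same elementary symmetric functions agree as multisets. -/
theorem triple_eq {a b c a' b' c' : L} (h1 : a' + b' + c' = a + b + c)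
    (h2 : a' * b' + b' * c' + c' * a' = a * b + b * c + c * a) (h3 : a' * b' * c' = a * b * c) :
    (a' ::ₘ b' ::ₘ c' ::ₘ 0) = (a ::ₘ b ::ₘ c ::ₘ 0) := by
  have h : ((a' ::ₘ b' ::ₘ c' ::ₘ 0).map fun x => X - C x).prod =
      ((a ::ₘ b ::ₘ c ::ₘ 0).map fun x => X - C x).prod := by
    have e1 := congrArg C h1
    have e2 := congrArg C h2
    have e3 := congrArg C h3
    simp only [map_add, map_mul] at e1 e2 e3
    simp
    linear_combination -X ^ 2 * e1 + X * e2 - e3
  have h' := congrArg roots h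
  rwa [roots_multiset_prod_X_sub_C, roots_multiset_prod_X_sub_C] at h'

/-- The roots of a twisted stable matrix. -/
theorem inner_cases (h2 : (2 : L) = 0) {A : Matrix (Fin 3) (Fin 3) L} {a b c : L}
    (hA : aeval A ((X - C a) * (X - C b) * (X - C c)) = 0) (habc : a * b * c = 1)
    {φ : L → L} (hφ : Function.Injective φ) (hR : (φ a ::ₘ φ b ::ₘ φ c ::ₘ 0) = (a ::ₘ b ::ₘ c ::ₘ 0))
    {N₁ N₂ N₃ : ℕ} (h1 : 0 < N₁) (h12 : N₁ ∣ N₂) (h2' : 0 < N₂) (h3 : 0 < N₃)
    (hfix : ∀ x, x ≠ 0 → φ x = x → x ^ N₁ = 1) (hsq : ∀ x, x ≠ 0 → φ (φ x) = x → x ^ N₂ = 1)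
    (hcyc : ∀ x, x ≠ 0 → x * φ x * φ (φ x) = 1 → x ^ N₃ = 1) :
    A ^ N₂ = 1 ∨ A ^ N₃ = 1 ∨ A ^ (2 * N₁) = 1 ∨ A ^ 12 = 1 := by
  classical
  have ha0 : a ≠ 0 := by rintro rfl; simp at habc
  have hb0 : b ≠ 0 := by rintro rfl; simp at habc
  have hc0 : c ≠ 0 := by rintro rfl; simp at habc
  -- a repeated root is fixed
  have hdouble : ∀ a c : L, aeval A ((X - C a) * (X - C a) * (X - C c)) = 0 → a * a * c = 1 →
      (φ a ::ₘ φ a ::ₘ φ c ::ₘ 0) = (a ::ₘ a ::ₘ c ::ₘ 0) →
      A ^ N₂ = 1 ∨ A ^ N₃ = 1 ∨ A ^ (2 * N₁) = 1 ∨ A ^ 12 = 1 := by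
    intro a c hA haac hR
    have ha0 : a ≠ 0 := by rintro rfl; simp at haac
    have hc0 : c ≠ 0 := by rintro rfl; simp at haac
    by_cases hac : a = c
    · subst hac
      exact Or.inr (Or.inr (Or.inr (pow_triple h2 hA (by rw [pow_succ, pow_two]; exact haac)).1))
    have hcnt := congrArg (Multiset.count (φ a)) hR
    simp only [Multiset.count_cons, Multiset.count_zero, if_true] at hcnt
    have hφa : φ a = a := by
      by_contra hne
      simp [hne] at hcnt
      split_ifs at hcnt <;> first | omega | exact hac (hφ (by assumption)) | exact hne (by assumption)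
    have hφc : φ c = c := by
      have : φ c ∈ (a ::ₘ a ::ₘ c ::ₘ 0) := hR ▸ by simp
      simp at this
      exact this.resolve_left fun h => hac (hφ (hφa.trans h.symm))
    exact Or.inr (Or.inr (Or.inl (pow_double h2 h1 hA hac (hfix a ha0 hφa) (hfix c hc0 hφc))))
  by_cases hab : a = b
  · subst hab; exact hdouble a c hA habc hR
  by_cases hbc : b = c
  · subst hbc
    refine hdouble b a ?_ (by linear_combination habc) ?_
    · rwa [show (X - C b) * (X - C b) * (X - C a) = (X - C a) * (X - C b) * (X - C b) by ring]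
    · rwa [Multiset.cons_swap (φ b) (φ a) 0, Multiset.cons_swap (φ b) (φ a), Multiset.cons_swap b a 0,
        Multiset.cons_swap b a]
  by_cases hca : c = a
  · subst hca
    refine hdouble c b ?_ (by linear_combination habc) ?_
    · rwa [show (X - C c) * (X - C c) * (X - C b) = (X - C c) * (X - C b) * (X - C c) by ring]
    · simp only [← Multiset.singleton_add] at hR ⊢
      simpa [add_comm, add_left_comm] using hR
  have mem : ∀ x, (x = a ∨ x = b ∨ x = c) → (φ x = a ∨ φ x = b ∨ φ x = c) := by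
    intro x hx
    have : φ x ∈ (a ::ₘ b ::ₘ c ::ₘ 0) := hR ▸ by rcases hx with rfl | rfl | rfl <;> simp
    simpa using this
  have key : (∀ x, (x = a ∨ x = b ∨ x = c) → φ (φ x) = x) ∨
      (∀ x, (x = a ∨ x = b ∨ x = c) → x * φ x * φ (φ x) = 1) := by
    have iab : φ a ≠ φ b := hφ.ne hab
    have ibc : φ b ≠ φ c := hφ.ne hbc
    have ica : φ c ≠ φ a := hφ.ne hca
    rcases mem a (Or.inl rfl) with ea | ea | ea <;> rcases mem b (Or.inr (Or.inl rfl)) with eb | eb | eb <;>
      rcases mem c (Or.inr (Or.inr rfl)) with ec | ec | ec <;>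
      first
      | exact absurd (ea.trans eb.symm) iab
      | exact absurd (eb.trans ec.symm) ibc
      | exact absurd (ec.trans ea.symm) ica
      | (left; rintro x (rfl | rfl | rfl) <;> simp only [ea, eb, ec]; done)
      | (right; rintro x (rfl | rfl | rfl) <;> simp only [ea, eb, ec] <;> linear_combination habc; done)
  rcases key with key | key
  · exact Or.inl (pow_distinct h2' hA hab hbc hca (hsq a ha0 (key a (Or.inl rfl)))
      (hsq b hb0 (key b (Or.inr (Or.inl rfl)))) (hsq c hc0 (key c (Or.inr (Or.inr rfl)))))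
  · exact Or.inr (Or.inl (pow_distinct h3 hA hab hbc hca (hcyc a ha0 (key a (Or.inl rfl)))
      (hcyc b hb0 (key b (Or.inr (Or.inl rfl)))) (hcyc c hc0 (key c (Or.inr (Or.inr rfl))))))

/-- A matrix similar to its inverse transpose with roots moved among themselves by `q`-th powers. -/
theorem outer_cases (h2 : (2 : L) = 0) {A : Matrix (Fin 3) (Fin 3) L} {a b c : L}
    (hA : aeval A ((X - C a) * (X - C b) * (X - C c)) = 0) (habc : a * b * c = 1)
    (hinv : (a⁻¹ ::ₘ b⁻¹ ::ₘ c⁻¹ ::ₘ 0) = (a ::ₘ b ::ₘ c ::ₘ 0)) {q : ℕ} (hq : 2 ≤ q)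
    (hqi : Function.Injective fun x : L => x ^ q)
    (hR : ∀ x, (x = a ∨ x = b ∨ x = c) → (x ^ q = a ∨ x ^ q = b ∨ x ^ q = c) ∨
      ((x ^ q)⁻¹ = a ∨ (x ^ q)⁻¹ = b ∨ (x ^ q)⁻¹ = c)) :
    A ^ (q - 1) = 1 ∨ A ^ (q + 1) = 1 ∨ A ^ 4 = 1 := by
  classical
  have ha0 : a ≠ 0 := by rintro rfl; simp at habc
  have hb0 : b ≠ 0 := by rintro rfl; simp at habc
  have hc0 : c ≠ 0 := by rintro rfl; simp at habc
  have mem : ∀ x, (x = a ∨ x = b ∨ x = c) → (x⁻¹ = a ∨ x⁻¹ = b ∨ x⁻¹ = c) := by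
    intro x hx
    have : x⁻¹ ∈ (a ::ₘ b ::ₘ c ::ₘ 0) := hinv ▸ by rcases hx with rfl | rfl | rfl <;> simp
    simpa using this
  have hsq1 : ∀ x : L, x ≠ 0 → x⁻¹ = x → x = 1 := by
    intro x hx0 hx
    have h : x * x = 1 := by nth_rw 1 [← hx]; exact inv_mul_cancel₀ hx0
    have hz : (x - 1) * (x - 1) = 0 := by linear_combination h - (x - 1) * h2
    exact sub_eq_zero.1 (mul_self_eq_zero.1 hz)
  -- the roots are `1, μ, μ⁻¹`
  have hform : ∃ μ, μ ≠ 0 ∧ ((a ::ₘ b ::ₘ c ::ₘ 0) = (1 ::ₘ μ ::ₘ μ⁻¹ ::ₘ 0)) := by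
    rcases mem a (Or.inl rfl) with e | e | e
    · have a1 := hsq1 a ha0 e
      subst a1
      exact ⟨b, hb0, by rw [show c = b⁻¹ from eq_inv_of_mul_eq_one_right (by linear_combination habc)]⟩
    · have hc1 : c = 1 := by subst e; field_simp at habc; linear_combination habc
      subst hc1; subst e
      exact ⟨a, ha0, by rw [Multiset.cons_swap a⁻¹ 1 0, Multiset.cons_swap a 1]⟩
    · have hb1 : b = 1 := by subst e; field_simp at habc; linear_combination habc
      subst hb1; subst e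
      exact ⟨a, ha0, by rw [Multiset.cons_swap a 1]⟩
  obtain ⟨μ, hμ0, hμ⟩ := hform
  have hp : aeval A ((X - C 1) * (X - C μ) * (X - C μ⁻¹)) = 0 := by
    have := congrArg (fun s : Multiset L => (s.map fun x => X - C x).prod) hμ
    simp only [Multiset.map_cons, Multiset.map_zero, Multiset.prod_cons, Multiset.prod_zero, mul_one] at this
    rw [mul_assoc, ← this, ← mul_assoc]; exact hA
  by_cases h1 : μ = 1
  · subst h1
    rw [inv_one] at hp
    exact Or.inr (Or.inr ((pow_triple h2 hp (one_pow 3)).2 rfl))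
  have hne : μ ≠ μ⁻¹ := fun h => h1 (hsq1 μ hμ0 h.symm)
  have h1i : (1 : L) ≠ μ⁻¹ := fun h => h1 (by rw [← inv_inv μ, ← h, inv_one])
  have hmem : ∀ x, (x = a ∨ x = b ∨ x = c) ↔ (x = 1 ∨ x = μ ∨ x = μ⁻¹) := fun x => by
    have := congrArg (fun s : Multiset L => x ∈ s) hμ
    simpa using this
  have hq' : μ ^ q = μ ∨ μ ^ q = μ⁻¹ := by
    have hq1 : μ ^ q = 1 ∨ μ ^ q = μ ∨ μ ^ q = μ⁻¹ := by
      rcases hR μ ((hmem μ).2 (Or.inr (Or.inl rfl))) with h | h
      · exact (hmem _).1 h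
      · rcases (hmem _).1 h with h | h | h
        · exact Or.inl (inv_eq_one.1 h)
        · exact Or.inr (Or.inr (inv_eq_iff_eq_inv.1 h))
        · exact Or.inr (Or.inl (inv_injective h))
    rcases hq1 with h | h
    · exact absurd (hqi (show μ ^ q = 1 ^ q by rw [h, one_pow])) h1
    · exact h
  rcases hq' with h | h
  · have hN : μ ^ (q - 1) = 1 := mul_right_cancel₀ hμ0 (by
      rw [← pow_succ, Nat.sub_add_cancel (by omega), h, one_mul])
    exact Or.inl (pow_distinct (by omega) hp (Ne.symm h1) hne h1i.symm (one_pow _) hN (by rw [inv_pow, hN, inv_one]))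
  · have hN : μ ^ (q + 1) = 1 := by rw [pow_succ, h, inv_mul_cancel₀ hμ0]
    exact Or.inr (Or.inl (pow_distinct (by omega) hp (Ne.symm h1) hne h1i.symm (one_pow _) hN
      (by rw [inv_pow, hN, inv_one])))

end CfsgLib.NormalCover
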