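import Mathlib
import Cfsg.Agent.Lib.NormalCover.G2Stab
import Cfsg.Agent.Lib.NormalCover.G2Cubic

/-!
Element orders of the automorphism group of Zorn's algebra in characteristic two.
-/

set_option autoImplicit false
set_option maxHeartbeats 1000000

namespace CfsgLib.NormalCover

open Matrix Cfsg.Lie Polynomial

variable {L : Type*} [Field L]

/-- Invariants of similarity. -/
theorem coef_of_conj {A B C : Matrix (Fin 3) (Fin 3) L} (hC : C.det = 1) (h : B * C = C * A) :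
    B.trace = A.trace ∧ midCoef B = midCoef A := by
  have e1 : C * C.adjugate = 1 := by rw [mul_adjugate, hC, one_smul]
  have e2 : C.adjugate * C = 1 := by rw [adjugate_mul, hC, one_smul]
  constructor
  · rw [show B = C * A * C.adjugate by rw [← h, mul_assoc, e1, mul_one], trace_mul_comm, ← mul_assoc, e2, one_mul]
  · have h' : C.adjugate * B.adjugate = A.adjugate * C.adjugate := by
      rw [← adjugate_mul_distrib, h, adjugate_mul_distrib]
    unfold midCoef
    rw [show B.adjugate = C * A.adjugate * C.adjugate by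
      rw [mul_assoc, ← h', ← mul_assoc, e1, one_mul], trace_mul_comm, ← mul_assoc, e2, one_mul]

/-- Invariants of the inverse transpose. -/
theorem coef_adjT {A : Matrix (Fin 3) (Fin 3) L} (hA : A.det = 1) :
    (adjT A).trace = midCoef A ∧ midCoef (adjT A) = A.trace := by
  refine ⟨trace_transpose _, ?_⟩
  unfold midCoef adjT
  rw [← adjugate_transpose, trace_transpose, adjugate_adjugate _ (by simp), hA, one_pow, one_smul]

/-- Invariants under a ring homomorphism. -/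
theorem coef_map {A : Matrix (Fin 3) (Fin 3) L} (σ : L →+* L) :
    (A.map σ).trace = σ A.trace ∧ midCoef (A.map σ) = σ (midCoef A) := by
  refine ⟨(AddMonoidHom.map_trace σ.toAddMonoidHom A).symm, ?_⟩
  unfold midCoef
  show _ = σ.toAddMonoidHom _
  rw [AddMonoidHom.map_trace σ.toAddMonoidHom]
  exact congrArg trace (RingHom.map_adjugate σ A).symm

variable {F : Type*} [Field F] [Fintype F]

local notation "gm" g:max => ((g : GL (Fin 8) L) : Matrix (Fin 8) (Fin 8) L)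

/-- Powers in the stabiliser of the idempotent. -/
theorem pow_moveS {z : GL (Fin 8) L} {A : Matrix (Fin 3) (Fin 3) L} (h : ∀ x, gm z *ᵥ x = moveS A x) (n : ℕ)
    (x : Fin 8 → L) : gm (z ^ n) *ᵥ x = moveS (A ^ n) x := by
  induction n generalizing x with
  | zero => simp [moveS_one]
  | succ n ih => rw [pow_succ, Units.val_mul, ← mulVec_mulVec, h, ih, moveS_comp, pow_succ]

theorem pow_eq_one_of_moveS {z : GL (Fin 8) L} {A : Matrix (Fin 3) (Fin 3) L} (h : ∀ x, gm z *ᵥ x = moveS A x)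
    {n : ℕ} (hn : A ^ n = 1) : z ^ n = 1 := by
  refine Units.ext (Matrix.ext_iff_mulVec.2 fun x => ?_)
  rw [pow_moveS h, hn, moveS_one, Units.val_one, one_mulVec]

theorem g2_eZero_compl {z : GL (Fin 8) L} (hz : z ∈ Cfsg.Lie.G2 L) {c : L}
    (he : gm z *ᵥ eZero = eZero + c • zOne) (h2 : (2 : L) = 0) (hc : c = 1) {s : GL (Fin 8) L}
    (hs : s ∈ Cfsg.Lie.G2 L) (hsx : ∀ x, gm s *ᵥ x = moveX x) :
    s * z ∈ Cfsg.Lie.G2 L ∧ gm (s * z) *ᵥ eZero = eZero := by
  refine ⟨mul_mem hs hz, ?_⟩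
  rw [Units.val_mul, ← mulVec_mulVec, he, hc, one_smul, hsx]
  funext i
  fin_cases i <;> simp [moveX, eZero, zOne]
  linear_combination h2

/-- The roots of the twisted Galois action. -/
theorem triple_twist {A C : Matrix (Fin 3) (Fin 3) L} (hC : C.det = 1) (σ : L →+* L) {a b c : L}
    (h1 : a + b + c = A.trace) (h2 : a * b + b * c + c * a = midCoef A) (h3 : a * b * c = 1) :
    (A.map σ * C = C * A → (σ a ::ₘ σ b ::ₘ σ c ::ₘ 0) = (a ::ₘ b ::ₘ c ::ₘ 0)) ∧
    (A.det = 1 → adjT (A.map σ) * C = C * A →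
      ((σ a)⁻¹ ::ₘ (σ b)⁻¹ ::ₘ (σ c)⁻¹ ::ₘ 0) = (a ::ₘ b ::ₘ c ::ₘ 0)) := by
  have s1 : σ a + σ b + σ c = σ A.trace := by rw [← h1, map_add, map_add]
  have s2 : σ a * σ b + σ b * σ c + σ c * σ a = σ (midCoef A) := by rw [← h2]; simp
  have s3 : σ a * σ b * σ c = 1 := by rw [← map_mul, ← map_mul, h3, map_one]
  refine ⟨fun h => ?_, fun hA h => ?_⟩
  · obtain ⟨e1, e2⟩ := coef_of_conj hC h
    rw [(coef_map σ).1] at e1
    rw [(coef_map σ).2] at e2
    exact triple_eq (by rw [s1, e1, h1]) (by rw [s2, e2, h2]) (by rw [s3, h3])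
  · obtain ⟨e1, e2⟩ := coef_of_conj hC h
    obtain ⟨f1, f2⟩ := coef_adjT (A := A.map σ) (by
      rw [show A.map σ = σ.mapMatrix A from rfl, ← RingHom.map_det, hA, map_one])
    rw [f1, (coef_map σ).2] at e1
    rw [f2, (coef_map σ).1] at e2
    have na : σ a ≠ 0 := left_ne_zero_of_mul (left_ne_zero_of_mul_eq_one s3)
    have nb : σ b ≠ 0 := right_ne_zero_of_mul (left_ne_zero_of_mul_eq_one s3)
    have nc : σ c ≠ 0 := right_ne_zero_of_mul_eq_one s3
    have ia : (σ a)⁻¹ = σ b * σ c := inv_eq_of_mul_eq_one_right (by rw [← mul_assoc]; exact s3)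
    have ib : (σ b)⁻¹ = σ a * σ c := inv_eq_of_mul_eq_one_right (by linear_combination s3)
    have ic : (σ c)⁻¹ = σ a * σ b := inv_eq_of_mul_eq_one_right (by linear_combination s3)
    rw [ia, ib, ic]
    refine triple_eq ?_ ?_ ?_
    · linear_combination s2 + e1 - h1
    · linear_combination (σ a + σ b + σ c) * s3 + s1 + e2 - h2
    · linear_combination (σ a * σ b * σ c + 1) * s3 - h3

omit [Fintype F] in
/-- An idempotent of trace one and norm zero is conjugate to the diagonal one. -/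
theorem exists_to_eZero (h2 : (2 : L) = 0) {u : Fin 8 → L} (hT : u 0 + u 7 = 1)
    (hN : u 0 * u 7 - (u 1 * u 4 + u 2 * u 5 + u 3 * u 6) = 0) :
    ∃ x ∈ Cfsg.Lie.G2 L, gm x *ᵥ u = eZero := by
  obtain ⟨x, hx, hxu⟩ := sameOrbit_std h2 hT hN
  obtain ⟨y, hy, hye⟩ := sameOrbit_std h2 (w := (eZero : Fin 8 → L)) (e := 0) (by simp [eZero]) (by simp [eZero])
  refine ⟨y⁻¹ * x, mul_mem (inv_mem hy) hx, ?_⟩
  rw [Units.val_mul, ← mulVec_mulVec, hxu, ← hye, gm_inv]

omit [Fintype F] in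
/-- Exponents of a block whose roots are moved by a twisted Frobenius. -/
theorem inner_orders {K : Type*} [Field K] (h2 : (2 : K) = 0) {q : ℕ} (hq : 2 ≤ q) {σ : K → K}
    (hσ : ∀ x, σ x = x ^ q) (hσi : Function.Injective σ) {A : Matrix (Fin 3) (Fin 3) K} {a b d : K}
    (hp : aeval A ((X - C a) * (X - C b) * (X - C d)) = 0) (r3 : a * b * d = 1)
    (htw : (σ a ::ₘ σ b ::ₘ σ d ::ₘ 0) = (a ::ₘ b ::ₘ d ::ₘ 0) ∨
      ((σ a)⁻¹ ::ₘ (σ b)⁻¹ ::ₘ (σ d)⁻¹ ::ₘ 0) = (a ::ₘ b ::ₘ d ::ₘ 0)) :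
    A ^ (q ^ 2 - 1) = 1 ∨ A ^ (q ^ 2 + q + 1) = 1 ∨ A ^ (q ^ 2 - q + 1) = 1 ∨
      A ^ (2 * (q - 1)) = 1 ∨ A ^ (2 * (q + 1)) = 1 ∨ A ^ 12 = 1 := by
  have hnz : ∀ t : K, t ≠ 0 → ∀ n : ℕ, 1 ≤ n → t ^ n = t → t ^ (n - 1) = 1 := fun t ht n hn he =>
    mul_right_cancel₀ ht (by rw [← pow_succ, Nat.sub_add_cancel hn, he, one_mul])
  have hle : q ≤ q ^ 2 := Nat.le_self_pow two_ne_zero q
  have h12 : q ^ 2 - 1 = (q + 1) * (q - 1) := by simpa using Nat.sq_sub_sq q 1
  have hpos : 0 < q ^ 2 - 1 := by rw [h12]; exact Nat.mul_pos (by omega) (by omega)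
  have hsq : ∀ t : K, σ (σ t) = t ^ q ^ 2 := fun t => by rw [hσ, hσ, ← pow_mul, ← pow_two]
  rcases htw with h | h
  · rcases inner_cases h2 hp r3 hσi h (N₁ := q - 1) (N₂ := q ^ 2 - 1) (N₃ := q ^ 2 + q + 1) (by omega)
        (h12 ▸ dvd_mul_left _ _) hpos (by positivity)
        (fun t ht he => hnz t ht q (by omega) (by rw [← hσ]; exact he))
        (fun t ht he => hnz t ht _ (by omega) (by rw [← hsq]; exact he))
        (fun t ht he => by rw [hsq, hσ] at he; rw [pow_succ, pow_add]; linear_combination he)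
      with h | h | h | h <;> tauto
  · rcases inner_cases h2 hp r3 (φ := fun t => (σ t)⁻¹) (inv_injective.comp hσi) h (N₁ := q + 1)
        (N₂ := q ^ 2 - 1) (N₃ := q ^ 2 - q + 1) (by omega) (h12 ▸ dvd_mul_right _ _) hpos (by positivity)
        (fun t ht he => by
          rw [hσ] at he
          rw [pow_succ]
          nth_rw 2 [← he]
          exact mul_inv_cancel₀ (pow_ne_zero _ ht))
        (fun t ht he => hnz t ht _ (by omega) (by
          simp only [hσ, inv_pow, inv_inv, ← pow_mul] at he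
          rw [pow_two]; exact he))
        (fun t ht he => by
          simp only [hσ, inv_pow, inv_inv, ← pow_mul] at he
          have hne : t ^ q ≠ 0 := pow_ne_zero _ ht
          refine mul_right_cancel₀ hne ?_
          rw [one_mul, ← pow_add, show q ^ 2 - q + 1 + q = q * q + 1 by rw [← pow_two]; omega, pow_succ]
          field_simp at he
          linear_combination he)
      with h | h | h | h <;> tauto

/-- Every automorphism in characteristic two is killed by one of seven exponents. -/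
theorem g2_order_cases (h2 : (2 : F) = 0) {q : ℕ} (hq : Fintype.card F = q) {g : GL (Fin 8) F}
    (hg : g ∈ Cfsg.Lie.G2 F) :
    ∃ n ∈ ({8, 12, 2 * (q + 1), 2 * (q - 1), q ^ 2 - 1, q ^ 2 + q + 1, q ^ 2 - q + 1} : Set ℕ), g ^ n = 1 := by
  classical
  have hq2 : 2 ≤ q := hq ▸ Fintype.one_lt_card
  let K := AlgebraicClosure F
  let ι : F →+* K := algebraMap F K
  let σ : K →+* K := (FiniteField.frobeniusAlgHom F K).toRingHom
  have hσ : ∀ x : K, σ x = x ^ q := fun x => by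
    show (FiniteField.frobeniusAlgHom F K) x = _
    rw [FiniteField.coe_frobeniusAlgHom, hq]
  have hσι : ∀ a : F, σ (ι a) = ι a := fun a => by rw [hσ, ← map_pow, ← hq, FiniteField.pow_card]
  have hσi : Function.Injective σ := σ.injective
  have hK2 : (2 : K) = 0 := by rw [← map_ofNat ι 2, h2, map_zero]
  obtain ⟨gL, hgL⟩ : ∃ gL, gL = Matrix.GeneralLinearGroup.map ι g := ⟨_, rfl⟩
  have hgLm : gL ∈ Cfsg.Lie.G2 K := hgL ▸ map_mem_g2 ι hg
  have hdown : ∀ n : ℕ, gL ^ n = 1 → g ^ n = 1 := by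
    intro n hn
    rw [hgL, ← map_pow] at hn
    refine Units.ext (Matrix.ext fun i j => ι.injective ?_)
    have := congrArg (fun z : GL (Fin 8) K => (z : Matrix (Fin 8) (Fin 8) K) i j) hn
    simp [Matrix.one_apply, apply_ite ι] at this ⊢
    rw [← this]
    exact congrFun (congrFun (Matrix.map_pow (g : Matrix (Fin 8) (Fin 8) F) ι n) i) j
  obtain ⟨w, k, hTw, hgw, hk⟩ := exists_shifted h2 hg
  obtain ⟨w', hw'⟩ : ∃ w', w' = ι ∘ w := ⟨_, rfl⟩
  have hgw' : (gL : Matrix (Fin 8) (Fin 8) K) *ᵥ w' = w' + ι k • zOne := by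
    funext i
    rw [hgL, hw']
    refine (RingHom.map_mulVec ι _ w i).symm.trans ?_
    rw [hgw, Pi.add_apply, Pi.smul_apply, Pi.add_apply, Pi.smul_apply, smul_eq_mul, map_add, map_mul]
    fin_cases i <;> simp [zOne]
  obtain ⟨l, hl⟩ := IsAlgClosed.exists_root (X ^ 2 + X + C (ι (zNm w)) : K[X]) (by
    intro h
    have h3 : (X ^ 2 + X + C (ι (zNm w)) : K[X]).coeff 2 = 1 := by simp [coeff_X, coeff_C, coeff_X_pow]
    rw [coeff_eq_zero_of_degree_lt (by rw [h]; decide)] at h3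
    exact zero_ne_one h3)
  simp [IsRoot.def] at hl
  obtain ⟨u, hu⟩ : ∃ u, u = w' + l • (zOne : Fin 8 → K) := ⟨_, rfl⟩
  have hu' : ∀ i, u i = ι (w i) + l * (zOne : Fin 8 → K) i := fun i => by rw [hu, hw']; rfl
  have hTw' : ι (w 0) + ι (w 7) = 1 := by rw [← map_add, show w 0 + w 7 = 1 from hTw, map_one]
  obtain ⟨x, hx, hxu⟩ := exists_to_eZero hK2 (u := u)
    (by simp [hu', zOne]; linear_combination hTw' + l * hK2)
    (by
      have hn : ι (zNm w) = ι (w 0) * ι (w 7) - (ι (w 1) * ι (w 4) + ι (w 2) * ι (w 5) + ι (w 3) * ι (w 6)) := by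
        simp [zNm]
      simp [hu', zOne]
      linear_combination l * hTw' + hl - hn)
  -- the conjugate moves the idempotent by `k`
  obtain ⟨h, hh⟩ : ∃ h, h = x * gL * x⁻¹ := ⟨_, rfl⟩
  have hxone : ∀ z ∈ Cfsg.Lie.G2 K, ((z : GL (Fin 8) K) : Matrix (Fin 8) (Fin 8) K) *ᵥ zOne = zOne :=
    fun z hz => g2_one hz
  have hhe : (h : Matrix (Fin 8) (Fin 8) K) *ᵥ eZero = eZero + ι k • zOne := by
    have hgu : (gL : Matrix (Fin 8) (Fin 8) K) *ᵥ u = u + ι k • zOne := by
      rw [hu, mulVec_add, mulVec_smul, hxone gL hgLm, hgw']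
      module
    rw [hh, Units.val_mul, Units.val_mul, ← hxu, ← mulVec_mulVec, gm_inv, ← mulVec_mulVec, hgu, mulVec_add,
      mulVec_smul, hxone x hx]
  have hhm : h ∈ Cfsg.Lie.G2 K := hh ▸ mul_mem (mul_mem hx hgLm) (inv_mem hx)
  -- the Galois twist
  obtain ⟨y, hy⟩ : ∃ y, y = Matrix.GeneralLinearGroup.map σ x * x⁻¹ := ⟨_, rfl⟩
  have hym : y ∈ Cfsg.Lie.G2 K := hy ▸ mul_mem (map_mem_g2 σ hx) (inv_mem hx)
  have hσg : Matrix.GeneralLinearGroup.map σ gL = gL :=
    Units.ext (Matrix.ext fun i j => by rw [hgL]; exact hσι _)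
  have hyh : Matrix.GeneralLinearGroup.map σ h * y = y * h := by
    rw [hh, hy, map_mul, map_mul, map_inv, hσg]; group
  obtain ⟨c, hc, hye⟩ : ∃ c : K, (c = 0 ∨ c = 1) ∧ (y : Matrix (Fin 8) (Fin 8) K) *ᵥ eZero = eZero + c • zOne := by
    have hl' : σ l * σ l + σ l + ι (zNm w) = 0 := by
      rw [← hσι (zNm w), ← map_mul, ← map_add, ← map_add, ← map_zero σ]
      exact congrArg σ (by linear_combination hl)
    have hsplit : (σ l - l) * (σ l - l - 1) = 0 := by
      linear_combination hl' - hl + (-(σ l * l) + l * l - σ l + l) * hK2 + (0 : K) * hK2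
    have hval : (y : Matrix (Fin 8) (Fin 8) K) *ᵥ eZero = eZero + (σ l - l) • zOne := by
      have hσu : σ ∘ u = u + (σ l - l) • zOne := by
        funext i
        rw [hu, hw', Function.comp_apply, Pi.add_apply, Pi.smul_apply, smul_eq_mul, map_add, map_mul,
          Function.comp_apply, hσι, Pi.add_apply, Pi.add_apply, Pi.smul_apply, Pi.smul_apply]
        fin_cases i <;> simp [zOne] <;> ring
      have hxσ : ((Matrix.GeneralLinearGroup.map σ x : GL (Fin 8) K) : Matrix (Fin 8) (Fin 8) K) *ᵥ (σ ∘ u) =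
          σ ∘ ((x : Matrix (Fin 8) (Fin 8) K) *ᵥ u) := by
        funext i; exact (RingHom.map_mulVec σ _ u i).symm
      have hσe : σ ∘ (eZero : Fin 8 → K) = eZero := by funext i; fin_cases i <;> simp [eZero]
      rw [hσu, hxu, hσe, mulVec_add, mulVec_smul, hxone _ (map_mem_g2 σ hx)] at hxσ
      have e := congrArg (fun v => ((x⁻¹ : GL (Fin 8) K) : Matrix (Fin 8) (Fin 8) K) *ᵥ v) hxu
      simp only [gm_inv] at e
      rw [hy, Units.val_mul, ← mulVec_mulVec, ← e]
      refine (eq_sub_of_add_eq hxσ).trans ?_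
      funext i
      simp only [Pi.sub_apply, Pi.add_apply, Pi.smul_apply, smul_eq_mul]
      linear_combination (-(σ l - l) * zOne i) * hK2
    rcases mul_eq_zero.1 hsplit with h | h
    · exact ⟨0, Or.inl rfl, by rw [hval, h]⟩
    · exact ⟨1, Or.inr rfl, by rw [hval, show σ l - l = 1 by linear_combination h]⟩
  -- reduction to the block
  obtain ⟨s, hs, hsx⟩ := exists_swap hK2
  obtain ⟨m, z, hm, hzdef, hzm, hze⟩ : ∃ (m : ℕ) (z : GL (Fin 8) K), ((m = 1 ∧ ι k = 0) ∨ (m = 2 ∧ ι k = 1)) ∧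
      z = h ^ m ∧ z ∈ Cfsg.Lie.G2 K ∧ (z : Matrix (Fin 8) (Fin 8) K) *ᵥ eZero = eZero := by
    rcases hk with rfl | rfl
    · exact ⟨1, h, Or.inl ⟨rfl, map_zero ι⟩, (pow_one h).symm, hhm, by simpa using hhe⟩
    · refine ⟨2, h ^ 2, Or.inr ⟨rfl, map_one ι⟩, rfl, pow_mem hhm 2, ?_⟩
      rw [pow_two, Units.val_mul, ← mulVec_mulVec, hhe, mulVec_add, mulVec_smul, hxone h hhm, hhe, map_one, one_smul]
      funext i
      simp only [Pi.add_apply]
      linear_combination (zOne i) * hK2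
  obtain ⟨hdA, hzA⟩ := stab_eZero hzm hze
  obtain ⟨A, hA⟩ : ∃ A, A = blockA z := ⟨_, rfl⟩
  rw [← hA] at hdA hzA
  have hzσA : ∀ v, ((Matrix.GeneralLinearGroup.map σ z : GL (Fin 8) K) : Matrix (Fin 8) (Fin 8) K) *ᵥ v =
      moveS (A.map σ) v := by
    have hze' : ((Matrix.GeneralLinearGroup.map σ z : GL (Fin 8) K) : Matrix (Fin 8) (Fin 8) K) *ᵥ eZero = eZero := by
      have hσe : σ ∘ (eZero : Fin 8 → K) = eZero := by funext i; fin_cases i <;> simp [eZero]
      conv_lhs => rw [← hσe]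
      funext i
      refine (RingHom.map_mulVec σ _ eZero i).symm.trans ?_
      rw [hze]
      exact congrFun hσe i
    rw [hA]
    exact (stab_eZero (map_mem_g2 σ hzm) hze').2
  have hyz : Matrix.GeneralLinearGroup.map σ z * y = y * z := by
    rw [hzdef, map_pow]
    exact (SemiconjBy.pow_right (show SemiconjBy y h (Matrix.GeneralLinearGroup.map σ h) from hyh.symm) m).symm
  obtain ⟨a, b, d, r1, r2, r3, hp⟩ := exists_roots_three hdA
  have hfinish : ∀ n : ℕ, A ^ n = 1 → g ^ (m * n) = 1 := fun n hn => by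
    refine hdown _ ?_
    have h1 : h ^ (m * n) = 1 := by rw [pow_mul, ← hzdef]; exact pow_eq_one_of_moveS hzA hn
    rw [hh, conj_pow] at h1
    exact conj_eq_one_iff.1 h1
  -- the twist on the block
  have htw : (σ a ::ₘ σ b ::ₘ σ d ::ₘ 0) = (a ::ₘ b ::ₘ d ::ₘ 0) ∨
      ((σ a)⁻¹ ::ₘ (σ b)⁻¹ ::ₘ (σ d)⁻¹ ::ₘ 0) = (a ::ₘ b ::ₘ d ::ₘ 0) := by
    rcases hc with rfl | rfl
    · obtain ⟨hdC, hyC⟩ := stab_eZero hym (by simpa using hye)
      refine Or.inl ((triple_twist hdC σ r1 r2 r3).1 (moveS_inj fun v => ?_))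
      rw [← moveS_comp, ← moveS_comp, ← hyC, ← hzσA, ← hzA, ← hyC, mulVec_mulVec, ← Units.val_mul, hyz,
        Units.val_mul, mulVec_mulVec]
    · obtain ⟨hsm, hse⟩ := g2_eZero_compl hym hye hK2 rfl hs hsx
      obtain ⟨hdC, hyC⟩ := stab_eZero hsm hse
      refine Or.inr ((triple_twist hdC σ r1 r2 r3).2 hdA (moveS_inj fun v => ?_))
      have hdσ : (A.map σ).det = 1 := by
        rw [show A.map σ = σ.mapMatrix A from rfl, ← RingHom.map_det, hdA, map_one]
      rw [← moveS_comp, ← moveS_comp, ← hyC, ← moveX_moveS hdσ, ← hzσA, ← hzA, ← hyC, Units.val_mul,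
        ← mulVec_mulVec, hsx, moveX_invol, mulVec_mulVec, ← Units.val_mul, hyz, Units.val_mul, ← mulVec_mulVec,
        ← mulVec_mulVec, hsx]
  rcases hm with ⟨rfl, -⟩ | ⟨rfl, hk1⟩
  · -- fixed idempotent
    have hcases := inner_orders hK2 hq2 hσ hσi hp r3 htw
    rcases hcases with h | h | h | h | h | h <;>
      exact ⟨_, by simp, one_mul (_ : ℕ) ▸ hfinish _ h⟩
  · -- exchanged idempotent
    have hhs := g2_eZero_compl hhm (by rw [hhe, hk1]) hK2 rfl hs hsx
    obtain ⟨hdC, hhC⟩ := stab_eZero hhs.1 hhs.2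
    have hinv : (a⁻¹ ::ₘ b⁻¹ ::ₘ d⁻¹ ::ₘ 0) = (a ::ₘ b ::ₘ d ::ₘ 0) := by
      have := (triple_twist hdC (RingHom.id K) r1 r2 r3).2 hdA (moveS_inj fun v => ?_)
      · simpa using this
      have hcomm : z * h = h * z := by rw [hzdef, ← pow_succ, ← pow_succ']
      rw [show A.map (RingHom.id K) = A from Matrix.map_id A, ← moveS_comp, ← moveS_comp, ← hhC,
        ← moveX_moveS hdA, ← hzA, ← hzA, ← hhC, Units.val_mul,
        ← mulVec_mulVec, hsx, moveX_invol, mulVec_mulVec, ← Units.val_mul, hcomm, Units.val_mul, ← mulVec_mulVec,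
        ← mulVec_mulVec, hsx]
    have hR : ∀ t, (t = a ∨ t = b ∨ t = d) → (t ^ q = a ∨ t ^ q = b ∨ t ^ q = d) ∨
        ((t ^ q)⁻¹ = a ∨ (t ^ q)⁻¹ = b ∨ (t ^ q)⁻¹ = d) := by
      intro t ht
      rcases htw with h | h
      · left
        have : σ t ∈ (a ::ₘ b ::ₘ d ::ₘ 0) := h ▸ by rcases ht with rfl | rfl | rfl <;> simp
        simpa [hσ] using this
      · right
        have : (σ t)⁻¹ ∈ (a ::ₘ b ::ₘ d ::ₘ 0) := h ▸ by rcases ht with rfl | rfl | rfl <;> simp
        simpa [hσ] using this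
    rcases outer_cases hK2 hp r3 hinv hq2 (fun s t hst => hσi (by rw [hσ, hσ]; exact hst)) hR with h | h | h <;>
      exact ⟨_, by simp, hfinish _ h⟩

end CfsgLib.NormalCover
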