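import Mathlib
import Cfsg.Agent.Lib.NormalCover.G2Spectrum

/-!
Automorphisms of Zorn's algebra in odd characteristic: fixed vectors, idempotents and unipotent elements.
-/

set_option autoImplicit false
set_option maxHeartbeats 1000000

namespace CfsgLib.NormalCover

open Matrix Cfsg.Lie

variable {F : Type*} [Field F]

local notation "gm" g:max => ((g : GL (Fin 8) F) : Matrix (Fin 8) (Fin 8) F)

/-- An idempotent of trace one and norm zero is conjugate to the diagonal one, in every characteristic. -/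
theorem exists_to_eZero_any {u : Fin 8 → F} (hT : u 0 + u 7 = 1)
    (hN : u 0 * u 7 - (u 1 * u 4 + u 2 * u 5 + u 3 * u 6) = 0) :
    ∃ x ∈ Cfsg.Lie.G2 F, gm x *ᵥ u = eZero := by
  classical
  have first : ∀ w : Fin 8 → F, w 0 = 1 → w 7 = 0 → w 1 * w 4 + w 2 * w 5 + w 3 * w 6 = 0 →
      SameOrbit w eZero := by
    intro w h0 h7 hd
    refine (sameOrbit_B ![w 4, w 5, w 6] w).trans ((sameOrbit_A ![w 1, w 2, w 3] _).trans ?_)
    convert SameOrbit.refl (eZero : Fin 8 → F) using 1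
    have hd' : w 4 * w 1 + w 5 * w 2 + w 6 * w 3 = 0 := by linear_combination hd
    funext i
    fin_cases i <;> simp [moveA, moveB, eZero, h0, h7, hd'] <;> ring1
  have second : ∀ w : Fin 8 → F, w 0 + w 7 = 1 →
      w 0 * w 7 - (w 1 * w 4 + w 2 * w 5 + w 3 * w 6) = 0 →
      (w 1 ≠ 0 ∨ w 2 ≠ 0 ∨ w 3 ≠ 0) → SameOrbit w eZero := by
    intro w hT hN ha
    obtain ⟨v, hv⟩ : ∃ v : Fin 3 → F, v 0 * w 1 + v 1 * w 2 + v 2 * w 3 = 1 - w 0 := by
      rcases ha with ha | ha | ha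
      · exact ⟨![(1 - w 0) / w 1, 0, 0], by simp [ha]⟩
      · exact ⟨![0, (1 - w 0) / w 2, 0], by simp [ha]⟩
      · exact ⟨![0, 0, (1 - w 0) / w 3], by simp [ha]⟩
    refine (sameOrbit_B v w).trans (first _ ?_ ?_ ?_)
    · show w 0 + (v 0 * w 1 + v 1 * w 2 + v 2 * w 3) = 1
      linear_combination hv
    · show w 7 - (v 0 * w 1 + v 1 * w 2 + v 2 * w 3) = 0
      linear_combination hT - hv
    · simp [moveB, hv, show w 7 = 1 - w 0 by linear_combination hT]
      linear_combination -hN + (w 0) * hT + (-(w 0 - (1 - w 0) + (1 - w 0))) * hv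
  show SameOrbit u eZero
  by_cases ha : u 1 ≠ 0 ∨ u 2 ≠ 0 ∨ u 3 ≠ 0
  · exact second u hT hN ha
  push Not at ha
  obtain ⟨a1, a2, a3⟩ := ha
  have hz : u 0 * u 7 = 0 := by simpa [a1, a2, a3] using hN
  rcases mul_eq_zero.1 hz with h0 | h7
  · have h7 : u 7 = 1 := by linear_combination hT - h0
    refine (sameOrbit_A ![1, 0, 0] u).trans ?_
    by_cases h4 : u 4 = 1
    · refine first _ ?_ ?_ ?_ <;> simp [moveA, h0, h7, h4, a1, a2, a3]
    · refine second _ ?_ ?_ (Or.inl ?_) <;> simp [moveA, h0, h7, a1, a2, a3]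
      · ring
      · exact sub_ne_zero.2 (Ne.symm h4)
  · exact first u (by linear_combination hT - h7) h7 (by simp [a1, a2, a3])

/-- The exchange of the two halves, with signs. -/
def moveY : (Fin 8 → F) →ₗ[F] Fin 8 → F where
  toFun x := ![x 7, -x 4, -x 5, -x 6, -x 1, -x 2, -x 3, x 0]
  map_add' x y := by funext i; fin_cases i <;> simp [add_comm]
  map_smul' c x := by funext i; fin_cases i <;> simp

theorem moveY_mul (x y : Fin 8 → F) : moveY (zornMul x y) = zornMul (moveY x) (moveY y) := by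
  funext i
  fin_cases i <;> simp [moveY, zornMul, dot3, cross3] <;> ring

theorem moveY_invol (x : Fin 8 → F) : moveY (moveY x) = x := by
  funext i; fin_cases i <;> simp [moveY]

theorem exists_swap_any :
    ∃ s ∈ Cfsg.Lie.G2 F, ∀ x, gm s *ᵥ x = moveY x :=
  exists_g2 _ (Function.LeftInverse.injective moveY_invol) moveY_mul

theorem moveY_moveS {A : Matrix (Fin 3) (Fin 3) F} (hA : A.det = 1) (x : Fin 8 → F) :
    moveY (moveS A (moveY x)) = moveS (adjT A) x := by
  rw [← moveX_moveS hA x]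
  funext i
  fin_cases i <;> simp [moveY, moveX, moveS] <;> ring

theorem moveY_eZero : moveY (eZero : Fin 8 → F) = zOne - eZero := by
  funext i; fin_cases i <;> simp [moveY, eZero, zOne]

/-- The Gram matrix of the norm. -/
def gram : Matrix (Fin 8) (Fin 8) F :=
  !![0, 0, 0, 0, 0, 0, 0, 1; 0, 0, 0, 0, -1, 0, 0, 0; 0, 0, 0, 0, 0, -1, 0, 0; 0, 0, 0, 0, 0, 0, -1, 0;
    0, -1, 0, 0, 0, 0, 0, 0; 0, 0, -1, 0, 0, 0, 0, 0; 0, 0, 0, -1, 0, 0, 0, 0; 1, 0, 0, 0, 0, 0, 0, 0]

theorem gram_sq : (gram : Matrix (Fin 8) (Fin 8) F) * gram = 1 := by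
  ext i j
  fin_cases i <;> fin_cases j <;> simp [gram, Matrix.mul_apply, Fin.sum_univ_eight]

theorem gram_transpose : (gram : Matrix (Fin 8) (Fin 8) F)ᵀ = gram := by
  ext i j
  fin_cases i <;> fin_cases j <;> simp [gram]

theorem pol_eq (x y : Fin 8 → F) : zPol x y = x ⬝ᵥ gram *ᵥ y := by
  simp [zPol, gram, dotProduct, Matrix.mulVec, Fin.sum_univ_eight]
  ring

theorem gram_of_pol {h : Matrix (Fin 8) (Fin 8) F} (hh : ∀ x y, zPol (h *ᵥ x) (h *ᵥ y) = zPol x y) :
    hᵀ * gram * h = gram := by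
  refine Matrix.ext fun i j => ?_
  have e : ∀ M : Matrix (Fin 8) (Fin 8) F, M i j = Pi.single i 1 ⬝ᵥ M *ᵥ Pi.single j 1 := fun M => by simp
  rw [e (hᵀ * gram * h), e gram, ← pol_eq, ← hh, pol_eq, ← Matrix.mulVec_mulVec, ← Matrix.mulVec_mulVec, dotProduct_mulVec,
    Matrix.vecMul_transpose]

theorem pol_nondeg {v : Fin 8 → F} (h : ∀ y, zPol v y = 0) : v = 0 := by
  have e := fun i : Fin 8 => h (Pi.single i 1)
  funext i
  have e0 := e 0; have e1 := e 1; have e2 := e 2; have e3 := e 3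
  have e4 := e 4; have e5 := e 5; have e6 := e 6; have e7 := e 7
  simp [zPol] at e0 e1 e2 e3 e4 e5 e6 e7
  fin_cases i <;> simp [*]

/-- An automorphism of determinant one fixes a vector of trace zero. -/
theorem exists_fixed (h2 : (2 : F) ≠ 0) {g : GL (Fin 8) F} (hg : g ∈ Cfsg.Lie.G2 F) (hd : (gm g).det = 1) :
    ∃ v : Fin 8 → F, v ≠ 0 ∧ zTr v = 0 ∧ gm g *ᵥ v = v := by
  obtain ⟨J, hJ, hJd⟩ : ∃ J : Matrix (Fin 8) (Fin 8) F, (∀ x, J *ᵥ x = x - zTr x • zOne) ∧ J.det = -1 := by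
    refine ⟨1 + vecMulVec zOne ![-1, 0, 0, 0, 0, 0, 0, -1], fun x => ?_, ?_⟩
    · rw [Matrix.add_mulVec, Matrix.one_mulVec, Matrix.vecMulVec_mulVec]
      funext i
      fin_cases i <;> simp [zOne, zTr, dotProduct, Fin.sum_univ_eight] <;> ring
    · rw [Matrix.vecMulVec_eq Unit, Matrix.det_one_add_replicateCol_mul_replicateRow]
      simp [zOne, dotProduct, Fin.sum_univ_eight]
  have hpol : ∀ x y, zPol ((gm g * J) *ᵥ x) ((gm g * J) *ᵥ y) = zPol x y := fun x y => by
    rw [← Matrix.mulVec_mulVec, ← Matrix.mulVec_mulVec, g2_pol hg, hJ, hJ]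
    simp [zPol, zTr, zOne]
    ring
  obtain ⟨h, hh⟩ : ∃ h, h = gm g * J := ⟨_, rfl⟩
  rw [← hh] at hpol
  have hdet : h.det = -1 := by rw [hh, Matrix.det_mul, hd, hJd, one_mul]
  have key := gram_of_pol hpol
  have h0 : (h - 1).det = 0 := by
    have e : hᵀ * gram * (h - 1) = -((gram * (h - 1))ᵀ) := by
      rw [mul_sub, key, mul_one, transpose_mul, gram_transpose, transpose_sub, transpose_one, sub_mul, one_mul]
      abel
    have := congrArg Matrix.det e
    rw [Matrix.det_mul, Matrix.det_mul, Matrix.det_neg, Matrix.det_transpose, Matrix.det_transpose, Matrix.det_mul,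
      hdet] at this
    have hg0 : (gram : Matrix (Fin 8) (Fin 8) F).det ≠ 0 := left_ne_zero_of_mul_eq_one
      (b := (gram : Matrix (Fin 8) (Fin 8) F).det) (by rw [← Matrix.det_mul, gram_sq, Matrix.det_one])
    simp at this
    have : (2 : F) * ((gram : Matrix (Fin 8) (Fin 8) F).det * (h - 1).det) = 0 := by linear_combination -this
    exact ((mul_eq_zero.1 ((mul_eq_zero.1 this).resolve_left h2)).resolve_left hg0)
  obtain ⟨v, hv, hv0⟩ := Matrix.exists_mulVec_eq_zero_iff.2 h0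
  rw [Matrix.sub_mulVec, Matrix.one_mulVec, sub_eq_zero, hh, ← Matrix.mulVec_mulVec, hJ] at hv0
  have ht : zTr v = 0 := by
    have h1 := (g2_tr_nm hg (v - zTr v • zOne)).1
    rw [hv0] at h1
    have e : zTr (v - zTr v • (zOne : Fin 8 → F)) = -zTr v := by simp [zTr, zOne]
    rw [e] at h1
    exact (mul_eq_zero.1 (show (2 : F) * zTr v = 0 by linear_combination h1)).resolve_left h2
  exact ⟨v, hv, ht, by rwa [ht, zero_smul, sub_zero] at hv0⟩

/-- An automorphism of order prime to the characteristic fixes an anisotropic vector of trace zero. -/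
theorem exists_fixed_nonsing (h2 : (2 : F) ≠ 0) {g : GL (Fin 8) F} (hg : g ∈ Cfsg.Lie.G2 F)
    (hd : (gm g).det = 1) {m : ℕ} (hm : g ^ m = 1) (hm0 : (m : F) ≠ 0) :
    ∃ v : Fin 8 → F, zTr v = 0 ∧ zNm v ≠ 0 ∧ gm g *ᵥ v = v := by
  classical
  by_contra hall
  push Not at hall
  have hsing : ∀ v, zTr v = 0 → gm g *ᵥ v = v → zNm v = 0 := fun v ht hv => by
    by_contra hne
    exact hall v ht hne hv
  obtain ⟨v, hv, ht, hgv⟩ := exists_fixed h2 hg hd
  refine hv (pol_nondeg fun y => ?_)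
  obtain ⟨z, hz⟩ : ∃ z, z = ∑ i ∈ Finset.range m, gm (g ^ i) *ᵥ y := ⟨_, rfl⟩
  have hpow : ∀ i : ℕ, gm (g ^ i) *ᵥ v = v := fun i => by
    induction i with
    | zero => simp
    | succ i ih => rw [pow_succ, Units.val_mul, ← Matrix.mulVec_mulVec, hgv, ih]
  have h1 : zPol v z = (m : F) * zPol v y := by
    rw [hz, pol_eq, Matrix.mulVec_sum, dotProduct_sum,
      Finset.sum_congr rfl fun i _ => show v ⬝ᵥ gram *ᵥ (gm (g ^ i) *ᵥ y) = zPol v y by
        rw [← pol_eq]; conv_lhs => rw [← hpow i]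
        exact g2_pol (pow_mem hg i) v y]
    simp
  have hgz : gm g *ᵥ z = z := by
    rw [hz, Matrix.mulVec_sum]
    simp only [Matrix.mulVec_mulVec, ← Units.val_mul, ← pow_succ']
    refine (sub_eq_zero.1 ?_)
    rw [← Finset.sum_sub_distrib, Finset.sum_range_sub (fun i => gm (g ^ i) *ᵥ y), hm, pow_zero, sub_self]
  obtain ⟨c, hc⟩ : ∃ c : F, c = zTr z / 2 := ⟨_, rfl⟩
  obtain ⟨w, hw⟩ : ∃ w, w = z - c • (zOne : Fin 8 → F) := ⟨_, rfl⟩
  have hwt : zTr w = 0 := by
    rw [hw, hc]; simp [zTr, zOne]; field_simp; ring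
  have hgw : gm g *ᵥ w = w := by rw [hw, Matrix.mulVec_sub, Matrix.mulVec_smul, g2_one hg, hgz]
  have hvw : zPol v w = 0 := by
    have h := zNm_add v w
    rw [hsing v ht hgv, hsing w hwt hgw, hsing (v + w) (by
      simp only [zTr, Pi.add_apply] at ht hwt ⊢; linear_combination ht + hwt) (by rw [Matrix.mulVec_add, hgv, hgw])] at h
    simpa using h.symm
  have h3 : zPol v z = 0 := by
    rw [show zPol v z = zPol v w + c * zTr v by rw [hw]; simp [zPol, zTr, zOne]; ring, hvw, ht, mul_zero, add_zero]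
  rw [h3] at h1
  exact (mul_eq_zero.1 h1.symm).resolve_left hm0

/-- Unipotent automorphisms in odd characteristic. -/
theorem unipotent_exponent {p : ℕ} [hp : Fact p.Prime] [CharP F p] (h2 : (2 : F) ≠ 0) {g : GL (Fin 8) F}
    (hg : g ∈ Cfsg.Lie.G2 F) {k : ℕ} (hk : g ^ p ^ k = 1) {j : ℕ} (hj : 7 ≤ p ^ j) : g ^ p ^ j = 1 := by
  obtain ⟨N, hN⟩ : ∃ N : Module.End F (Fin 8 → F), N = Matrix.toLin' (gm g - 1) := ⟨_, rfl⟩
  have hNx : ∀ x, N x = gm g *ᵥ x - x := fun x => by simp [hN, Matrix.sub_mulVec]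
  have hpowN : ∀ n : ℕ, N ^ n = Matrix.toLin' ((gm g - 1) ^ n) := fun n => by
    rw [hN]; exact (map_pow Matrix.toLinAlgEquiv' _ n).symm
  have hsub : ∀ i : ℕ, (gm g - 1) ^ p ^ i = gm (g ^ p ^ i) - 1 := fun i => by
    rw [sub_pow_char_pow_of_commute p i (Commute.one_right _), one_pow, Units.val_pow_eq_pow_val]
  let W : Submodule F (Fin 8 → F) := LinearMap.ker zTrL
  have hNW : ∀ x, N x ∈ W := fun x => by
    show zTr (N x) = 0
    rw [hNx]
    have := (g2_tr_nm hg x).1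
    simp only [zTr, Pi.sub_apply] at this ⊢
    linear_combination this
  have hW : Module.finrank F W = 7 := by
    have hs : Function.Surjective (zTrL (F := F)) := fun c => ⟨Pi.single 0 c, by simp [zTrL, zTr]⟩
    have h := (zTrL (F := F)).finrank_range_add_finrank_ker
    rw [LinearMap.range_eq_top.2 hs, finrank_top, Module.finrank_self, Module.finrank_fin_fun] at h
    show Module.finrank F (LinearMap.ker (zTrL (F := F))) = 7
    omega
  let NW : Module.End F W := N.restrict fun x _ => hNW x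
  have hnil : IsNilpotent NW := ⟨p ^ k, by
    rw [Module.End.pow_restrict]
    refine LinearMap.ext fun x => Subtype.ext ?_
    show (N ^ p ^ k) x = 0
    rw [hpowN, hsub, hk]
    simp⟩
  have h7 : NW ^ 7 = 0 := by
    have h := LinearMap.aeval_self_charpoly NW
    rw [show NW.charpoly = Polynomial.X ^ Module.finrank F W from
      ((LinearMap.charpoly_nilpotent_tfae NW).out 0 1).1 hnil] at h
    simpa [hW] using h
  have hall : ∀ x, (N ^ p ^ j) x = 0 := by
    intro x
    obtain ⟨c, hc⟩ : ∃ c : F, c = zTr x / 2 := ⟨_, rfl⟩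
    have hw : x - c • (zOne : Fin 8 → F) ∈ W := by
      show zTr _ = 0
      rw [hc]; simp [zTr, zOne]; field_simp; ring
    have h := congrArg Subtype.val (LinearMap.congr_fun h7 ⟨_, hw⟩)
    rw [Module.End.pow_restrict] at h
    have h' : (N ^ 7) (x - c • (zOne : Fin 8 → F)) = 0 := h
    have h1 : (N ^ 7) (zOne : Fin 8 → F) = 0 := by
      rw [pow_succ, Module.End.mul_apply, hNx, g2_one hg, sub_self, map_zero]
    rw [map_sub, map_smul, h1, smul_zero, sub_zero] at h'
    obtain ⟨r, hr⟩ := Nat.exists_eq_add_of_le hj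
    rw [hr, add_comm, pow_add, Module.End.mul_apply, h', map_zero]
  refine Units.ext (sub_eq_zero.1 ?_)
  rw [Units.val_one, ← hsub, Matrix.ext_iff_mulVec]
  intro x
  rw [zero_mulVec, ← Matrix.toLin'_apply, ← hpowN, hall]

end CfsgLib.NormalCover
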