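import Mathlib
import Cfsg.Agent.Lib.NormalCover.G2OddBasic
import Cfsg.Agent.Lib.BlockA.OctonionSylow

/-!
Blocks of determinant one in odd characteristic: exponents, the block form with an eigenvalue one, and the
exponent of unipotent elements centralising it.
-/

set_option autoImplicit false
set_option maxHeartbeats 1000000

namespace CfsgLib.NormalCover

open Matrix Cfsg.Lie Polynomial

variable {K : Type*} [Field K]

theorem det_sub_one {A : Matrix (Fin 3) (Fin 3) K} (hA : A.det = 1) : (A - 1).det = A.trace - midCoef A := by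
  rw [det_fin_three] at hA
  simp [det_fin_three, midCoef, adjugate_fin_three, Matrix.trace_fin_three]
  linear_combination hA

theorem one_root_iff {A : Matrix (Fin 3) (Fin 3) K} {a b c : K} (h1 : a + b + c = A.trace)
    (h2 : a * b + b * c + c * a = midCoef A) (h3 : a * b * c = 1) :
    midCoef A = A.trace ↔ a = 1 ∨ b = 1 ∨ c = 1 := by
  have e : (1 - a) * (1 - b) * (1 - c) = midCoef A - A.trace := by linear_combination h2 - h1 - h3
  rw [← sub_eq_zero, ← e, mul_eq_zero, mul_eq_zero, sub_eq_zero, sub_eq_zero, sub_eq_zero, or_assoc]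
  simp [eq_comm]

variable {p : ℕ} [hp : Fact p.Prime] [CharP K p]

theorem pow_of_roots (hp3 : 3 ≤ p) {A : Matrix (Fin 3) (Fin 3) K} {a b c : K} {N : ℕ}
    (hA : aeval A ((X - C a) * (X - C b) * (X - C c)) = 0)
    (ha : a ^ N = 1) (hb : b ^ N = 1) (hc : c ^ N = 1) : A ^ (p * N) = 1 := by
  refine pow_eq_one_of_dvd hA ?_
  have h : ∀ x : K, x ^ N = 1 → X - C x ∣ (X ^ N - 1 : K[X]) := fun x hx =>
    dvd_iff_isRoot.2 (by simp [hx])
  have e : (X ^ (p * N) - 1 : K[X]) = (X ^ N - 1) ^ p := by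
    rw [sub_pow_char, one_pow, ← pow_mul, mul_comm]
  rw [e]
  refine (mul_dvd_mul (mul_dvd_mul (h a ha) (h b hb)) (h c hc)).trans ?_
  rw [← pow_two, ← pow_succ]
  exact pow_dvd_pow _ hp3

omit [CharP K p] in
theorem pow_semisimple {G : Type*} [Monoid G] {A : G} {n N : ℕ} (hn : A ^ n = 1) (hpn : ¬ p ∣ n)
    (h : A ^ (p * N) = 1) : A ^ N = 1 := by
  have hc : Nat.Coprime p n := hp.out.coprime_iff_not_dvd.2 hpn
  have hg := pow_gcd_eq_one.2 ⟨hn, h⟩
  rw [Nat.Coprime.gcd_mul_left_cancel_right N hc] at hg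
  obtain ⟨r, hr⟩ := Nat.gcd_dvd_right n N
  rw [hr, pow_mul, hg, one_pow]

/-- The roots of a twisted stable matrix in odd characteristic. -/
theorem inner_odd (hp3 : 3 ≤ p) {A : Matrix (Fin 3) (Fin 3) K} {a b c : K}
    (hA : aeval A ((X - C a) * (X - C b) * (X - C c)) = 0) (habc : a * b * c = 1)
    {φ : K → K} (hφ : Function.Injective φ) (hR : (φ a ::ₘ φ b ::ₘ φ c ::ₘ 0) = (a ::ₘ b ::ₘ c ::ₘ 0))
    {N₁ N₂ N₃ : ℕ} (h2 : 0 < N₂) (h3 : 0 < N₃)
    (hfix : ∀ x, x ≠ 0 → φ x = x → x ^ N₁ = 1) (hsq : ∀ x, x ≠ 0 → φ (φ x) = x → x ^ N₂ = 1)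
    (hcyc : ∀ x, x ≠ 0 → x * φ x * φ (φ x) = 1 → x ^ N₃ = 1) :
    A ^ N₂ = 1 ∨ A ^ N₃ = 1 ∨ A ^ (p * N₁) = 1 := by
  classical
  have ha0 : a ≠ 0 := by rintro rfl; simp at habc
  have hb0 : b ≠ 0 := by rintro rfl; simp at habc
  have hc0 : c ≠ 0 := by rintro rfl; simp at habc
  have hdouble : ∀ a c : K, aeval A ((X - C a) * (X - C a) * (X - C c)) = 0 → a * a * c = 1 →
      (φ a ::ₘ φ a ::ₘ φ c ::ₘ 0) = (a ::ₘ a ::ₘ c ::ₘ 0) → A ^ (p * N₁) = 1 := by
    intro a c hA haac hR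
    have ha0 : a ≠ 0 := by rintro rfl; simp at haac
    have hc0 : c ≠ 0 := by rintro rfl; simp at haac
    have hmem : φ a ∈ (a ::ₘ a ::ₘ c ::ₘ 0) ∧ φ c ∈ (a ::ₘ a ::ₘ c ::ₘ 0) := hR ▸ by simp
    simp at hmem
    by_cases hac : a = c
    · subst hac
      have := hfix a ha0 (by simpa using hmem.1)
      exact pow_of_roots hp3 hA this this this
    have hcnt := congrArg (Multiset.count (φ a)) hR
    simp only [Multiset.count_cons, Multiset.count_zero, if_true] at hcnt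
    have hφa : φ a = a := by
      by_contra hne
      simp [hne] at hcnt
      split_ifs at hcnt <;> first | omega | exact hac (hφ (by assumption)) | exact hne (by assumption)
    have hφc : φ c = c := hmem.2.resolve_left fun h => hac (hφ (hφa.trans h.symm))
    exact pow_of_roots hp3 hA (hfix a ha0 hφa) (hfix a ha0 hφa) (hfix c hc0 hφc)
  by_cases hab : a = b
  · subst hab; exact Or.inr (Or.inr (hdouble a c hA habc hR))
  by_cases hbc : b = c
  · subst hbc
    refine Or.inr (Or.inr (hdouble b a ?_ (by linear_combination habc) ?_))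
    · rwa [show (X - C b) * (X - C b) * (X - C a) = (X - C a) * (X - C b) * (X - C b) by ring]
    · rwa [Multiset.cons_swap (φ b) (φ a) 0, Multiset.cons_swap (φ b) (φ a), Multiset.cons_swap b a 0,
        Multiset.cons_swap b a]
  by_cases hca : c = a
  · subst hca
    refine Or.inr (Or.inr (hdouble c b ?_ (by linear_combination habc) ?_))
    · rwa [show (X - C c) * (X - C c) * (X - C b) = (X - C c) * (X - C b) * (X - C c) by ring]
    · simp only [← Multiset.singleton_add] at hR ⊢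
      simpa [add_comm, add_left_comm] using hR
  have mem : ∀ x, (x = a ∨ x = b ∨ x = c) → (φ x = a ∨ φ x = b ∨ φ x = c) := by
    intro x hx
    have : φ x ∈ (a ::ₘ b ::ₘ c ::ₘ 0) := hR ▸ by rcases hx with rfl | rfl | rfl <;> simp
    simpa using this
  have key : (∀ x, (x = a ∨ x = b ∨ x = c) → φ (φ x) = x) ∨
      (∀ x, (x = a ∨ x = b ∨ x = c) → x * φ x * φ (φ x) = 1) := by
    have iab : φ a ≠ φ b := hφ.ne hab
    have ibc : φ b ≠ φ c := hφ.ne hbc
    have ica : φ c ≠ φ a := hφ.ne hca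
    rcases mem a (Or.inl rfl) with ea | ea | ea <;> rcases mem b (Or.inr (Or.inl rfl)) with eb | eb | eb <;>
      rcases mem c (Or.inr (Or.inr rfl)) with ec | ec | ec <;>
      first
      | exact absurd (ea.trans eb.symm) iab
      | exact absurd (eb.trans ec.symm) ibc
      | exact absurd (ec.trans ea.symm) ica
      | (left; rintro x (rfl | rfl | rfl) <;> simp only [ea, eb, ec]; done)
      | (right; rintro x (rfl | rfl | rfl) <;> simp only [ea, eb, ec] <;> linear_combination habc; done)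
  rcases key with key | key
  · exact Or.inl (pow_distinct h2 hA hab hbc hca (hsq a ha0 (key a (Or.inl rfl)))
      (hsq b hb0 (key b (Or.inr (Or.inl rfl)))) (hsq c hc0 (key c (Or.inr (Or.inr rfl)))))
  · exact Or.inr (Or.inl (pow_distinct h3 hA hab hbc hca (hcyc a ha0 (key a (Or.inl rfl)))
      (hcyc b hb0 (key b (Or.inr (Or.inl rfl)))) (hcyc c hc0 (key c (Or.inr (Or.inr rfl))))))

/-- Exponents of a block whose roots are moved by a twisted Frobenius. -/
theorem inner_odd_orders (hp3 : 3 ≤ p) {q : ℕ} (hq : 2 ≤ q) {σ : K → K}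
    (hσ : ∀ x, σ x = x ^ q) (hσi : Function.Injective σ) {A : Matrix (Fin 3) (Fin 3) K} {a b d : K}
    (hA : aeval A ((X - C a) * (X - C b) * (X - C d)) = 0) (r3 : a * b * d = 1)
    (htw : (σ a ::ₘ σ b ::ₘ σ d ::ₘ 0) = (a ::ₘ b ::ₘ d ::ₘ 0) ∨
      ((σ a)⁻¹ ::ₘ (σ b)⁻¹ ::ₘ (σ d)⁻¹ ::ₘ 0) = (a ::ₘ b ::ₘ d ::ₘ 0)) :
    A ^ (q ^ 2 - 1) = 1 ∨ A ^ (q ^ 2 + q + 1) = 1 ∨ A ^ (q ^ 2 - q + 1) = 1 ∨
      A ^ (p * (q - 1)) = 1 ∨ A ^ (p * (q + 1)) = 1 := by
  have hnz : ∀ t : K, t ≠ 0 → ∀ n : ℕ, 1 ≤ n → t ^ n = t → t ^ (n - 1) = 1 := fun t ht n hn he =>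
    mul_right_cancel₀ ht (by rw [← pow_succ, Nat.sub_add_cancel hn, he, one_mul])
  have hle : q ≤ q ^ 2 := Nat.le_self_pow two_ne_zero q
  have hpos : 0 < q ^ 2 - 1 := by
    have : q * 2 ≤ q ^ 2 := by rw [pow_two]; exact Nat.mul_le_mul_left _ hq
    omega
  have hsq : ∀ t : K, σ (σ t) = t ^ q ^ 2 := fun t => by rw [hσ, hσ, ← pow_mul, ← pow_two]
  rcases htw with h | h
  · rcases inner_odd hp3 hA r3 hσi h (N₁ := q - 1) (N₂ := q ^ 2 - 1) (N₃ := q ^ 2 + q + 1) hpos (by positivity)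
        (fun t ht he => hnz t ht q (by omega) (by rw [← hσ]; exact he))
        (fun t ht he => hnz t ht _ (by omega) (by rw [← hsq]; exact he))
        (fun t ht he => by rw [hsq, hσ] at he; rw [pow_succ, pow_add]; linear_combination he)
      with h | h | h <;> tauto
  · rcases inner_odd hp3 hA r3 (φ := fun t => (σ t)⁻¹) (inv_injective.comp hσi) h (N₁ := q + 1)
        (N₂ := q ^ 2 - 1) (N₃ := q ^ 2 - q + 1) hpos (by positivity)
        (fun t ht he => by
          rw [hσ] at he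
          rw [pow_succ]
          nth_rw 2 [← he]
          exact mul_inv_cancel₀ (pow_ne_zero _ ht))
        (fun t ht he => hnz t ht _ (by omega) (by
          simp only [hσ, inv_pow, inv_inv, ← pow_mul] at he
          rw [pow_two]; exact he))
        (fun t ht he => by
          simp only [hσ, inv_pow, inv_inv, ← pow_mul] at he
          have hne : t ^ q ≠ 0 := pow_ne_zero _ ht
          refine mul_right_cancel₀ hne ?_
          rw [one_mul, ← pow_add, show q ^ 2 - q + 1 + q = q * q + 1 by rw [← pow_two]; omega, pow_succ]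
          field_simp at he
          linear_combination he)
      with h | h | h <;> tauto

omit hp [CharP K p] in
/-- Roots moved among themselves, one of them one. -/
theorem one_root_orders {q : ℕ} (hq : 1 ≤ q) (hqi : Function.Injective fun x : K => x ^ q) {a b c : K}
    (habc : a * b * c = 1) (h1 : a = 1 ∨ b = 1 ∨ c = 1)
    (hR : ∀ x, (x = a ∨ x = b ∨ x = c) → (x ^ q = a ∨ x ^ q = b ∨ x ^ q = c) ∨
      ((x ^ q)⁻¹ = a ∨ (x ^ q)⁻¹ = b ∨ (x ^ q)⁻¹ = c)) :
    ∃ N, (N = q - 1 ∨ N = q + 1) ∧ a ^ N = 1 ∧ b ^ N = 1 ∧ c ^ N = 1 := by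
  obtain ⟨μ, hμ0, hμ, hsub⟩ : ∃ μ, μ ≠ 0 ∧ (μ = a ∨ μ = b ∨ μ = c) ∧
      ∀ x, (x = a ∨ x = b ∨ x = c) → (x = 1 ∨ x = μ ∨ x = μ⁻¹) := by
    rcases h1 with rfl | rfl | rfl
    · refine ⟨b, fun h => by simp [h] at habc, Or.inr (Or.inl rfl), fun x hx => ?_⟩
      rw [show c = b⁻¹ from eq_inv_of_mul_eq_one_right (by linear_combination habc)] at hx; exact hx
    · refine ⟨a, fun h => by simp [h] at habc, Or.inl rfl, fun x hx => ?_⟩
      rw [show c = a⁻¹ from eq_inv_of_mul_eq_one_right (by linear_combination habc)] at hx; tauto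
    · refine ⟨a, fun h => by simp [h] at habc, Or.inl rfl, fun x hx => ?_⟩
      rw [show b = a⁻¹ from eq_inv_of_mul_eq_one_right (by linear_combination habc)] at hx; tauto
  have hq1 : μ ^ q = 1 ∨ μ ^ q = μ ∨ μ ^ q = μ⁻¹ := by
    rcases hR μ hμ with h | h
    · exact hsub _ h
    · rcases hsub _ h with h | h | h
      · exact Or.inl (inv_eq_one.1 h)
      · exact Or.inr (Or.inr (inv_eq_iff_eq_inv.1 h))
      · exact Or.inr (Or.inl (inv_injective h))
  have hfin : ∀ N, μ ^ N = 1 → a ^ N = 1 ∧ b ^ N = 1 ∧ c ^ N = 1 := fun N hN => by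
    have : ∀ x, (x = 1 ∨ x = μ ∨ x = μ⁻¹) → x ^ N = 1 := by
      rintro x (rfl | rfl | rfl) <;> simp [hN]
    exact ⟨this a (hsub a (Or.inl rfl)), this b (hsub b (Or.inr (Or.inl rfl))),
      this c (hsub c (Or.inr (Or.inr rfl)))⟩
  rcases hq1 with h | h | h
  · have : μ = 1 := hqi (show μ ^ q = 1 ^ q by rw [h, one_pow])
    exact ⟨q - 1, Or.inl rfl, hfin _ (by rw [this, one_pow])⟩
  · exact ⟨q - 1, Or.inl rfl, hfin _ (mul_right_cancel₀ hμ0 (by rw [← pow_succ, Nat.sub_add_cancel hq, h, one_mul]))⟩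
  · exact ⟨q + 1, Or.inr rfl, hfin _ (by rw [pow_succ, h, inv_mul_cancel₀ hμ0])⟩

omit hp [CharP K p] in
/-- A block with eigenvalue one, not unipotent, splits off that eigenvalue. -/
theorem exists_block {A : Matrix (Fin 3) (Fin 3) K} (hA : A.det = 1) (hMT : midCoef A = A.trace)
    (hT : A.trace ≠ 3) : ∃ (S : Matrix (Fin 3) (Fin 3) K) (e f g h : K), S.det = 1 ∧
      S * A = !![1, 0, 0; 0, e, f; 0, g, h] * S ∧ e * h - f * g = 1 ∧ e + h ≠ 2 := by
  classical
  obtain ⟨v, hv0, hv⟩ := Matrix.exists_mulVec_eq_zero_iff.2 (show (A - 1).det = 0 by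
    rw [det_sub_one hA, hMT, sub_self])
  rw [Matrix.sub_mulVec, Matrix.one_mulVec, sub_eq_zero] at hv
  obtain ⟨i, hi⟩ : ∃ i, v i ≠ 0 := Function.ne_iff.1 hv0
  obtain ⟨T, hTd⟩ : ∃ T, T = A.trace := ⟨_, rfl⟩
  obtain ⟨Q, hQ⟩ : ∃ Q, Q = A * A - (T - 1) • A + 1 := ⟨_, rfl⟩
  have hQA : Q * A = Q := by
    have h := cayley_three hA
    rw [hMT, ← hTd] at h
    rw [hQ, add_mul, sub_mul, Matrix.smul_mul, one_mul]
    linear_combination (norm := module) h
  have hQv : Q *ᵥ v = (3 - T) • v := by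
    rw [hQ, Matrix.add_mulVec, Matrix.sub_mulVec, Matrix.smul_mulVec, ← Matrix.mulVec_mulVec, hv, hv,
      Matrix.one_mulVec]
    module
  have hne : (3 - T) * v i ≠ 0 := mul_ne_zero (sub_ne_zero.2 (hTd ▸ hT.symm)) hi
  obtain ⟨w, hw⟩ : ∃ w : Fin 3 → K, w = ((3 - T) * v i)⁻¹ • Q i := ⟨_, rfl⟩
  have hwv : w ⬝ᵥ v = 1 := by
    rw [hw, smul_dotProduct, show Q i ⬝ᵥ v = (3 - T) * v i from congrFun hQv i, smul_eq_mul, inv_mul_cancel₀ hne]
  have hwA : w ᵥ* A = w := by
    rw [hw, Matrix.smul_vecMul, show Q i ᵥ* A = (Q * A) i from rfl, hQA]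
  have hwv' : w 0 * v 0 + w 1 * v 1 + w 2 * v 2 = 1 := by
    simpa [dotProduct, Fin.sum_univ_three] using hwv
  obtain ⟨S, hS, hSv, hSw⟩ : ∃ S : Matrix (Fin 3) (Fin 3) K, S.det = 1 ∧ S *ᵥ v = ![1, 0, 0] ∧ S 0 = w := by
    by_cases h0 : v 0 = 0
    · by_cases h1 : v 1 = 0
      · have h2 : v 2 ≠ 0 := by
          intro h2; refine hi ?_; fin_cases i <;> assumption
        refine ⟨!![w 0, w 1, w 2; v 2, 0, 0; 0, 1, 0], ?_, ?_, by funext j; fin_cases j <;> rfl⟩
        · simp [det_fin_three]; linear_combination hwv' - w 0 * h0 - w 1 * h1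
        · funext j; fin_cases j <;> simp [mulVec, dotProduct, Fin.sum_univ_three, h0, h1] <;> simpa [h0, h1] using hwv'
      · refine ⟨!![w 0, w 1, w 2; -(v 1), 0, 0; 0, -(v 2) / (v 1), 1], ?_, ?_, by funext j; fin_cases j <;> rfl⟩
        · simp [det_fin_three]; field_simp; linear_combination hwv' - w 0 * h0
        · funext j; fin_cases j <;> simp [mulVec, dotProduct, Fin.sum_univ_three, h0, h1] <;> first | simpa [h0] using hwv' | (field_simp; ring)
    · refine ⟨!![w 0, w 1, w 2; -(v 1) / v 0, 1, 0; -(v 2), 0, v 0], ?_, ?_, by funext j; fin_cases j <;> rfl⟩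
      · simp [det_fin_three]; field_simp; linear_combination hwv'
      · funext j
        fin_cases j <;> simp [mulVec, dotProduct, Fin.sum_univ_three, h0]
        · exact hwv'
        · field_simp; ring
  have hSS : S.adjugate * S = 1 := by rw [adjugate_mul, hS, one_smul]
  have hSS' : S * S.adjugate = 1 := by rw [mul_adjugate, hS, one_smul]
  obtain ⟨B, hB⟩ : ∃ B, B = S * A * S.adjugate := ⟨_, rfl⟩
  have hBS : B * S = S * A := by rw [hB, mul_assoc, hSS, mul_one]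
  have hrow : ∀ j, B 0 j = (1 : Matrix (Fin 3) (Fin 3) K) 0 j := fun j => by
    rw [← hSS', hB]
    show ((S * A) 0 ᵥ* S.adjugate) j = (S 0 ᵥ* S.adjugate) j
    rw [show (S * A) 0 = S 0 ᵥ* A from rfl, hSw, hwA]
  have hcol : ∀ j, B j 0 = ![1, 0, 0] j := fun j => by
    have h := congrArg (fun M : Matrix (Fin 3) (Fin 3) K => (M *ᵥ v) j) hBS
    simp only [← Matrix.mulVec_mulVec, hv, hSv] at h
    simpa [mulVec, dotProduct, Fin.sum_univ_three] using h
  have hBe : B = !![1, 0, 0; 0, B 1 1, B 1 2; 0, B 2 1, B 2 2] := by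
    ext j k
    fin_cases j <;> fin_cases k <;> simp [hrow, hcol]
  have hBd : B.det = 1 := by
    rw [hB, det_mul, det_mul, hA, mul_one, ← det_mul, hSS', det_one]
  refine ⟨S, B 1 1, B 1 2, B 2 1, B 2 2, hS, by rw [← hBe]; exact hBS.symm, ?_, ?_⟩
  · rw [hBe] at hBd
    simpa [det_fin_three] using hBd
  · intro h
    have htr := (coef_of_conj hS hBS).1
    rw [hBe] at htr
    simp [Matrix.trace_fin_three] at htr
    exact hT (by rw [Matrix.trace_fin_three]; linear_combination h - htr)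

open CfsgLib.BlockA.OctonionSylow in
omit hp [CharP K p] in
/-- What commutes with a split block commutes with the involution. -/
theorem commute_zPair {u z : GL (Fin 8) K} (hu : u ∈ Cfsg.Lie.G2 K) {e f g h : K}
    (hd : e * h - f * g = 1) (ht : e + h ≠ 2)
    (hz : ∀ x, (z : Matrix (Fin 8) (Fin 8) K) *ᵥ x = moveS !![1, 0, 0; 0, e, f; 0, g, h] x)
    (hc : Commute u z) :
    (⟨u, hu⟩ : Cfsg.Lie.G2 K) * φ (zPair K) = φ (zPair K) * ⟨u, hu⟩ := by
  obtain ⟨U, hU⟩ : ∃ U, U = (u : Matrix (Fin 8) (Fin 8) K) := ⟨_, rfl⟩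
  have hD : (e - 1) * (h - 1) - f * g ≠ 0 := fun h0 => ht (by linear_combination hd - h0)
  have hfix : ∀ x : Fin 8 → K, (x 2 = 0 ∧ x 3 = 0 ∧ x 5 = 0 ∧ x 6 = 0) ↔
      (z : Matrix (Fin 8) (Fin 8) K) *ᵥ x = x := by
    intro x
    rw [hz]
    constructor
    · rintro ⟨x2, x3, x5, x6⟩
      funext i
      fin_cases i <;> simp [moveS, x2, x3, x5, x6]
      linear_combination x 4 * hd
    · intro hx
      have a2 := congrFun hx 2; have a3 := congrFun hx 3; have a5 := congrFun hx 5; have a6 := congrFun hx 6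
      simp [moveS] at a2 a3 a5 a6
      have e2 : ((e - 1) * (h - 1) - f * g) * x 2 = 0 := by linear_combination (h - 1) * a2 - f * a3
      have e3 : ((e - 1) * (h - 1) - f * g) * x 3 = 0 := by linear_combination (e - 1) * a3 - g * a2
      have e5 : ((e - 1) * (h - 1) - f * g) * x 5 = 0 := by linear_combination (e - 1) * a5 + g * a6
      have e6 : ((e - 1) * (h - 1) - f * g) * x 6 = 0 := by linear_combination (h - 1) * a6 + f * a5
      exact ⟨(mul_eq_zero.1 e2).resolve_left hD, (mul_eq_zero.1 e3).resolve_left hD,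
        (mul_eq_zero.1 e5).resolve_left hD, (mul_eq_zero.1 e6).resolve_left hD⟩
  have hH : ∀ w : GL (Fin 8) K, Commute w z → ∀ x : Fin 8 → K, x 2 = 0 → x 3 = 0 → x 5 = 0 → x 6 = 0 →
      (z : Matrix (Fin 8) (Fin 8) K) *ᵥ ((w : Matrix (Fin 8) (Fin 8) K) *ᵥ x) =
        (w : Matrix (Fin 8) (Fin 8) K) *ᵥ x := fun w hw x x2 x3 x5 x6 => by
    rw [mulVec_mulVec, ← Units.val_mul, ← hw.eq, Units.val_mul, ← mulVec_mulVec, (hfix x).1 ⟨x2, x3, x5, x6⟩]
  have hP : ∀ x : Fin 8 → K, x 0 = 0 → x 1 = 0 → x 4 = 0 → x 7 = 0 →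
      (U *ᵥ x) 0 = 0 ∧ (U *ᵥ x) 1 = 0 ∧ (U *ᵥ x) 4 = 0 ∧ (U *ᵥ x) 7 = 0 := by
    intro x x0 x1 x4 x7
    have key : ∀ i : Fin 8, (i = 0 ∨ i = 1 ∨ i = 4 ∨ i = 7) → zPol (U *ᵥ x) (Pi.single i 1) = 0 := by
      intro i hi
      obtain ⟨y, hy⟩ : ∃ y, y = ((u⁻¹ : GL (Fin 8) K) : Matrix (Fin 8) (Fin 8) K) *ᵥ Pi.single i (1 : K) := ⟨_, rfl⟩
      obtain ⟨y2, y3, y5, y6⟩ := (hfix y).2 (hy ▸ hH _ hc.inv_left _ (by rcases hi with rfl | rfl | rfl | rfl <;> simp)
        (by rcases hi with rfl | rfl | rfl | rfl <;> simp) (by rcases hi with rfl | rfl | rfl | rfl <;> simp)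
        (by rcases hi with rfl | rfl | rfl | rfl <;> simp))
      have he : U *ᵥ y = Pi.single i 1 := by
        rw [hU, hy, mulVec_mulVec, ← Units.val_mul, mul_inv_cancel, Units.val_one, one_mulVec]
      rw [← he, hU, g2_pol hu]
      simp [zPol, x0, x1, x4, x7, y2, y3, y5, y6]
    have k0 := key 0 (by simp); have k1 := key 1 (by simp); have k4 := key 4 (by simp); have k7 := key 7 (by simp)
    simp [zPol] at k0 k1 k4 k7
    exact ⟨k7, k4, k1, k0⟩
  refine G2_ext fun x => ?_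
  rw [Subgroup.coe_mul, Subgroup.coe_mul, Units.val_mul, Units.val_mul, ← mulVec_mulVec, ← mulVec_mulVec,
    φ_zPair, φ_zPair]
  show (u : Matrix (Fin 8) (Fin 8) K) *ᵥ _ = ofPair (toA ((u : Matrix (Fin 8) (Fin 8) K) *ᵥ x))
    (-toB ((u : Matrix (Fin 8) (Fin 8) K) *ᵥ x))
  rw [← hU]
  obtain ⟨xH, xP, hHd, hPd⟩ : ∃ xH xP : Fin 8 → K,
      xH = ![x 0, x 1, 0, 0, x 4, 0, 0, x 7] ∧ xP = ![0, 0, x 2, x 3, 0, x 5, x 6, 0] := ⟨_, _, rfl, rfl⟩
  obtain ⟨a2, a3, a5, a6⟩ := (hfix (U *ᵥ xH)).2 (hU ▸ hH u hc xH (by simp [hHd]) (by simp [hHd]) (by simp [hHd])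
    (by simp [hHd]))
  obtain ⟨b0, b1, b4, b7⟩ := hP xP (by simp [hPd]) (by simp [hPd]) (by simp [hPd]) (by simp [hPd])
  have e1 : ofPair (toA x) (-toB x) = xH - xP := by
    funext i; fin_cases i <;> simp [ofPair, toA, toB, hHd, hPd]
  have e2 : x = xH + xP := by funext i; fin_cases i <;> simp [hHd, hPd]
  rw [e1, mulVec_sub]
  conv_rhs => rw [e2, mulVec_add]
  funext i
  fin_cases i <;> simp [ofPair, toA, toB, a2, a3, a5, a6, b0, b1, b4, b7]

open CfsgLib.BlockA.OctonionSylow in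
/-- Unipotent elements centralising the involution have order dividing the characteristic. -/
theorem centralizer_exponent [IsAlgClosed K] (h2 : (2 : K) ≠ 0) {u : Cfsg.Lie.G2 K}
    (hc : u * φ (zPair K) = φ (zPair K) * u) {k : ℕ} (hk : u ^ p ^ k = 1) : u ^ p = 1 := by
  obtain ⟨pr, rfl⟩ := mem_range_of_commute h2 hc
  rw [← map_pow] at hk
  obtain ⟨⟨c, hc1⟩, hc2⟩ := φ_eq_one hk
  simp only [SubmonoidClass.coe_pow, Prod.pow_fst, Prod.pow_snd, Units.val_pow_eq_pow_val] at hc1 hc2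
  have hc2' : ((pr : GL (Fin 2) K × GL (Fin 2) K).2 : Matrix (Fin 2) (Fin 2) K) ^ p ^ k = c • 1 := by
    rw [← Units.val_pow_eq_pow_val, hc2, Units.val_pow_eq_pow_val, hc1]
  obtain ⟨r, hr⟩ := IsAlgClosed.exists_pow_nat_eq c (pow_pos hp.out.pos k)
  have key : ∀ M : Matrix (Fin 2) (Fin 2) K, M ^ p ^ k = c • 1 → M ^ p = r ^ p • 1 := by
    intro M hM
    obtain ⟨N, hN⟩ : ∃ N, N = M - r • (1 : Matrix (Fin 2) (Fin 2) K) := ⟨_, rfl⟩
    have hcm : Commute M (r • (1 : Matrix (Fin 2) (Fin 2) K)) := (Commute.one_right M).smul_right r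
    have hNk : N ^ p ^ k = 0 := by
      rw [hN, sub_pow_char_pow_of_commute p k hcm, hM, _root_.smul_pow, one_pow, hr, sub_self]
    have hN2 : N ^ 2 = 0 := by
      have hd : N.det = 0 := by
        have := congrArg Matrix.det hNk
        rw [Matrix.det_pow, Matrix.det_zero] at this
        exact eq_zero_of_pow_eq_zero this
      have hsq : N ^ 2 = N.trace • N := by
        rw [det_fin_two] at hd
        ext i j
        fin_cases i <;> fin_cases j <;>
          simp [pow_two, Matrix.mul_apply, Fin.sum_univ_two, Matrix.trace_fin_two] <;>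
          first | ring1 | linear_combination -hd
      have hpw : ∀ n, N ^ (n + 1) = N.trace ^ n • N := fun n => by
        induction n with
        | zero => simp
        | succ n ih => rw [pow_succ, ih, Matrix.smul_mul, ← pow_two, hsq, smul_smul, ← pow_succ]
      obtain ⟨n, hn⟩ := Nat.exists_eq_succ_of_ne_zero (pow_pos hp.out.pos k).ne'
      rw [hn, hpw, smul_eq_zero] at hNk
      rcases hNk with h | h
      · rw [hsq, eq_zero_of_pow_eq_zero h, zero_smul]
      · rw [hsq, h, smul_zero]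
    have h := sub_pow_char_of_commute p hcm
    rw [← hN, pow_eq_zero_of_le hp.out.two_le hN2, _root_.smul_pow, one_pow] at h
    exact sub_eq_zero.1 h.symm
  rw [← map_pow]
  refine G2_ext fun x => ?_
  have e1 := key _ hc1
  have e2 := key _ hc2'
  have hr0 : r ^ p ≠ 0 := fun h => by
    rw [h, zero_smul, ← Units.val_pow_eq_pow_val] at e1
    exact Units.ne_zero _ e1
  have e3 : ((((pr : GL (Fin 2) K × GL (Fin 2) K).1 ^ p)⁻¹ : GL (Fin 2) K) : Matrix (Fin 2) (Fin 2) K) =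
      (r ^ p)⁻¹ • 1 := by
    rw [← Units.val_pow_eq_pow_val] at e1
    have h := Units.mul_inv ((pr : GL (Fin 2) K × GL (Fin 2) K).1 ^ p)
    rw [e1, Matrix.smul_mul, one_mul] at h
    rw [← h, smul_smul, inv_mul_cancel₀ hr0, one_smul]
  rw [φ_mulVec, act_apply]
  simp only [SubmonoidClass.coe_pow, Prod.pow_fst, Prod.pow_snd]
  rw [e3, Units.val_pow_eq_pow_val, Units.val_pow_eq_pow_val, e1, e2]
  simp [smul_smul, hr0, ofPair_toA_toB]

end CfsgLib.NormalCover
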