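import Mathlib
import Cfsg.Agent.Lib.NormalCover.G2OddBlock

/-!
Element orders of the automorphism group of Zorn's algebra in odd characteristic.
-/

set_option autoImplicit false
set_option maxHeartbeats 1000000

namespace CfsgLib.NormalCover

open Matrix Cfsg.Lie Polynomial

local notation "mv" g:max => ((g : GL (Fin 8) _) : Matrix (Fin 8) (Fin 8) _)

variable {F : Type*} [Field F]

theorem pow_mulVec_iter (g : GL (Fin 8) F) (n : ℕ) (x : Fin 8 → F) :
    ((g : Matrix (Fin 8) (Fin 8) F) *ᵥ ·)^[n] x = ((g ^ n : GL (Fin 8) F) : Matrix (Fin 8) (Fin 8) F) *ᵥ x := by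
  induction n with
  | zero => simp
  | succ n ih => rw [Function.iterate_succ_apply', ih, pow_succ', Units.val_mul, mulVec_mulVec]

theorem fixed_of_coprime {g : GL (Fin 8) F} {x : Fin 8 → F} {a b : ℕ} (hab : Nat.Coprime a b)
    (ha : ((g ^ a : GL (Fin 8) F) : Matrix (Fin 8) (Fin 8) F) *ᵥ x = x)
    (hb : ((g ^ b : GL (Fin 8) F) : Matrix (Fin 8) (Fin 8) F) *ᵥ x = x) :
    (g : Matrix (Fin 8) (Fin 8) F) *ᵥ x = x := by
  have h1 : Function.IsPeriodicPt ((g : Matrix (Fin 8) (Fin 8) F) *ᵥ ·) a x := (pow_mulVec_iter g a x).trans ha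
  have h2 : Function.IsPeriodicPt ((g : Matrix (Fin 8) (Fin 8) F) *ᵥ ·) b x := (pow_mulVec_iter g b x).trans hb
  have h := h1.gcd h2
  rw [hab] at h
  exact h

theorem gm_conj (x z : GL (Fin 8) F) (w : Fin 8 → F) :
    ((x * z * x⁻¹ : GL (Fin 8) F) : Matrix (Fin 8) (Fin 8) F) *ᵥ ((x : Matrix (Fin 8) (Fin 8) F) *ᵥ w) =
      (x : Matrix (Fin 8) (Fin 8) F) *ᵥ ((z : Matrix (Fin 8) (Fin 8) F) *ᵥ w) := by
  rw [mulVec_mulVec, mulVec_mulVec, ← Units.val_mul, ← Units.val_mul, inv_mul_cancel_right]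

/-- An element killed by one of two coprime exponents in each part. -/
theorem pow_split {G : Type*} [Monoid G] {g : G} {p k m N : ℕ} (hp : p.Prime) (hm : ¬ p ∣ m)
    (hn : orderOf g = p ^ k * m) (hs : (g ^ p ^ k) ^ N = 1) (hu : (g ^ m) ^ p = 1) : g ^ (p * N) = 1 := by
  rw [← pow_mul] at hs hu
  have h1 := hn ▸ orderOf_dvd_of_pow_eq_one hs
  have h2 := hn ▸ orderOf_dvd_of_pow_eq_one hu
  have hmN : m ∣ N := Nat.dvd_of_mul_dvd_mul_left (pow_pos hp.pos k) h1
  have hkp : p ^ k ∣ p := by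
    rw [mul_comm (p ^ k) m] at h2
    exact Nat.dvd_of_mul_dvd_mul_left (Nat.pos_of_ne_zero fun h => hm (by rw [h]; exact dvd_zero p)) h2
  exact orderOf_dvd_iff_pow_eq_one.1 (hn ▸ mul_dvd_mul hkp hmN)

variable [Fintype F]

/-- Every automorphism in odd characteristic is killed by one of six exponents. -/
theorem g2_odd_order_cases {p : ℕ} [hp : Fact p.Prime] [CharP F p] (hp2 : p ≠ 2) {q : ℕ}
    (hq : Fintype.card F = q) {g : GL (Fin 8) F} (hg : g ∈ Cfsg.Lie.G2 F)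
    (hd : (g : Matrix (Fin 8) (Fin 8) F).det = 1) :
    (∃ n ∈ ({p * (q + 1), p * (q - 1), q ^ 2 - 1, q ^ 2 + q + 1, q ^ 2 - q + 1} : Set ℕ), g ^ n = 1) ∨
      ((p = 3 ∨ p = 5) ∧ g ^ p ^ 2 = 1) := by
  classical
  have hp3 : 3 ≤ p := by have := hp.out.two_le; omega
  have hq2 : 2 ≤ q := hq ▸ Fintype.one_lt_card
  have hF2 : (2 : F) ≠ 0 := Ring.two_ne_zero (by rwa [ringChar.eq F p])
  obtain ⟨k, m, hm, hn⟩ := Nat.exists_eq_pow_mul_and_not_dvd (n := orderOf g)
    (orderOf_pos g).ne' p hp.out.ne_one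
  obtain ⟨s, hs⟩ : ∃ s, s = g ^ p ^ k := ⟨_, rfl⟩
  obtain ⟨u, hu⟩ : ∃ u, u = g ^ m := ⟨_, rfl⟩
  have hsm : s ^ m = 1 := by rw [hs, ← pow_mul, ← hn, pow_orderOf_eq_one]
  have huk : u ^ p ^ k = 1 := by rw [hu, ← pow_mul, mul_comm, ← hn, pow_orderOf_eq_one]
  by_cases hs1 : s = 1
  · have hgk : g ^ p ^ k = 1 := hs ▸ hs1
    by_cases h7 : 7 ≤ p
    · refine Or.inl ⟨p * (q + 1), by simp, ?_⟩
      have h := unipotent_exponent hF2 hg hgk (j := 1) (by rwa [pow_one])
      rw [pow_one] at h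
      rw [pow_mul, h, one_pow]
    · refine Or.inr ⟨?_, unipotent_exponent hF2 hg hgk (by nlinarith)⟩
      have := hp.out
      interval_cases p <;> first | omega | (norm_num at this)
  -- the fixed idempotent of the semisimple part
  have hsg : s ∈ Cfsg.Lie.G2 F := hs ▸ pow_mem hg _
  obtain ⟨v, hvt, hvn, hsv⟩ := exists_fixed_nonsing hF2 hsg
    (by rw [hs, Units.val_pow_eq_pow_val, Matrix.det_pow, hd, one_pow]) hsm
    (fun h => hm ((CharP.cast_eq_zero_iff F p m).1 h))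
  let K := AlgebraicClosure F
  let ι : F →+* K := algebraMap F K
  haveI : CharP K p := charP_of_injective_algebraMap ι.injective p
  let σ : K →+* K := (FiniteField.frobeniusAlgHom F K).toRingHom
  have hσ : ∀ x : K, σ x = x ^ q := fun x => by
    show (FiniteField.frobeniusAlgHom F K) x = _
    rw [FiniteField.coe_frobeniusAlgHom, hq]
  have hσι : ∀ a : F, σ (ι a) = ι a := fun a => by rw [hσ, ← map_pow, ← hq, FiniteField.pow_card]
  have hσi : Function.Injective σ := σ.injective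
  have hK2 : (2 : K) ≠ 0 := fun h => hF2 (ι.injective (by rw [map_zero, map_ofNat, h]))
  let L : GL (Fin 8) F →* GL (Fin 8) K := Matrix.GeneralLinearGroup.map ι
  have hLi : Function.Injective L := fun x y h => Units.ext (Matrix.map_injective ι.injective (congrArg Units.val h))
  obtain ⟨l, hl⟩ := IsAlgClosed.exists_pow_nat_eq (ι (-(4 * zNm v)⁻¹)) (n := 2) two_pos
  obtain ⟨c2, hc2⟩ : ∃ c2 : K, c2 = ι (2 : F)⁻¹ := ⟨_, rfl⟩
  have hc2' : 2 * c2 = 1 := by rw [hc2, ← map_ofNat ι 2, ← map_mul, mul_inv_cancel₀ hF2, map_one]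
  obtain ⟨u₀, hu₀⟩ : ∃ u₀, u₀ = c2 • (zOne : Fin 8 → K) + l • (ι ∘ v) := ⟨_, rfl⟩
  have hu₀' : ∀ i, u₀ i = c2 * (zOne : Fin 8 → K) i + l * ι (v i) := fun i => by rw [hu₀]; rfl
  have hvt' : ι (v 0) + ι (v 7) = 0 := by rw [← map_add, show v 0 + v 7 = 0 from hvt, map_zero]
  obtain ⟨x, hx, hxu⟩ := exists_to_eZero_any (u := u₀)
    (by simp [hu₀', zOne]; linear_combination hc2' + l * hvt')
    (by
      have hNv : ι (v 0) * ι (v 7) - (ι (v 1) * ι (v 4) + ι (v 2) * ι (v 5) + ι (v 3) * ι (v 6)) = ι (zNm v) := by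
        simp [zNm]
      have h4 : l ^ 2 * (4 * ι (zNm v)) = -1 := by
        rw [hl, ← map_ofNat ι 4, ← map_mul, ← map_mul, neg_mul, inv_mul_cancel₀, map_neg, map_one]
        refine mul_ne_zero ?_ hvn
        rw [show (4 : F) = 2 * 2 by norm_num]
        exact mul_ne_zero hF2 hF2
      have hc4 : c2 * c2 = -(l ^ 2 * ι (zNm v)) := by
        refine mul_left_cancel₀ (mul_ne_zero hK2 hK2) ?_
        linear_combination (2 * c2 + 1) * hc2' + h4
      simp [hu₀', zOne]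
      linear_combination (l ^ 2) * hNv + c2 * l * hvt' + hc4)
  have hxone : (x : Matrix (Fin 8) (Fin 8) K) *ᵥ zOne = zOne := g2_one hx
  -- the Galois twist
  obtain ⟨y, hy⟩ : ∃ y, y = Matrix.GeneralLinearGroup.map σ x * x⁻¹ := ⟨_, rfl⟩
  have hym : y ∈ Cfsg.Lie.G2 K := hy ▸ mul_mem (map_mem_g2 σ hx) (inv_mem hx)
  have hye : (y : Matrix (Fin 8) (Fin 8) K) *ᵥ eZero = eZero ∨
      (y : Matrix (Fin 8) (Fin 8) K) *ᵥ eZero = zOne - eZero := by
    have e : (y : Matrix (Fin 8) (Fin 8) K) *ᵥ eZero =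
        ((Matrix.GeneralLinearGroup.map σ x : GL (Fin 8) K) : Matrix (Fin 8) (Fin 8) K) *ᵥ u₀ := by
      rw [hy, Units.val_mul, ← mulVec_mulVec, ← hxu, gm_inv]
    have hxσ : ((Matrix.GeneralLinearGroup.map σ x : GL (Fin 8) K) : Matrix (Fin 8) (Fin 8) K) *ᵥ (σ ∘ u₀) =
        eZero := by
      have hσe : σ ∘ (eZero : Fin 8 → K) = eZero := by funext i; fin_cases i <;> simp [eZero]
      rw [← hσe, ← hxu]
      funext i; exact (RingHom.map_mulVec σ _ u₀ i).symm
    have hσ1 : ∀ i, σ ((zOne : Fin 8 → K) i) = (zOne : Fin 8 → K) i := fun i => by fin_cases i <;> simp [zOne]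
    have hσc : σ c2 = c2 := by rw [hc2, hσι]
    have hsq : σ l ^ 2 = l ^ 2 := by rw [← map_pow, hl, hσι]
    rcases sq_eq_sq_iff_eq_or_eq_neg.1 hsq with h | h
    · left
      have : σ ∘ u₀ = u₀ := by funext i; simp [hu₀', h, hσι, hσc, hσ1]
      rw [e, ← hxσ, this]
    · right
      have : σ ∘ u₀ = zOne - u₀ := by
        funext i
        simp [hu₀', h, hσι, hσc, hσ1]
        linear_combination (zOne i) * hc2'
      rw [this, mulVec_sub, g2_one (map_mem_g2 σ hx)] at hxσ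
      rw [e]
      linear_combination (norm := module) -hxσ
  -- blocks of automorphisms over the ground field fixing the idempotent
  have twist : ∀ h ∈ Cfsg.Lie.G2 F, ((x * L h * x⁻¹ : GL (Fin 8) K) : Matrix (Fin 8) (Fin 8) K) *ᵥ eZero = eZero →
      ∃ (A : Matrix (Fin 3) (Fin 3) K) (a b d : K), A.det = 1 ∧
        (∀ w, ((x * L h * x⁻¹ : GL (Fin 8) K) : Matrix (Fin 8) (Fin 8) K) *ᵥ w = moveS A w) ∧
        a + b + d = A.trace ∧ a * b + b * d + d * a = midCoef A ∧ a * b * d = 1 ∧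
        aeval A ((X - C a) * (X - C b) * (X - C d)) = 0 ∧
        ((σ a ::ₘ σ b ::ₘ σ d ::ₘ 0) = (a ::ₘ b ::ₘ d ::ₘ 0) ∨
          ((σ a)⁻¹ ::ₘ (σ b)⁻¹ ::ₘ (σ d)⁻¹ ::ₘ 0) = (a ::ₘ b ::ₘ d ::ₘ 0)) := by
    intro h hh hze
    obtain ⟨z, hzdef⟩ : ∃ z, z = x * L h * x⁻¹ := ⟨_, rfl⟩
    rw [← hzdef] at hze ⊢
    have hzm : z ∈ Cfsg.Lie.G2 K := hzdef ▸ mul_mem (mul_mem hx (map_mem_g2 ι hh)) (inv_mem hx)
    obtain ⟨hdA, hzA⟩ := stab_eZero hzm hze
    obtain ⟨A, hA⟩ : ∃ A, A = blockA z := ⟨_, rfl⟩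
    rw [← hA] at hdA hzA
    have hσh : Matrix.GeneralLinearGroup.map σ (L h) = L h :=
      Units.ext (Matrix.ext fun i j => hσι _)
    have hyz : Matrix.GeneralLinearGroup.map σ z * y = y * z := by
      rw [hzdef, hy, map_mul, map_mul, map_inv, hσh]; group
    have hzσA : ∀ w, ((Matrix.GeneralLinearGroup.map σ z : GL (Fin 8) K) : Matrix (Fin 8) (Fin 8) K) *ᵥ w =
        moveS (A.map σ) w := by
      have hze' : ((Matrix.GeneralLinearGroup.map σ z : GL (Fin 8) K) : Matrix (Fin 8) (Fin 8) K) *ᵥ eZero = eZero := by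
        have hσe : σ ∘ (eZero : Fin 8 → K) = eZero := by funext i; fin_cases i <;> simp [eZero]
        conv_lhs => rw [← hσe]
        funext i
        refine (RingHom.map_mulVec σ _ eZero i).symm.trans ?_
        rw [hze]
        exact congrFun hσe i
      rw [hA]
      exact (stab_eZero (map_mem_g2 σ hzm) hze').2
    obtain ⟨a, b, d, r1, r2, r3, hroot⟩ := exists_roots_three hdA
    refine ⟨A, a, b, d, hdA, hzA, r1, r2, r3, hroot, ?_⟩
    rcases hye with he | he
    · obtain ⟨hdC, hyC⟩ := stab_eZero hym he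
      refine Or.inl ((triple_twist hdC σ r1 r2 r3).1 (moveS_inj fun w => ?_))
      rw [← moveS_comp, ← moveS_comp, ← hyC, ← hzσA, ← hzA, ← hyC, mulVec_mulVec, ← Units.val_mul, hyz,
        Units.val_mul, mulVec_mulVec]
    · obtain ⟨t, ht, htx⟩ := exists_swap_any (F := K)
      have hte : ((t * y : GL (Fin 8) K) : Matrix (Fin 8) (Fin 8) K) *ᵥ eZero = eZero := by
        rw [Units.val_mul, ← mulVec_mulVec, he, mulVec_sub, g2_one ht, htx, moveY_eZero, sub_sub_cancel]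
      obtain ⟨hdC, hyC⟩ := stab_eZero (mul_mem ht hym) hte
      refine Or.inr ((triple_twist hdC σ r1 r2 r3).2 hdA (moveS_inj fun w => ?_))
      have hdσ : (A.map σ).det = 1 := by
        rw [show A.map σ = σ.mapMatrix A from rfl, ← RingHom.map_det, hdA, map_one]
      rw [← moveS_comp, ← moveS_comp, ← hyC, ← moveY_moveS hdσ, ← hzσA, ← hzA, ← hyC, Units.val_mul,
        ← mulVec_mulVec, htx, moveY_invol, mulVec_mulVec, ← Units.val_mul, hyz, Units.val_mul, ← mulVec_mulVec,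
        ← mulVec_mulVec, htx]
  have hback : ∀ (h : GL (Fin 8) F) (A : Matrix (Fin 3) (Fin 3) K) (N : ℕ),
      (∀ w, ((x * L h * x⁻¹ : GL (Fin 8) K) : Matrix (Fin 8) (Fin 8) K) *ᵥ w = moveS A w) →
      (A ^ N = 1 ↔ h ^ N = 1) := by
    intro h A N hA
    refine ⟨fun hN => hLi ?_, fun hN => moveS_inj fun w => ?_⟩
    · have := pow_eq_one_of_moveS hA hN
      rw [conj_pow, conj_eq_one_iff] at this
      rw [map_pow, this, map_one]
    · rw [← pow_moveS hA, conj_pow, ← map_pow, hN, map_one, mul_one, mul_inv_cancel, Units.val_one, one_mulVec,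
        moveS_one]
  have hse : ((x * L s * x⁻¹ : GL (Fin 8) K) : Matrix (Fin 8) (Fin 8) K) *ᵥ eZero = eZero := by
    rw [← hxu, gm_conj]
    congr 1
    have hsv' : ((L s : GL (Fin 8) K) : Matrix (Fin 8) (Fin 8) K) *ᵥ (ι ∘ v) = ι ∘ v := by
      funext i
      refine (RingHom.map_mulVec ι _ v i).symm.trans ?_
      rw [hsv]; rfl
    rw [hu₀, mulVec_add, mulVec_smul, mulVec_smul, hsv', g2_one (map_mem_g2 ι hsg)]
  obtain ⟨A, a, b, d, hdA, hzA, r1, r2, r3, hroot, htw⟩ := twist s hsg hse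
  have hAm : A ^ m = 1 := (hback s A m hzA).2 hsm
  have hcomm : Commute (L u) (L s) := by rw [hu, hs]; exact (Commute.pow_pow_self g m (p ^ k)).map L
  by_cases hMT : midCoef A = A.trace
  · -- an eigenvalue one
    have hR : ∀ t, (t = a ∨ t = b ∨ t = d) → (t ^ q = a ∨ t ^ q = b ∨ t ^ q = d) ∨
        ((t ^ q)⁻¹ = a ∨ (t ^ q)⁻¹ = b ∨ (t ^ q)⁻¹ = d) := by
      intro t ht
      rcases htw with h | h
      · left
        have : σ t ∈ (a ::ₘ b ::ₘ d ::ₘ 0) := h ▸ by rcases ht with rfl | rfl | rfl <;> simp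
        simpa [hσ] using this
      · right
        have : (σ t)⁻¹ ∈ (a ::ₘ b ::ₘ d ::ₘ 0) := h ▸ by rcases ht with rfl | rfl | rfl <;> simp
        simpa [hσ] using this
    obtain ⟨N, hN, ha, hb, hd'⟩ := one_root_orders (q := q) (by omega)
      (fun s t hst => hσi (by rw [hσ, hσ]; exact hst)) r3 ((one_root_iff r1 r2 r3).1 hMT) hR
    have hsN : s ^ N = 1 :=
      (hback s A N hzA).1 (pow_semisimple hAm hm (pow_of_roots hp3 hroot ha hb hd'))
    have hT3 : A.trace ≠ 3 := by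
      intro h3
      have hone : (1 ::ₘ 1 ::ₘ 1 ::ₘ 0 : Multiset K) = (a ::ₘ b ::ₘ d ::ₘ 0) :=
        triple_eq (by rw [r1, h3]; norm_num) (by rw [r2, hMT, h3]; norm_num) (by rw [r3]; norm_num)
      have hall : ∀ t ∈ (a ::ₘ b ::ₘ d ::ₘ 0), t = 1 := fun t ht => by rw [← hone] at ht; simpa using ht
      have h1 : A ^ 1 = 1 := pow_semisimple hAm hm (pow_of_roots hp3 hroot (by simp [hall a (by simp)])
        (by simp [hall b (by simp)]) (by simp [hall d (by simp)]))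
      exact hs1 (by simpa using (hback s A 1 hzA).1 h1)
    obtain ⟨S, e, f, g', h', hS, hSA, hed, het⟩ := exists_block hdA hMT hT3
    obtain ⟨gS, hgS, hgSx⟩ := exists_g2 _ (moveS_injective hS) (moveS_mul hS)
    obtain ⟨X', hX'⟩ : ∃ X', X' = gS * x := ⟨_, rfl⟩
    have hX'm : X' ∈ Cfsg.Lie.G2 K := hX' ▸ mul_mem hgS hx
    have hz' : ∀ w, ((X' * L s * X'⁻¹ : GL (Fin 8) K) : Matrix (Fin 8) (Fin 8) K) *ᵥ w =
        moveS !![1, 0, 0; 0, e, f; 0, g', h'] w := by
      intro w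
      obtain ⟨w', rfl⟩ : ∃ w', (gS : Matrix (Fin 8) (Fin 8) K) *ᵥ w' = w :=
        ⟨((gS⁻¹ : GL (Fin 8) K) : Matrix (Fin 8) (Fin 8) K) *ᵥ w, by
          rw [mulVec_mulVec, ← Units.val_mul, mul_inv_cancel, Units.val_one, one_mulVec]⟩
      rw [hX', show gS * x * L s * (gS * x)⁻¹ = gS * (x * L s * x⁻¹) * gS⁻¹ by group, gm_conj, hzA, hgSx, hgSx,
        moveS_comp, moveS_comp, hSA]
    obtain ⟨u', hu'⟩ : ∃ u', u' = X' * L u * X'⁻¹ := ⟨_, rfl⟩
    have hu'm : u' ∈ Cfsg.Lie.G2 K :=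
      hu' ▸ mul_mem (mul_mem hX'm (map_mem_g2 ι (hu ▸ pow_mem hg m))) (inv_mem hX'm)
    have hu'c : Commute u' (X' * L s * X'⁻¹) := by
      rw [hu']; exact (Commute.conj_iff X').2 hcomm
    have hu'k : (⟨u', hu'm⟩ : Cfsg.Lie.G2 K) ^ p ^ k = 1 := Subtype.ext (by
      show u' ^ p ^ k = 1
      rw [hu', conj_pow, ← map_pow, huk, map_one, mul_one, mul_inv_cancel])
    have hup := centralizer_exponent hK2 (commute_zPair hu'm hed het hz' hu'c) hu'k
    have hup' : u ^ p = 1 := hLi (by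
      have : u' ^ p = 1 := congrArg Subtype.val hup
      rw [hu', conj_pow, conj_eq_one_iff] at this
      rw [map_pow, this, map_one])
    refine Or.inl ⟨p * N, ?_, pow_split hp.out hm hn (hs ▸ hsN) (hu ▸ hup')⟩
    rcases hN with rfl | rfl <;> simp
  · -- no eigenvalue one: the whole element fixes the idempotent
    have hker : ∀ B : Matrix (Fin 3) (Fin 3) K, B.det = 1 → midCoef B ≠ B.trace → ∀ w, B *ᵥ w = w → w = 0 := by
      intro B hB hne w hw
      refine Matrix.eq_zero_of_mulVec_eq_zero ?_ (M := B - 1) (by rw [sub_mulVec, one_mulVec, hw, sub_self])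
      rw [det_sub_one hB]
      exact sub_ne_zero.2 hne.symm
    obtain ⟨u', hu'⟩ : ∃ u', u' = x * L u * x⁻¹ := ⟨_, rfl⟩
    have hu'm : u' ∈ Cfsg.Lie.G2 K :=
      hu' ▸ mul_mem (mul_mem hx (map_mem_g2 ι (hu ▸ pow_mem hg m))) (inv_mem hx)
    obtain ⟨w, hw⟩ : ∃ w, w = (u' : Matrix (Fin 8) (Fin 8) K) *ᵥ eZero := ⟨_, rfl⟩
    have hzw : moveS A w = w := by
      rw [← hzA, hw, mulVec_mulVec, ← Units.val_mul, hu', ← ((Commute.conj_iff x).2 hcomm).eq, Units.val_mul,
        ← mulVec_mulVec, hse]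
    have hwa : ![w 1, w 2, w 3] = 0 := by
      refine hker A hdA hMT _ ?_
      funext i
      have c1 := congrFun hzw (![1, 2, 3] i)
      fin_cases i <;> simpa [moveS, mulVec, dotProduct, Fin.sum_univ_three] using c1
    have hwb : ![w 4, w 5, w 6] = 0 := by
      refine hker (adjT A) (by rw [adjT, det_transpose, det_adjugate, hdA, one_pow])
        (by rw [(coef_adjT hdA).1, (coef_adjT hdA).2]; exact Ne.symm hMT) _ ?_
      funext i
      have c1 := congrFun hzw (![4, 5, 6] i)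
      fin_cases i <;> simp [moveS, adjT, adjugate_fin_three, mulVec, dotProduct, Fin.sum_univ_three] at c1 ⊢ <;>
        linear_combination c1
    have w1 := congrFun hwa 0; have w2 := congrFun hwa 1; have w3 := congrFun hwa 2
    have w4 := congrFun hwb 0; have w5 := congrFun hwb 1; have w6 := congrFun hwb 2
    simp at w1 w2 w3 w4 w5 w6
    obtain ⟨ht1, hn1⟩ := g2_tr_nm hu'm (eZero : Fin 8 → K)
    rw [← hw] at ht1 hn1
    simp [zTr, zNm, eZero, w1, w2, w3] at ht1 hn1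
    have hu'e : (u' : Matrix (Fin 8) (Fin 8) K) *ᵥ eZero = eZero := by
      rw [← hw]
      rcases hn1 with h0 | h7
      · exfalso
        have h7 : w 7 = 1 := by linear_combination ht1 - h0
        have hwe : (u' : Matrix (Fin 8) (Fin 8) K) *ᵥ eZero = zOne - eZero := by
          rw [← hw]; funext i; fin_cases i <;> simp [zOne, eZero, h0, h7, w1, w2, w3, w4, w5, w6]
        have h2 : ((u' ^ 2 : GL (Fin 8) K) : Matrix (Fin 8) (Fin 8) K) *ᵥ eZero = eZero := by
          rw [pow_two, Units.val_mul, ← mulVec_mulVec, hwe, mulVec_sub, g2_one hu'm, hwe, sub_sub_cancel]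
        have hk1 : ((u' ^ p ^ k : GL (Fin 8) K) : Matrix (Fin 8) (Fin 8) K) *ᵥ eZero = eZero := by
          rw [hu', conj_pow, ← map_pow, huk, map_one, mul_one, mul_inv_cancel, Units.val_one, one_mulVec]
        have := fixed_of_coprime (Nat.Coprime.pow_right k ((Nat.coprime_primes Nat.prime_two hp.out).2 hp2.symm)) h2 hk1
        have h00 := congrFun (hw.trans this) 0
        simp [h0, eZero] at h00
      · funext i; fin_cases i <;> simp [eZero, h7, w1, w2, w3, w4, w5, w6]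
        linear_combination ht1 - h7
    have hge : ((x * L g * x⁻¹ : GL (Fin 8) K) : Matrix (Fin 8) (Fin 8) K) *ᵥ eZero = eZero := by
      refine fixed_of_coprime (a := p ^ k) (b := m) (Nat.Coprime.pow_left k (hp.out.coprime_iff_not_dvd.2 hm)) ?_ ?_
      · rw [conj_pow, ← map_pow, ← hs]; exact hse
      · rw [conj_pow, ← map_pow, ← hu, ← hu']; exact hu'e
    obtain ⟨B, a', b', d', hdB, hgB, -, -, r3', hroot', htw'⟩ := twist g hg hge
    rcases inner_odd_orders hp3 hq2 hσ hσi hroot' r3' htw' with h | h | h | h | h <;>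
      exact Or.inl ⟨_, by simp, (hback g B _ hgB).1 h⟩

end CfsgLib.NormalCover
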