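import Mathlib

/-!
Field subalgebras in centralisers of linear maps over finite fields, and their conjugacy by automorphisms of
determinant one.
-/

set_option autoImplicit false

namespace CfsgLib.NormalCover

open Polynomial

variable {F : Type*} [Field F] [Finite F]

omit [Finite F] in
theorem dvd_comp_sub (h : F[X]) {d P Q : F[X]} (hd : d ∣ P - Q) : d ∣ h.comp P - h.comp Q := by
  rw [Polynomial.comp, Polynomial.comp, ← eval_map, ← eval_map]
  exact hd.trans (Polynomial.sub_dvd_eval_sub P Q (h.map C))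

/-- Modulo `g` a separable `h` has a root as soon as its degree divides every irreducible factor degree of `g`. -/
theorem exists_root_mod {h : F[X]} (hh : Irreducible h) : ∀ g : F[X], g ≠ 0 →
    (∀ f : F[X], Irreducible f → f ∣ g → h.natDegree ∣ f.natDegree) → ∃ (P : F[X]) (N : ℕ), g ∣ (h.comp P) ^ N := by
  intro g
  induction g using UniqueFactorizationMonoid.induction_on_coprime with
  | h0 => exact fun h => absurd rfl h
  | h1 hu => exact fun _ _ => ⟨0, 0, isUnit_iff_dvd_one.1 (by simpa using hu)⟩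
  | @hpr f i hf =>
    intro _ hdiv
    rcases Nat.eq_zero_or_pos i with rfl | hi
    · exact ⟨0, 0, by simp⟩
    have hfi : Irreducible f := hf.irreducible
    have hd := hdiv f hfi (dvd_pow_self f hi.ne')
    haveI : Fact (Irreducible f) := ⟨hfi⟩
    haveI : Fintype F := Fintype.ofFinite F
    haveI : Module.Finite F (AdjoinRoot f) := (AdjoinRoot.powerBasis hfi.ne_zero).finite
    haveI : Finite (AdjoinRoot f) := Module.finite_of_finite F
    have hcard : Nat.card (AdjoinRoot f) = Nat.card F ^ f.natDegree := by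
      rw [Module.natCard_eq_pow_finrank (K := F), (AdjoinRoot.powerBasis hfi.ne_zero).finrank,
        AdjoinRoot.powerBasis_dim]
    haveI := Fintype.ofFinite (AdjoinRoot f)
    have hsp : (h.map (algebraMap F (AdjoinRoot f))).Splits := by
      refine Splits.of_dvd (g := (X ^ Nat.card (AdjoinRoot f) - X : (AdjoinRoot f)[X])) ?_ ?_ ?_
      · rw [Nat.card_eq_fintype_card, splits_iff_card_roots, FiniteField.roots_X_pow_card_sub_X,
          FiniteField.X_pow_card_sub_X_natDegree_eq _ Fintype.one_lt_card]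
        rfl
      · exact FiniteField.X_pow_card_sub_X_ne_zero _ Finite.one_lt_card
      · have := Polynomial.map_dvd (algebraMap F (AdjoinRoot f))
          ((hh.natDegree_dvd_iff_dvd_X_pow_card_pow_sub_X).1 hd)
        rw [Polynomial.map_sub, Polynomial.map_pow, map_X] at this
        rwa [hcard]
    obtain ⟨x, hx⟩ := hsp.exists_eval_eq_zero (by
      rw [degree_map]; exact (Polynomial.degree_pos_of_irreducible hh).ne')
    obtain ⟨P, rfl⟩ := AdjoinRoot.mk_surjective x
    refine ⟨P, i, pow_dvd_pow_of_dvd ?_ i⟩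
    rw [← AdjoinRoot.mk_eq_zero, ← AdjoinRoot.aeval_eq, aeval_comp, AdjoinRoot.aeval_eq]
    rwa [eval_map_algebraMap] at hx
  | @hcp a b hab iha ihb =>
    intro h0 hdiv
    obtain ⟨P₁, N₁, h₁⟩ := iha (left_ne_zero_of_mul h0) fun f hf hfa => hdiv f hf (hfa.mul_right _)
    obtain ⟨P₂, N₂, h₂⟩ := ihb (right_ne_zero_of_mul h0) fun f hf hfb => hdiv f hf (hfb.mul_left _)
    obtain ⟨s, t, hst⟩ := hab.isCoprime
    refine ⟨P₁ * (t * b) + P₂ * (s * a), N₁ + N₂, hab.mul_dvd ?_ ?_⟩
    · have e : a ∣ h.comp (P₁ * (t * b) + P₂ * (s * a)) - h.comp P₁ :=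
        dvd_comp_sub h ⟨s * (P₂ - P₁), by linear_combination P₁ * hst⟩
      have e' : a ∣ (h.comp (P₁ * (t * b) + P₂ * (s * a))) ^ N₁ - (h.comp P₁) ^ N₁ :=
        e.trans (sub_dvd_pow_sub_pow _ _ N₁)
      exact ((dvd_sub_left h₁).1 e').trans (pow_dvd_pow _ (Nat.le_add_right _ _))
    · have e : b ∣ h.comp (P₁ * (t * b) + P₂ * (s * a)) - h.comp P₂ :=
        dvd_comp_sub h ⟨t * (P₁ - P₂), by linear_combination P₂ * hst⟩
      have e' : b ∣ (h.comp (P₁ * (t * b) + P₂ * (s * a))) ^ N₂ - (h.comp P₂) ^ N₂ :=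
        e.trans (sub_dvd_pow_sub_pow _ _ N₂)
      exact ((dvd_sub_left h₂).1 e').trans (pow_dvd_pow _ (Nat.le_add_left _ _))

/-- Irreducible polynomials of every degree. -/
theorem exists_monic_irreducible (d : ℕ) [NeZero d] : ∃ h : F[X], h.Monic ∧ Irreducible h ∧ h.natDegree = d := by
  obtain ⟨p, hp⟩ := CharP.exists F
  haveI : Fact p.Prime := ⟨CharP.char_is_prime F p⟩
  obtain ⟨α, hα⟩ := Field.exists_primitive_element F (FiniteField.Extension F p d)
  have hi : IsIntegral F α := IsIntegral.of_finite F α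
  refine ⟨minpoly F α, minpoly.monic hi, minpoly.irreducible hi, ?_⟩
  rw [← IntermediateField.adjoin.finrank hi, hα, IntermediateField.finrank_top', FiniteField.finrank_extension]

variable {V : Type*} [AddCommGroup V] [Module F V]

/-- An algebra map from a field into the algebra generated by a linear map. -/
theorem exists_hom_poly {h : F[X]} (hh : Irreducible h) [Fact (Irreducible h)] (g : Module.End F V) {χ : F[X]}
    (hχ : χ ≠ 0) (hg : aeval g χ = 0)
    (hdiv : ∀ f : F[X], Irreducible f → f ∣ χ → h.natDegree ∣ f.natDegree) :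
    ∃ φ : AdjoinRoot h →ₐ[F] Module.End F V, ∀ k, ∃ R : F[X], φ k = aeval g R := by
  obtain ⟨P, N, hP⟩ := exists_root_mod hh χ hχ hdiv
  let x : AdjoinRoot χ := AdjoinRoot.mk χ P
  have hn : IsNilpotent (aeval x h) := ⟨N, by
    show (aeval (AdjoinRoot.mk χ P) h) ^ N = 0
    rwa [← AdjoinRoot.aeval_eq, ← aeval_comp, ← map_pow, AdjoinRoot.aeval_eq, AdjoinRoot.mk_eq_zero]⟩
  have hu : IsUnit (aeval x (derivative h)) := by
    obtain ⟨a, b, hab⟩ := PerfectField.separable_of_irreducible hh
    have h1 := congrArg (aeval x) hab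
    rw [map_add, map_mul, map_mul, map_one] at h1
    refine isUnit_of_mul_isUnit_right (x := aeval x b) ?_
    rw [show aeval x b * aeval x (derivative h) = 1 - aeval x a * aeval x h by rw [← h1]; ring]
    exact ((Commute.all _ _).isNilpotent_mul_left hn).isUnit_one_sub
  obtain ⟨r, ⟨-, hr⟩, -⟩ := Polynomial.existsUnique_nilpotent_sub_and_aeval_eq_zero hn hu
  let ψ : AdjoinRoot χ →ₐ[F] Module.End F V :=
    Ideal.Quotient.liftₐ (Ideal.span {χ}) (aeval g) fun a ha => by
      obtain ⟨c, rfl⟩ := Ideal.mem_span_singleton.1 ha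
      rw [map_mul, hg, zero_mul]
  refine ⟨ψ.comp (AdjoinRoot.liftAlgHom h (Algebra.ofId F (AdjoinRoot χ)) r (by simpa [aeval_def] using hr)),
    fun k => ?_⟩
  obtain ⟨R, hR⟩ := AdjoinRoot.mk_surjective
    (AdjoinRoot.liftAlgHom h (Algebra.ofId F (AdjoinRoot χ)) r (by simpa [aeval_def] using hr) k)
  refine ⟨R, ?_⟩
  rw [AlgHom.comp_apply, ← hR]
  rfl

/-- An algebra map from a field into the centraliser of a linear map. -/
theorem exists_hom_commute {h : F[X]} (hh : Irreducible h) [Fact (Irreducible h)] (g : Module.End F V) {χ : F[X]}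
    (hχ : χ ≠ 0) (hg : aeval g χ = 0)
    (hdiv : ∀ f : F[X], Irreducible f → f ∣ χ → h.natDegree ∣ f.natDegree) :
    ∃ φ : AdjoinRoot h →ₐ[F] Module.End F V, ∀ k, Commute (φ k) g := by
  obtain ⟨φ, hφ⟩ := exists_hom_poly hh g hχ hg hdiv
  refine ⟨φ, fun k => ?_⟩
  obtain ⟨R, hR⟩ := hφ k
  rw [hR]
  nth_rw 2 [← aeval_X (R := F) g]
  exact (Commute.all _ _).map _

/-- `V` as a vector space over `K` through `φ`. -/
def Twist {K : Type*} [Field K] [Algebra F K] (_φ : K →ₐ[F] Module.End F V) : Type _ := V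

namespace Twist

variable {K : Type*} [Field K] [Algebra F K] (φ : K →ₐ[F] Module.End F V)

instance : AddCommGroup (Twist φ) := inferInstanceAs (AddCommGroup V)
instance : Module F (Twist φ) := inferInstanceAs (Module F V)
instance : Module K (Twist φ) := Module.compHom V φ.toRingHom
instance : IsScalarTower F K (Twist φ) :=
  ⟨fun a k v => LinearMap.congr_fun (map_smul φ a k) v⟩
instance [FiniteDimensional F V] : FiniteDimensional F (Twist φ) := inferInstanceAs (FiniteDimensional F V)

end Twist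

/-- Two embeddings of a finite field are conjugate by an automorphism of determinant one. -/
theorem exists_det_one_conj [FiniteDimensional F V] [Nontrivial V] {K : Type*} [Field K] [Algebra F K] [Finite K]
    [FiniteDimensional F K] (φ ψ : K →ₐ[F] Module.End F V) :
    ∃ e : V ≃ₗ[F] V, LinearMap.det (e : V →ₗ[F] V) = 1 ∧ ∀ k v, e (φ k v) = ψ k (e v) := by
  haveI : Module.Finite K (Twist φ) := Module.Finite.of_restrictScalars_finite F K _
  haveI : Module.Finite K (Twist ψ) := Module.Finite.of_restrictScalars_finite F K _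
  haveI : Nontrivial (Twist ψ) := inferInstanceAs (Nontrivial V)
  have hd : Module.finrank K (Twist φ) = Module.finrank K (Twist ψ) := by
    have h1 := Module.finrank_mul_finrank F K (Twist φ)
    have h2 : Module.finrank F K * Module.finrank K (Twist ψ) = Module.finrank F V :=
      Module.finrank_mul_finrank F K (Twist ψ)
    exact mul_left_cancel₀ (Module.finrank_pos (R := F) (M := K)).ne' (h1.trans h2.symm)
  let E : Twist φ ≃ₗ[K] Twist ψ := LinearEquiv.ofFinrankEq _ _ hd
  let e0 : V ≃ₗ[F] V := E.restrictScalars F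
  have hd0 : LinearMap.det (e0 : V →ₗ[F] V) ≠ 0 := (LinearEquiv.isUnit_det' e0).ne_zero
  obtain ⟨κ, hκ⟩ := FiniteField.norm_surjective F K (LinearMap.det (e0 : V →ₗ[F] V))⁻¹
  have hκ0 : κ ≠ 0 := fun h => inv_ne_zero hd0 (by rw [← hκ, h, Algebra.norm_zero])
  -- a map scaling one basis vector
  let b := Module.finBasis K (Twist ψ)
  have hn : 0 < Module.finrank K (Twist ψ) := Module.finrank_pos
  let w : Fin (Module.finrank K (Twist ψ)) → Kˣ := fun i => if i = ⟨0, hn⟩ then Units.mk0 κ hκ0 else 1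
  let T : Twist ψ ≃ₗ[K] Twist ψ := b.equiv (b.unitsSMul w) (Equiv.refl _)
  have hT : LinearMap.det (T : Twist ψ →ₗ[K] Twist ψ) = κ := by
    rw [← LinearMap.det_toMatrix b,
      show LinearMap.toMatrix b b (T : Twist ψ →ₗ[K] Twist ψ) = Matrix.diagonal fun i => (w i : K) by
        ext i j
        rw [LinearMap.toMatrix_apply, LinearEquiv.coe_coe, Module.Basis.equiv_apply,
          Equiv.refl_apply, Module.Basis.unitsSMul_apply, Units.smul_def, map_smul, Module.Basis.repr_self]
        rcases eq_or_ne i j with rfl | h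
        · simp
        · simp [h],
      Matrix.det_diagonal, Finset.prod_eq_single ⟨0, hn⟩ (fun j _ hj => by simp [w, hj]) (by simp)]
    simp [w]
  let e1 : V ≃ₗ[F] V := (E.trans T).restrictScalars F
  refine ⟨e1, ?_, fun k v => (E.trans T).map_smul k (v : Twist φ)⟩
  let T0 : V ≃ₗ[F] V := T.restrictScalars F
  have h1 : LinearMap.det (T0 : V →ₗ[F] V) = Algebra.norm F κ := by
    rw [← hT]
    exact LinearMap.det_restrictScalars (R := F) (f := (T : Twist ψ →ₗ[K] Twist ψ))
  show LinearMap.det ((T0 : V →ₗ[F] V) ∘ₗ (e0 : V →ₗ[F] V)) = 1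
  rw [LinearMap.det_comp, h1, hκ, inv_mul_cancel₀ hd0]

end CfsgLib.NormalCover
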