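import Mathlib
import Cfsg.Agent.Lib.NormalCover.Basic
import Cfsg.Agent.Lib.NormalCover.Field

/-!
Two-subgroup coverings of `PSL₂`, `PSL₃` and `PSL₄`: the stabiliser of a point and the centraliser of a
field extension.
-/

set_option autoImplicit false

namespace CfsgLib.NormalCover

open Matrix Polynomial

variable {F : Type*} [Field F] [Fintype F] {n : ℕ}

local notation "SLn" => Matrix.SpecialLinearGroup (Fin n) F
local notation "Vn" => Fin n → F
local notation "Mn" => Matrix (Fin n) (Fin n) F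

/-- The stabiliser in `SL` of a line. -/
def slLine (v : Vn) : Subgroup SLn where
  carrier := {g | ∃ c : Fˣ, (g : Mn) *ᵥ v = (c : F) • v}
  mul_mem' := by
    rintro a b ⟨c, hc⟩ ⟨d, hd⟩
    exact ⟨c * d, by
      rw [Matrix.SpecialLinearGroup.coe_mul, ← mulVec_mulVec, hd, mulVec_smul, hc, smul_smul, Units.val_mul,
        mul_comm]⟩
  one_mem' := ⟨1, by simp⟩
  inv_mem' := by
    rintro a ⟨c, hc⟩
    refine ⟨c⁻¹, ?_⟩
    have h := congrArg (fun w => ((c⁻¹ : Fˣ) : F) • (((a⁻¹ : SLn) : Mn) *ᵥ w)) hc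
    rw [mulVec_mulVec, ← Matrix.SpecialLinearGroup.coe_mul, inv_mul_cancel,
      Matrix.SpecialLinearGroup.coe_one, one_mulVec, mulVec_smul, smul_smul, Units.inv_mul, one_smul] at h
    exact h.symm

/-- The centraliser in `SL` of a matrix. -/
def slCent (J : Mn) : Subgroup SLn where
  carrier := {g | Commute (g : Mn) J}
  mul_mem' ha hb := by
    simp only [Set.mem_setOf_eq, Matrix.SpecialLinearGroup.coe_mul] at *
    exact ha.mul_left hb
  one_mem' := by simp
  inv_mem' := by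
    intro a ha
    show Commute ((a⁻¹ : SLn) : Mn) J
    have h1 : ((a⁻¹ : SLn) : Mn) * (a : Mn) = 1 := by
      rw [← Matrix.SpecialLinearGroup.coe_mul, inv_mul_cancel, Matrix.SpecialLinearGroup.coe_one]
    have h2 : (a : Mn) * ((a⁻¹ : SLn) : Mn) = 1 := by
      rw [← Matrix.SpecialLinearGroup.coe_mul, mul_inv_cancel, Matrix.SpecialLinearGroup.coe_one]
    exact Commute.units_inv_left (u := ⟨(a : Mn), ((a⁻¹ : SLn) : Mn), h2, h1⟩) ha

theorem center_scalar_le {g : SLn} (hg : g ∈ Subgroup.center SLn) : ∃ c : F, (g : Mn) = Matrix.scalar (Fin n) c := by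
  obtain ⟨r, -, hr⟩ := Matrix.SpecialLinearGroup.mem_center_iff.1 hg
  exact ⟨r, hr.symm⟩

theorem transv_mulVec {i j : Fin n} (hij : i ≠ j) (v : Vn) :
    (Matrix.SpecialLinearGroup.transvection hij (1 : F) : Mn) *ᵥ v = v + Pi.single i (v j) := by
  rw [Matrix.SpecialLinearGroup.transvection_coe, add_mulVec, one_mulVec, single_mulVec_eq, ← Pi.single_smul',
    smul_eq_mul, mul_one, one_mul]

/-- Any non-zero vector is moved to any other one, up to a scalar, by `SL`. -/
theorem exists_sl_line {v w : Vn} (hv : v ≠ 0) (hw : w ≠ 0) :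
    ∃ (x : SLn) (c : Fˣ), (x : Mn) *ᵥ v = (c : F) • w := by
  classical
  have key : ∀ u : Vn, u ≠ 0 → ∃ (g : SLn) (k : Fin n) (c : Fˣ), (g : Mn) *ᵥ Pi.single k 1 = (c : F) • u := by
    intro u hu
    obtain ⟨k, hk⟩ := Function.ne_iff.1 hu
    let M : Mn := Matrix.updateCol 1 k ((u k)⁻¹ • u)
    have hdet : M.det = 1 := by
      rw [det_updateCol_smul, ← Matrix.cramer_apply, Matrix.cramer_one]
      exact inv_mul_cancel₀ hk
    refine ⟨⟨M, hdet⟩, k, Units.mk0 (u k)⁻¹ (inv_ne_zero hk), ?_⟩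
    show M *ᵥ Pi.single k 1 = _
    rw [mulVec_single_one]
    funext i
    simp [M]
  obtain ⟨g₁, k, c₁, h₁⟩ := key v hv
  obtain ⟨g₂, l, c₂, h₂⟩ := key w hw
  obtain ⟨s, hs⟩ : ∃ s : SLn, (s : Mn) *ᵥ Pi.single k 1 = Pi.single l 1 := by
    by_cases hkl : k = l
    · exact ⟨1, by rw [hkl, Matrix.SpecialLinearGroup.coe_one, one_mulVec]⟩
    refine ⟨Matrix.SpecialLinearGroup.transvection hkl (-1) *
      Matrix.SpecialLinearGroup.transvection (Ne.symm hkl) 1, ?_⟩
    rw [Matrix.SpecialLinearGroup.coe_mul, ← mulVec_mulVec, transv_mulVec]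
    funext i
    rw [Matrix.SpecialLinearGroup.transvection_coe, add_mulVec, one_mulVec, single_mulVec_eq]
    rcases eq_or_ne i k with rfl | hik
    · simp [hkl, Ne.symm hkl]
    · rcases eq_or_ne i l with rfl | hil
      · simp [hik, hkl]
      · simp [hik, hil]
  refine ⟨g₂ * s * g₁⁻¹, c₁⁻¹ * c₂, ?_⟩
  have hv' : ((g₁⁻¹ : SLn) : Mn) *ᵥ v = ((c₁⁻¹ : Fˣ) : F) • Pi.single k 1 := by
    have h := congrArg (fun z => ((c₁⁻¹ : Fˣ) : F) • (((g₁⁻¹ : SLn) : Mn) *ᵥ z)) h₁
    rw [mulVec_mulVec, ← Matrix.SpecialLinearGroup.coe_mul, inv_mul_cancel,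
      Matrix.SpecialLinearGroup.coe_one, one_mulVec, mulVec_smul, smul_smul, Units.inv_mul, one_smul] at h
    exact h.symm
  rw [Matrix.SpecialLinearGroup.coe_mul, Matrix.SpecialLinearGroup.coe_mul, ← mulVec_mulVec, hv',
    mulVec_smul, ← mulVec_mulVec, hs, h₂, smul_smul, Units.val_mul]

theorem exists_mem_line (g : SLn) {u w : Vn} (hu : u ≠ 0) (hw : w ≠ 0) {c : F} (hg : (g : Mn) *ᵥ u = c • u) :
    ∃ x : SLn, x * g * x⁻¹ ∈ slLine w := by
  obtain ⟨x, d, hx⟩ := exists_sl_line hu hw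
  have hinv : ((g⁻¹ : SLn) : Mn) *ᵥ ((g : Mn) *ᵥ u) = u := by
    rw [mulVec_mulVec, ← Matrix.SpecialLinearGroup.coe_mul, inv_mul_cancel, Matrix.SpecialLinearGroup.coe_one,
      one_mulVec]
  have hc : c ≠ 0 := fun h => hu (by rw [← hinv, hg, h, zero_smul, mulVec_zero])
  refine ⟨x, Units.mk0 c hc, ?_⟩
  have hxi : ((x⁻¹ : SLn) : Mn) *ᵥ w = ((d⁻¹ : Fˣ) : F) • u := by
    have h := congrArg (fun z => ((d⁻¹ : Fˣ) : F) • (((x⁻¹ : SLn) : Mn) *ᵥ z)) hx
    rw [mulVec_mulVec, ← Matrix.SpecialLinearGroup.coe_mul, inv_mul_cancel,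
      Matrix.SpecialLinearGroup.coe_one, one_mulVec, mulVec_smul, smul_smul, Units.inv_mul, one_smul] at h
    exact h.symm
  rw [Matrix.SpecialLinearGroup.coe_mul, Matrix.SpecialLinearGroup.coe_mul, ← mulVec_mulVec, hxi,
    mulVec_smul, ← mulVec_mulVec, hg, mulVec_smul, hx, smul_smul, smul_smul, Units.val_mk0]
  congr 1
  rw [mul_assoc, mul_comm c, ← mul_assoc, Units.inv_mul, one_mul]

/-- The stabiliser of a line is proper and contains the centre. -/
theorem slLine_ne_top {i j : Fin n} (hij : i ≠ j) : slLine (Pi.single j (1 : F)) ≠ (⊤ : Subgroup SLn) := by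
  intro h
  obtain ⟨c, hc⟩ : Matrix.SpecialLinearGroup.transvection hij (1 : F) ∈ slLine (Pi.single j (1 : F)) :=
    h ▸ Subgroup.mem_top _
  rw [transv_mulVec] at hc
  have := congrFun hc i
  simp [hij] at this

theorem center_le_slLine (v : Vn) : Subgroup.center SLn ≤ slLine v := by
  intro g hg
  obtain ⟨c, hc⟩ := center_scalar_le hg
  rcases eq_or_ne v 0 with rfl | hv
  · exact ⟨1, by simp⟩
  have hc0 : c ≠ 0 := by
    intro h
    have hdet := g.2
    rw [show (g.1 : Mn) = Matrix.scalar (Fin n) c from hc, h, map_zero] at hdet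
    obtain ⟨i, -⟩ := Function.ne_iff.1 hv
    haveI : Nonempty (Fin n) := ⟨i⟩
    rw [det_zero] at hdet
    exact zero_ne_one hdet
  exact ⟨Units.mk0 c hc0, by rw [hc, scalar_apply, ← smul_one_eq_diagonal, smul_mulVec, one_mulVec]; rfl⟩

theorem center_le_slCent (J : Mn) : Subgroup.center SLn ≤ slCent J := by
  intro g hg
  obtain ⟨c, hc⟩ := center_scalar_le hg
  show Commute (g : Mn) J
  rw [hc]
  exact Matrix.scalar_commute c (Commute.all c) J

/-- A matrix without eigenvectors is centralised by no transvection. -/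
theorem slCent_ne_top {J : Mn} {i j : Fin n} (hij : i ≠ j) (hJ : ∀ (c : F) (u : Vn), J *ᵥ u = c • u → u = 0) :
    slCent J ≠ ⊤ := by
  intro h
  have hc : Commute (Matrix.SpecialLinearGroup.transvection hij (1 : F) : Mn) J :=
    (h ▸ Subgroup.mem_top _ : Matrix.SpecialLinearGroup.transvection hij (1 : F) ∈ slCent J)
  have h1 := congrArg (fun A : Mn => A *ᵥ Pi.single j (1 : F)) hc.eq
  simp only [← mulVec_mulVec, transv_mulVec, mulVec_add, Pi.single_eq_same] at h1
  have h2 : J *ᵥ Pi.single i (1 : F) = (J *ᵥ Pi.single j 1) j • Pi.single i 1 := by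
    rw [← Pi.single_smul', smul_eq_mul, mul_one]
    exact (add_left_cancel h1).symm
  simpa using congrFun (hJ _ _ h2) i

/-- The covering of `PSL_n` for `n ≤ 4`, given a field degree dividing every fixed-point-free factor degree. -/
theorem psl_covered {d : ℕ} (hn : 2 ≤ n) (hd : 2 ≤ d)
    (hdiv : ∀ χ : F[X], χ.Monic → χ.natDegree = n → (∀ c : F, ¬ χ.IsRoot c) →
      ∀ f : F[X], Irreducible f → f ∣ χ → d ∣ f.natDegree) :
    CoveredByTwo (Matrix.ProjectiveSpecialLinearGroup (Fin n) F) := by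
  classical
  haveI : NeZero d := ⟨by omega⟩
  obtain ⟨h, hhm, hhi, hhd⟩ := exists_monic_irreducible (F := F) d
  haveI : Nonempty (Fin n) := ⟨⟨0, by omega⟩⟩
  haveI : Fact (Irreducible h) := ⟨hhi⟩
  haveI : Module.Finite F (AdjoinRoot h) := (AdjoinRoot.powerBasis hhi.ne_zero).finite
  haveI : Finite (AdjoinRoot h) := Module.finite_of_finite F
  let i : Fin n := ⟨0, by omega⟩
  let j : Fin n := ⟨1, by omega⟩
  have hij : i ≠ j := by simp [i, j, Fin.ext_iff]
  have h0 : (Pi.single j (1 : F) : Vn) ≠ 0 := by simp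
  by_cases hall : ∀ g : SLn, ∃ (u : Vn) (c : F), u ≠ 0 ∧ (g : Mn) *ᵥ u = c • u
  · refine coveredByTwo_quotient (slLine (Pi.single j 1)) (slLine (Pi.single j 1)) (slLine_ne_top hij)
      (slLine_ne_top hij) (center_le_slLine _) (center_le_slLine _) fun g => ?_
    obtain ⟨u, c, hu, hgu⟩ := hall g
    obtain ⟨x, hx⟩ := exists_mem_line g hu h0 hgu
    exact ⟨x, Or.inl hx⟩
  push Not at hall
  obtain ⟨g₀, hg₀⟩ := hall
  have hom : ∀ g : SLn, (∀ (u : Vn) (c : F), u ≠ 0 → (g : Mn) *ᵥ u ≠ c • u) →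
      ∃ φ : AdjoinRoot h →ₐ[F] Module.End F Vn, ∀ k, Commute (φ k) (Matrix.toLin' (g : Mn)) := by
    intro g hg
    refine exists_hom_commute hhi _ (χ := (g : Mn).charpoly) (Matrix.charpoly_monic _).ne_zero ?_
      (hhd ▸ hdiv _ (Matrix.charpoly_monic _) (by rw [charpoly_natDegree_eq_dim, Fintype.card_fin]) fun c hc => ?_)
    · have := Matrix.aeval_self_charpoly (g : Mn)
      exact (aeval_algHom_apply (Matrix.toLinAlgEquiv' (R := F) (n := Fin n)).toAlgHom (g : Mn) _).trans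
        (by rw [this, map_zero])
    · have hev : Module.End.HasEigenvalue (Matrix.toLin' (g : Mn)) c := by
        rw [Module.End.hasEigenvalue_iff_isRoot_charpoly, Matrix.charpoly_toLin']
        exact hc
      obtain ⟨u, hu⟩ := hev.exists_hasEigenvector
      exact hg u c hu.2 (by rw [← Matrix.toLin'_apply]; exact hu.apply_eq_smul)
  obtain ⟨φ₀, -⟩ := hom g₀ hg₀
  let J : Mn := LinearMap.toMatrix' (φ₀ (AdjoinRoot.root h))
  have hJmul : ∀ u, J *ᵥ u = φ₀ (AdjoinRoot.root h) u := fun u => LinearMap.toMatrix'_mulVec _ u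
  have hJ : ∀ (c : F) (u : Vn), J *ᵥ u = c • u → u = 0 := by
    intro c u hu
    by_contra hu0
    have hroot : h.IsRoot c := by
      have h1 : Module.End.HasEigenvector (φ₀ (AdjoinRoot.root h)) c u :=
        ⟨Module.End.mem_eigenspace_iff.2 (by rw [← hJmul, hu]), hu0⟩
      have h2 := Module.End.aeval_apply_of_hasEigenvector (p := h) h1
      rw [aeval_algHom_apply, AdjoinRoot.aeval_eq, AdjoinRoot.mk_self, map_zero, LinearMap.zero_apply] at h2
      exact (smul_eq_zero.1 h2.symm).resolve_right hu0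
    have h3 := degree_eq_one_of_irreducible_of_root hhi hroot
    have h4 : h.natDegree = 1 := natDegree_eq_of_degree_eq_some h3
    omega
  refine coveredByTwo_quotient (slLine (Pi.single j 1)) (slCent J) (slLine_ne_top hij)
    (slCent_ne_top hij hJ) (center_le_slLine _) (center_le_slCent _) fun g => ?_
  by_cases hg : ∀ (u : Vn) (c : F), u ≠ 0 → (g : Mn) *ᵥ u ≠ c • u
  · obtain ⟨φ, hφ⟩ := hom g hg
    obtain ⟨e, hdet, he⟩ := exists_det_one_conj φ φ₀
    let x : SLn := ⟨LinearMap.toMatrix' (e : Vn →ₗ[F] Vn), by rw [LinearMap.det_toMatrix', hdet]⟩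
    have hxm : ∀ u, (x : Mn) *ᵥ u = e u := fun u => LinearMap.toMatrix'_mulVec _ u
    have hxi : ∀ u, ((x⁻¹ : SLn) : Mn) *ᵥ u = e.symm u := fun u => by
      have : (x : Mn) *ᵥ (((x⁻¹ : SLn) : Mn) *ᵥ u) = u := by
        rw [mulVec_mulVec, ← Matrix.SpecialLinearGroup.coe_mul, mul_inv_cancel,
          Matrix.SpecialLinearGroup.coe_one, one_mulVec]
      rw [hxm] at this
      rw [← this, e.symm_apply_apply]
      exact congrArg _ this
    refine ⟨x, Or.inr (show Commute ((x * g * x⁻¹ : SLn) : Mn) J from ?_)⟩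
    refine Matrix.ext_of_mulVec_single fun k => ?_
    simp only [Matrix.SpecialLinearGroup.coe_mul, ← mulVec_mulVec, hxm, hxi, hJmul]
    generalize (Pi.single k 1 : Vn) = u
    have h1 : e.symm (φ₀ (AdjoinRoot.root h) u) = φ (AdjoinRoot.root h) (e.symm u) := by
      rw [LinearEquiv.symm_apply_eq, he, e.apply_symm_apply]
    rw [h1, ← he]
    exact congrArg e (LinearMap.congr_fun (hφ (AdjoinRoot.root h)).eq (e.symm u)).symm
  · push Not at hg
    obtain ⟨u, c, hu, hgu⟩ := hg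
    obtain ⟨x, hx⟩ := exists_mem_line g hu h0 hgu
    exact ⟨x, Or.inl hx⟩

/-- The coverings of `PSL₂`, `PSL₃` and `PSL₄`. -/
theorem psl_small_covered (hn : n = 2 ∨ n = 3 ∨ n = 4) :
    CoveredByTwo (Matrix.ProjectiveSpecialLinearGroup (Fin n) F) := by
  have hirr : ∀ χ : F[X], χ.Monic → (∀ c : F, ¬ χ.IsRoot c) →
      ∀ f : F[X], Irreducible f → f ∣ χ → 2 ≤ f.natDegree ∧ (f.natDegree = χ.natDegree ∨
        2 ≤ χ.natDegree - f.natDegree ∧ f.natDegree ≤ χ.natDegree) := by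
    intro χ hm hno f hf hfd
    have hroot : ∀ e : F[X], e ∣ χ → e.natDegree ≠ 1 := fun e he h1 => by
      obtain ⟨c, hc⟩ := Polynomial.exists_root_of_degree_eq_one
        ((degree_eq_iff_natDegree_eq_of_pos one_pos).2 h1)
      exact hno c (hc.dvd he)
    have h0 := hf.natDegree_pos
    refine ⟨by have := hroot f hfd; omega, ?_⟩
    obtain ⟨e, rfl⟩ := hfd
    have he0 : e ≠ 0 := right_ne_zero_of_mul hm.ne_zero
    rw [natDegree_mul hf.ne_zero he0]
    have := hroot e (dvd_mul_left e f)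
    omega
  rcases hn with rfl | rfl | rfl
  · refine psl_covered le_rfl le_rfl fun χ hm hd hno f hf hfd => ?_
    obtain ⟨h1, h2⟩ := hirr χ hm hno f hf hfd
    rw [show f.natDegree = 2 by omega]
  · refine psl_covered (by omega) (d := 3) (by omega) fun χ hm hd hno f hf hfd => ?_
    obtain ⟨h1, h2⟩ := hirr χ hm hno f hf hfd
    rw [show f.natDegree = 3 by omega]
  · refine psl_covered (by omega) le_rfl fun χ hm hd hno f hf hfd => ?_
    obtain ⟨h1, h2⟩ := hirr χ hm hno f hf hfd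
    rcases h2 with h2 | ⟨h3, h4⟩
    · rw [h2, hd]; norm_num
    · rw [show f.natDegree = 2 by omega]

end CfsgLib.NormalCover
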