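import Mathlib
import Cfsg.Agent.Lib.NormalCover.Basic
import Cfsg.Agent.Lib.Geom.PSpInvol
import Cfsg.Agent.Lib.Classical.StdQuad
import Cfsg.Agent.Lib.MaxSub.FormsTwo

/-!
In characteristic two every symplectic transformation fixes a quadratic form of one of the two types, so
`PSp_2m` is covered by conjugates of two orthogonal groups.
-/

set_option autoImplicit false

namespace CfsgLib.NormalCover

open CfsgLib.Geom CfsgLib.Classical CfsgLib.MaxSub
open CfsgLib.MaxSub.IsoType
open QuadraticMap (polar)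

variable {F : Type*} [Field F] [Fintype F]

/-- Every isometry of the polar form fixes a quadratic form with that polar form. -/
theorem exists_fixed_form {V : Type*} [AddCommGroup V] [Module F V] [FiniteDimensional F V] (h2 : (2 : F) = 0)
    (Q : QuadraticForm F V) (T : Module.End F V) (hiso : ∀ u v, polar Q (T u) (T v) = polar Q u v) :
    ∃ Q' : QuadraticForm F V, (∀ u v, polar Q' u v = polar Q u v) ∧ ∀ v, Q' (T v) = Q' v := by
  have hinj : ∀ a b : F, a ^ 2 = b ^ 2 → a = b := fun a b hab =>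
    sub_eq_zero.1 ((pow_eq_zero_iff (two_ne_zero (α := ℕ))).1
      (show (a - b) ^ 2 = 0 by linear_combination hab + (b ^ 2 - a * b) * h2))
  choose s hs using FormsTwo.exists_root (F := F) h2
  let μ : V →ₗ[F] F :=
    { toFun := fun v => s (Q (T v) + Q v)
      map_add' := fun u v => hinj _ _ (by
        rw [hs, map_add, QuadraticMap.map_add Q, QuadraticMap.map_add Q, hiso]
        linear_combination -hs (Q (T u) + Q u) - hs (Q (T v) + Q v)
          + (polar Q u v - s (Q (T u) + Q u) * s (Q (T v) + Q v)) * h2)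
      map_smul' := fun c v => hinj _ _ (by
        simp only [smul_eq_mul, mul_pow, hs, map_smul, QuadraticMap.map_smul, RingHom.id_apply]
        ring) }
  have hμ : μ ∈ (LinearMap.ker (T - 1)).dualAnnihilator := by
    rw [Submodule.mem_dualAnnihilator]
    intro v hv
    rw [LinearMap.mem_ker, LinearMap.sub_apply, sub_eq_zero, Module.End.one_apply] at hv
    exact hinj _ _ (by rw [show μ v = s (Q (T v) + Q v) from rfl, hs, hv]; linear_combination (Q v) * h2)
  rw [← LinearMap.range_dualMap_eq_dualAnnihilator_ker] at hμ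
  obtain ⟨l, hl⟩ := hμ
  refine ⟨Q + QuadraticMap.linMulLin l l, FormsTwo.polar_add_sq h2 Q l, fun v => ?_⟩
  have h : l (T v - v) = s (Q (T v) + Q v) := LinearMap.congr_fun hl v
  have h' := hs (Q (T v) + Q v)
  rw [← h, map_sub] at h'
  simp only [QuadraticMap.add_apply, QuadraticMap.linMulLin_apply]
  linear_combination h' + (Q (T v) - l v * l v + l (T v) * l v) * h2

variable {m : ℕ}

local notation "V2" => (Fin m ⊕ Fin m → F)
local notation "Spm" => Matrix.symplecticGroup (Fin m) F

/-- The stabiliser in the symplectic group of a quadratic form. -/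
def spForm (Q : QuadraticForm F V2) : Subgroup Spm where
  carrier := {A | ∀ v, Q (spLin A v) = Q v}
  mul_mem' {a b} ha hb v := by rw [spLin_mul, ha, hb]
  one_mem' v := by rw [spLin_one]
  inv_mem' {a} ha v := by
    conv_rhs => rw [← spLin_one (F := F) v, ← mul_inv_cancel a, spLin_mul, ha]

/-- `PSp_2m` in characteristic two is covered by two orthogonal groups. -/
theorem psp_covered_even (h2 : (2 : F) = 0) (hm : 2 ≤ m) : CoveredByTwo (Cfsg.PSp m F) := by
  classical
  let Q₀ : QuadraticForm F V2 := qfPlus m F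
  have hp₀ : ∀ u v, polar Q₀ u v = sympBilin m F u v := fun u v => by
    rw [polar_qfPlus, sympBilin_apply, sympForm_eq_sum]
    refine Finset.sum_congr rfl fun i _ => ?_
    linear_combination (u (.inl i) * v (.inr i)) * h2
  have hne : ∀ Q : QuadraticForm F V2, (∀ u v, polar Q u v = sympBilin m F u v) → spForm Q ≠ ⊤ := by
    intro Q hQ h
    have hone : ∀ v, v ≠ 0 → Q v = 1 := fun v hv => by
      obtain ⟨x, hx⟩ : ∃ x, sympBilin m F x v ≠ 0 := by
        by_contra h0
        push Not at h0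
        exact hv (sympBilin_sep v fun y => by rw [sympBilin_swap, h0 y, neg_zero])
      have h1 : Q (spLin ⟨_, sympTransvection_mem v (1 : F)⟩ x) = Q x :=
        (show (⟨_, sympTransvection_mem v (1 : F)⟩ : Spm) ∈ spForm Q from h ▸ Subgroup.mem_top _) x
      rw [spLin_apply, sympTransvection_mulVec, one_mul, QuadraticMap.map_add Q, QuadraticMap.map_smul,
        smul_eq_mul, QuadraticMap.polar_smul_right, smul_eq_mul, hQ] at h1
      have h3 : sympBilin m F x v * sympBilin m F x v * (Q v + 1) = 0 := by linear_combination h1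
      have h4 := (mul_eq_zero.1 h3).resolve_left (mul_ne_zero hx hx)
      linear_combination h4 - h2
    let u : V2 := Pi.single (Sum.inl ⟨0, by omega⟩) 1
    let v : V2 := Pi.single (Sum.inl ⟨1, by omega⟩) 1
    have huv : sympBilin m F u v = 0 := by
      rw [← hp₀, polar_qfPlus]
      exact Finset.sum_eq_zero fun i _ => by simp [u, v]
    have hu : u ≠ 0 := by simp [u]
    have hv : v ≠ 0 := by simp [v]
    have hsum : u + v ≠ 0 := fun e => by
      have := congrFun e (Sum.inl ⟨0, by omega⟩)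
      simp [u, v, Fin.ext_iff] at this
    have h3 : Q (u + v) = Q u + Q v := by rw [QuadraticMap.map_add Q, hQ, huv, add_zero]
    rw [hone _ hsum, hone _ hu, hone _ hv] at h3
    exact one_ne_zero (α := F) (by linear_combination -h3)
  have hcen : ∀ Q : QuadraticForm F V2, Subgroup.center Spm ≤ spForm Q := fun Q A hA v => by
    rcases spLin_center (by omega) hA with h | h <;> rw [h]
    rw [QuadraticMap.map_neg]
  have hsep : ∀ Q : QuadraticForm F V2, (∀ u v, polar Q u v = sympBilin m F u v) →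
      ∀ x, (∀ y, polar Q x y = 0) → x = 0 := fun Q hQ x hx => sympBilin_sep x fun y => by rw [← hQ, hx]
  obtain ⟨Q₁, hp₁, hQ₁⟩ : ∃ Q₁ : QuadraticForm F V2, (∀ u v, polar Q₁ u v = sympBilin m F u v) ∧
      ∀ Q : QuadraticForm F V2, (∀ u v, polar Q u v = sympBilin m F u v) →
        (HasHalf Q ⊤ ↔ HasHalf Q₀ ⊤) ∨ (HasHalf Q ⊤ ↔ HasHalf Q₁ ⊤) := by
    by_cases h : ∃ Q : QuadraticForm F V2, (∀ u v, polar Q u v = sympBilin m F u v) ∧
        ¬ (HasHalf Q ⊤ ↔ HasHalf Q₀ ⊤)
    · obtain ⟨Q₁, h1, h3⟩ := h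
      exact ⟨Q₁, h1, fun Q _ => by tauto⟩
    · push Not at h
      exact ⟨Q₀, hp₀, fun Q hQ => Or.inl (h Q hQ)⟩
  refine coveredByTwo_quotient (spForm Q₀) (spForm Q₁) (hne _ hp₀) (hne _ hp₁) (hcen _) (hcen _) fun g => ?_
  obtain ⟨Q, hQ, hgQ⟩ := exists_fixed_form h2 Q₀ (spLin g) fun u v => by rw [hp₀, hp₀, spLin_form]
  have hQ' : ∀ u v, polar Q u v = sympBilin m F u v := fun u v => by rw [hQ, hp₀]
  have key : ∀ Q' : QuadraticForm F V2, (∀ u v, polar Q' u v = sympBilin m F u v) →
      (HasHalf Q ⊤ ↔ HasHalf Q' ⊤) → ∃ x : Spm, x * g * x⁻¹ ∈ spForm Q' := by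
    intro Q' hp' hiff
    obtain ⟨e, he⟩ := FormsTwo.exists_isometry Q' Q (hsep _ hp') (hsep _ hQ') (k := m)
      (by rw [Module.finrank_fintype_fun_eq_card, Fintype.card_sum, Fintype.card_fin]; omega) hiff.symm
    let x : Spm := ⟨LinearMap.toMatrix' (e : V2 →ₗ[F] V2), (mem_symplecticGroup_iff_form _).2 fun u v => by
      rw [← sympBilin_apply, ← sympBilin_apply, LinearMap.toMatrix'_mulVec, LinearMap.toMatrix'_mulVec]
      show sympBilin m F (e u) (e v) = _
      rw [← hp', ← hQ']
      simp only [QuadraticMap.polar, ← map_add, he]⟩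
    have hx : ∀ v, spLin x v = e v := fun v => by rw [spLin_apply]; exact LinearMap.toMatrix'_mulVec _ v
    refine ⟨x, fun v => ?_⟩
    obtain ⟨w, rfl⟩ : ∃ w, spLin x w = v := ⟨spLin x⁻¹ v, by rw [← spLin_mul, mul_inv_cancel, spLin_one]⟩
    have hw : spLin x⁻¹ (spLin x w) = w := by rw [← spLin_mul, inv_mul_cancel, spLin_one]
    rw [spLin_mul, spLin_mul, hw, hx, he, hgQ, hx, he]
  rcases hQ₁ Q hQ' with h | h
  · obtain ⟨x, hx⟩ := key Q₀ hp₀ h
    exact ⟨x, Or.inl hx⟩
  · obtain ⟨x, hx⟩ := key Q₁ hp₁ h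
    exact ⟨x, Or.inr hx⟩

end CfsgLib.NormalCover
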