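import Mathlib
import Cfsg.Agent.Lib.NormalCover.Field
import Cfsg.Agent.Lib.Geom.PSpInvol

/-!
Symplectic isometries of a six dimensional space through the self-adjoint map `g + g⁻¹`.
-/

set_option autoImplicit false

namespace CfsgLib.NormalCover.SpSix

open Polynomial CfsgLib.Geom

variable {F : Type*} [Field F] {V : Type*} [AddCommGroup V] [Module F V]

/-- A non-degenerate invariant plane. -/
def HasPlane (f : V →ₗ[F] V →ₗ[F] F) (g : V → V) : Prop :=
  ∃ P : Submodule F V, Module.finrank F P = 2 ∧ (∀ x ∈ P, (∀ y ∈ P, f x y = 0) → x = 0) ∧ ∀ x ∈ P, g x ∈ P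

variable (f : V →ₗ[F] V →ₗ[F] F) (hA : ∀ v, f v v = 0)

include hA in
theorem swap (u v : V) : f u v = -f v u := by
  have := hA (u + v)
  simp only [map_add, LinearMap.add_apply, hA, add_zero, zero_add] at this
  linear_combination this

include hA in
theorem adjoint_alt (h2 : (2 : F) ≠ 0) {M : Module.End F V} (hM : ∀ u v, f (M u) v = f u (M v)) (v : V) :
    f (M v) v = 0 := by
  have h : f (M v) v = -f (M v) v := by
    nth_rw 1 [hM]
    exact swap f hA v (M v)
  exact (mul_eq_zero.1 (show (2 : F) * f (M v) v = 0 by linear_combination h)).resolve_left h2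

theorem adjoint_pow {M : Module.End F V} (hM : ∀ u v, f (M u) v = f u (M v)) (k : ℕ) :
    ∀ u v, f ((M ^ k) u) v = f u ((M ^ k) v) := by
  induction k with
  | zero => simp
  | succ k ih =>
    intro u v
    rw [pow_succ, Module.End.mul_apply, ih, hM]
    show f u (M ((M ^ k) v)) = f u (((M ^ k) * M) v)
    rw [← Module.End.mul_apply, ← pow_succ', pow_succ]

theorem adjoint_aeval {M : Module.End F V} (hM : ∀ u v, f (M u) v = f u (M v)) (P : F[X]) :
    ∀ u v, f (aeval M P u) v = f u (aeval M P v) := by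
  induction P using Polynomial.induction_on' with
  | add p r hp hr => intro u v; simp [hp u v, hr u v]
  | monomial k a => intro u v; simp [aeval_monomial, Module.algebraMap_end_apply, adjoint_pow f hM k u v]

theorem aeval_commute {g M : Module.End F V} (h : Commute g M) (P : F[X]) : Commute g (aeval M P) := by
  induction P using Polynomial.induction_on' with
  | add p r hp hr => rw [map_add]; exact hp.add_right hr
  | monomial k a => rw [aeval_monomial]; exact (Algebra.commute_algebraMap_right a g).mul_right (h.pow_right k)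

variable [FiniteDimensional F V] (hB : ∀ x, (∀ y, f x y = 0) → x = 0)

include hB in
theorem finrank_ts_le {P : Submodule F V} (hP : ∀ u ∈ P, ∀ v ∈ P, f u v = 0) :
    2 * Module.finrank F P ≤ Module.finrank F V := by
  have hle : P.map f ≤ P.dualAnnihilator := by
    rintro _ ⟨u, hu, rfl⟩
    exact (Submodule.mem_dualAnnihilator _).2 fun v hv => hP u hu v hv
  have hinj : Function.Injective f := (injective_iff_map_eq_zero f).2 fun u hu => hB u fun y => by simp [hu]
  have h1 : Module.finrank F P ≤ Module.finrank F P.dualAnnihilator :=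
    (Submodule.equivMapOfInjective f hinj P).finrank_eq.trans_le (Submodule.finrank_mono hle)
  have h2 : Module.finrank F P + Module.finrank F P.dualAnnihilator = Module.finrank F V :=
    Subspace.finrank_add_finrank_dualAnnihilator_eq P
  omega

include hA in
theorem even_nondeg {P : Submodule F V} (hP : ∀ x ∈ P, (∀ y ∈ P, f x y = 0) → x = 0) :
    Even (Module.finrank F P) :=
  even_finrank_symp _ (f.compl₁₂ P.subtype P.subtype) (fun v => hA _)
    (fun x hx => Subtype.ext (hP x x.2 fun y hy => hx ⟨y, hy⟩)) rfl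

/-- An alternating form has even rank. -/
theorem even_rank (β : V →ₗ[F] V →ₗ[F] F) (hβ : ∀ v, β v v = 0) :
    Even (Module.finrank F (LinearMap.range β)) := by
  obtain ⟨C, hC⟩ := Submodule.exists_isCompl (LinearMap.ker β)
  have hr : Module.finrank F C = Module.finrank F (LinearMap.range β) := by
    have h1 := Submodule.finrank_add_eq_of_isCompl hC
    have h2 := β.finrank_range_add_finrank_ker
    omega
  rw [← hr]
  refine even_nondeg β hβ fun x hx h => ?_
  refine Submodule.disjoint_def.1 hC.disjoint x ?_ hx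
  refine LinearMap.mem_ker.2 (LinearMap.ext fun y => ?_)
  obtain ⟨k, hk, c, hc, rfl⟩ := Submodule.mem_sup.1 (hC.sup_eq_top.symm ▸ (Submodule.mem_top : y ∈ _))
  rw [map_add, h c hc, swap β hβ x k, LinearMap.mem_ker.1 hk]
  simp

include hA hB in
theorem even_finrank_ker (h2 : (2 : F) ≠ 0) (hV : Module.finrank F V = 6) {M : Module.End F V}
    (hM : ∀ u v, f (M u) v = f u (M v)) : Even (Module.finrank F (LinearMap.ker M)) := by
  have hk : LinearMap.ker (f ∘ₗ M) = LinearMap.ker M := by
    ext u
    simp only [LinearMap.mem_ker, LinearMap.comp_apply]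
    exact ⟨fun h => hB _ fun y => by simp [h], fun h => by simp [h]⟩
  obtain ⟨k, hk'⟩ := even_rank (f ∘ₗ M) (adjoint_alt f hA h2 hM)
  have h := (f ∘ₗ M).finrank_range_add_finrank_ker
  rw [hk] at h
  exact ⟨3 - k, by omega⟩

include hA hB in
/-- A self-adjoint nilpotent map of a six dimensional space has cube zero. -/
theorem cube_eq_zero (h2 : (2 : F) ≠ 0) (hV : Module.finrank F V = 6) {N : Module.End F V}
    (hN : ∀ u v, f (N u) v = f u (N v)) {k : ℕ} (hk : N ^ k = 0) : N ^ 3 = 0 := by
  have key : ∀ w, (N ^ 4) w = 0 → (N ^ 3) w = 0 := fun w h4 => by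
    by_contra h3
    have hli : LinearIndependent F ![w, N w, (N ^ 2) w, (N ^ 3) w] := by
      rw [Fintype.linearIndependent_iff]
      intro c hc
      rw [Fin.sum_univ_four] at hc
      simp [pow_succ', Module.End.mul_apply] at hc h3 h4
      have e0 := congrArg N (congrArg N (congrArg N hc))
      simp [h4] at e0
      have c0 := e0.resolve_right h3
      simp [c0] at hc
      have e1 := congrArg N (congrArg N hc)
      simp [h4] at e1
      have c1 := e1.resolve_right h3
      simp [c1] at hc
      have e2 := congrArg N hc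
      simp [h4] at e2
      have c2 := e2.resolve_right h3
      simp [c2] at hc
      intro i
      fin_cases i <;> simp [c0, c1, c2, hc.resolve_right h3]
    have hts : ∀ i j : ℕ, f ((N ^ i) w) ((N ^ j) w) = 0 := fun i j => by
      rw [adjoint_pow f hN, ← Module.End.mul_apply, ← pow_add, swap f hA,
        adjoint_alt f hA h2 (adjoint_pow f hN _), neg_zero]
    have hle := finrank_ts_le f hB (P := Submodule.span F (Set.range ![w, N w, (N ^ 2) w, (N ^ 3) w]))
      (fun u hu v hv => by
        have hgen : ∀ a b, f (![w, N w, (N ^ 2) w, (N ^ 3) w] a) (![w, N w, (N ^ 2) w, (N ^ 3) w] b) = 0 := by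
          intro a b
          obtain ⟨i, hi⟩ : ∃ i : ℕ, ![w, N w, (N ^ 2) w, (N ^ 3) w] a = (N ^ i) w :=
            ⟨a, by fin_cases a <;> simp⟩
          obtain ⟨j, hj⟩ : ∃ j : ℕ, ![w, N w, (N ^ 2) w, (N ^ 3) w] b = (N ^ j) w :=
            ⟨b, by fin_cases b <;> simp⟩
          rw [hi, hj, hts]
        induction hu using Submodule.span_induction with
        | mem x hx =>
          obtain ⟨a, rfl⟩ := hx
          induction hv using Submodule.span_induction with
          | mem y hy => obtain ⟨b, rfl⟩ := hy; exact hgen a b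
          | zero => simp
          | add y y' _ _ h h' => simp [h, h']
          | smul c y _ h => simp [h]
        | zero => simp
        | add x x' _ _ h h' => simp [h, h']
        | smul c x _ h => simp [h])
    rw [finrank_span_eq_card hli, Fintype.card_fin, hV] at hle
    omega
  have step : ∀ j, 3 ≤ j → N ^ (j + 1) = 0 → N ^ j = 0 := fun j hj h => by
    refine LinearMap.ext fun v => ?_
    obtain ⟨i, rfl⟩ : ∃ i, j = 3 + i := ⟨j - 3, by omega⟩
    rw [pow_add, Module.End.mul_apply, LinearMap.zero_apply]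
    refine key _ ?_
    rw [← Module.End.mul_apply, ← pow_add, show 4 + i = 3 + i + 1 by ring, h, LinearMap.zero_apply]
  have : ∀ d, N ^ (3 + d) = 0 → N ^ 3 = 0 := fun d => by
    induction d with
    | zero => exact id
    | succ d ih => exact fun h => ih (step _ (Nat.le_add_right _ _) h)
  exact this k (by rw [pow_add, hk, mul_zero])

include hA hB in
theorem hasPlane_of_pair {g : Module.End F V} {u v : V} (huv : f u v ≠ 0)
    (hu : g u ∈ Submodule.span F {u, v}) (hv : g v ∈ Submodule.span F {u, v}) : HasPlane f g := by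
  refine ⟨Submodule.span F {u, v}, ?_, fun x hx h => ?_, fun x hx => ?_⟩
  · have hli : LinearIndependent F ![u, v] := by
      refine (LinearIndependent.pair_iff' (fun h => huv (by simp [h]))).2 fun c hc => huv ?_
      rw [← hc]; simp [hA]
    have h := finrank_span_eq_card hli
    rwa [Matrix.range_cons_cons_empty, Fintype.card_fin] at h
  · obtain ⟨a, b, rfl⟩ := Submodule.mem_span_pair.1 hx
    have h1 := h u (Submodule.subset_span (by simp))
    have h3 := h v (Submodule.subset_span (by simp))
    simp [hA] at h1 h3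
    rw [swap f hA v u, neg_eq_zero] at h1
    rw [h1.resolve_right huv, h3.resolve_right huv]
    simp
  · obtain ⟨a, b, rfl⟩ := Submodule.mem_span_pair.1 hx
    simpa only [map_add, map_smul] using Submodule.add_mem _ (Submodule.smul_mem _ a hu) (Submodule.smul_mem _ b hv)

include hA in
/-- The bilinear form over a field of self-adjoint maps. -/
theorem exists_balanced (h2 : (2 : F) ≠ 0) {K : Type*} [Field K] [Algebra F K] [FiniteDimensional F K]
    [Algebra.IsSeparable F K] (φ : K →ₐ[F] Module.End F V) (hφ : ∀ k u v, f (φ k u) v = f u (φ k v))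
    (hB : ∀ x, (∀ y, f x y = 0) → x = 0) :
    ∃ B : Twist φ →ₗ[K] Twist φ →ₗ[K] K, (∀ v, B v v = 0) ∧ (∀ x, (∀ y, B x y = 0) → x = 0) ∧
      ∀ (u v : V) , Algebra.trace F K (B (u : Twist φ) (v : Twist φ)) = f u v := by
  have hnd := traceForm_nondegenerate F K
  obtain ⟨b, hb⟩ : ∃ b : V → V → K, ∀ u v k, Algebra.trace F K (b u v * k) = f (φ k u) v := by
    refine ⟨fun u v => (LinearMap.BilinForm.toDual (Algebra.traceForm F K) hnd).symm
      ((f.flip v) ∘ₗ (φ.toLinearMap.flip u)), fun u v k => ?_⟩
    rw [← Algebra.traceForm_apply]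
    exact LinearMap.congr_fun ((LinearMap.BilinForm.toDual (Algebra.traceForm F K) hnd).apply_symm_apply
      ((f.flip v) ∘ₗ (φ.toLinearMap.flip u))) k
  have uniq : ∀ c d : K, (∀ k, Algebra.trace F K (c * k) = Algebra.trace F K (d * k)) → c = d := fun c d h =>
    sub_eq_zero.1 (hnd.1 _ fun k => by rw [Algebra.traceForm_apply, sub_mul, map_sub, h, sub_self])
  let B : Twist φ →ₗ[K] Twist φ →ₗ[K] K := LinearMap.mk₂ K (fun u v => b u v)
    (fun u u' v => uniq _ _ fun k => by
      rw [add_mul, map_add]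
      exact (hb _ _ _).trans ((LinearMap.congr_fun ((congrArg f (map_add (φ k) u u')).trans (map_add f _ _)) v).trans
        (congrArg₂ (· + ·) (hb _ _ _).symm (hb _ _ _).symm)))
    (fun c u v => uniq _ _ fun k => by
      rw [smul_eq_mul, show c * b u v * k = b u v * (k * c) by ring]
      exact (hb _ _ _).trans ((LinearMap.congr_fun (congrArg f (LinearMap.congr_fun (map_mul φ k c) u).symm) v).trans
        (hb _ _ _).symm))
    (fun u v v' => uniq _ _ fun k => by
      rw [add_mul, map_add]
      exact (hb _ _ _).trans ((map_add _ _ _).trans (congrArg₂ (· + ·) (hb _ _ _).symm (hb _ _ _).symm)))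
    (fun c u v => uniq _ _ fun k => by
      rw [smul_eq_mul, show c * b u v * k = b u v * (c * k) by ring]
      exact (hb _ _ _).trans ((hφ c _ _).symm.trans
        ((LinearMap.congr_fun (congrArg f (LinearMap.congr_fun (map_mul φ c k) u).symm) v).trans (hb _ _ _).symm)))
  refine ⟨B, fun v => uniq _ _ fun k => ?_, fun x hx => hB x fun y => ?_, fun u v => ?_⟩
  · rw [zero_mul, map_zero]
    show Algebra.trace F K (b v v * k) = 0
    exact (hb _ _ _).trans (adjoint_alt f hA h2 (hφ k) v)
  · exact (LinearMap.congr_fun (congrArg f (LinearMap.congr_fun (map_one φ) x)) y).symm.trans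
      ((hb x y 1).symm.trans (by rw [show b x y = 0 from hx y, zero_mul, map_zero]))
  · show Algebra.trace F K (b u v) = f u v
    rw [← mul_one (b u v), hb, map_one, Module.End.one_apply]

include hA hB in
/-- The possible shapes of the self-adjoint map `T = g + g⁻¹`. -/
theorem shapes [Finite F] (h2 : (2 : F) ≠ 0) (hV : Module.finrank F V = 6) {g T : Module.End F V}
    (hcomm : Commute g T) (hT : ∀ u v, f (T u) v = f u (T v)) {h₀ : F[X]} (hh : Irreducible h₀)
    [Fact (Irreducible h₀)] (hd : h₀.natDegree = 3) :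
    HasPlane f g ∨
      (∃ φ : AdjoinRoot h₀ →ₐ[F] Module.End F V, (∀ k u v, f (φ k u) v = f u (φ k v)) ∧ ∀ k, Commute g (φ k)) ∨
      ∃ s : F, (T - algebraMap F _ s) ^ 3 = 0 := by
  haveI : Nontrivial V := Module.nontrivial_of_finrank_pos (R := F) (by omega)
  obtain ⟨m, hm⟩ : ∃ m, m = minpoly F T := ⟨_, rfl⟩
  have hi : IsIntegral F T := Algebra.IsIntegral.isIntegral T
  have hm0 : m ≠ 0 := hm ▸ minpoly.ne_zero hi
  obtain ⟨p, hp, hpm⟩ := WfDvdMonoid.exists_irreducible_factor (hm ▸ minpoly.not_isUnit F T) hm0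
  obtain ⟨k, b, hpb, hmb⟩ := WfDvdMonoid.max_power_factor hm0 hp
  by_cases hb : IsUnit b
  swap
  · left
    have hk : k ≠ 0 := fun h => by rw [h, pow_zero, one_mul] at hmb; exact hpb (hmb ▸ hpm)
    have hcop : IsCoprime (p ^ k) b := ((hp.coprime_iff_not_dvd).2 hpb).pow_left
    have h0 : aeval T (p ^ k * b) = 0 := by rw [← hmb, hm, minpoly.aeval]
    have hb0 : b ≠ 0 := right_ne_zero_of_mul (hmb ▸ hm0)
    have hne : ∀ a c : F[X], aeval T (a * c) = 0 → c ≠ 0 → c.natDegree < m.natDegree →
        LinearMap.ker (aeval T a) ≠ ⊥ := fun a c hac hc0 hdeg hker => by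
      have hc : aeval T c = 0 := LinearMap.ext fun v => LinearMap.ker_eq_bot.1 hker (by
        rw [← Module.End.mul_apply, ← map_mul, hac]; simp)
      have := Polynomial.natDegree_le_of_dvd (minpoly.dvd F T hc) hc0
      rw [← hm] at this
      omega
    have hdeg : m.natDegree = (p ^ k).natDegree + b.natDegree := by
      rw [hmb, natDegree_mul (pow_ne_zero _ hp.ne_zero) hb0]
    have hpd : 0 < (p ^ k).natDegree := by
      rw [natDegree_pow]; exact Nat.mul_pos (Nat.pos_of_ne_zero hk) hp.natDegree_pos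
    have hbd : 0 < b.natDegree := natDegree_pos_iff_degree_pos.2 (degree_pos_of_ne_zero_of_nonunit hb0 hb)
    have hn1 := hne (p ^ k) b h0 hb0 (by omega)
    have hn2 := hne b (p ^ k) (by rw [mul_comm]; exact h0) (pow_ne_zero _ hp.ne_zero) (by omega)
    have hdis : Disjoint (LinearMap.ker (aeval T (p ^ k))) (LinearMap.ker (aeval T b)) :=
      Polynomial.disjoint_ker_aeval_of_isCoprime T hcop
    have hsup : LinearMap.ker (aeval T (p ^ k)) ⊔ LinearMap.ker (aeval T b) = ⊤ := by
      rw [Polynomial.sup_ker_aeval_eq_ker_aeval_mul_of_coprime T hcop, h0, LinearMap.ker_zero]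
    have hinv : ∀ a : F[X], ∀ x ∈ LinearMap.ker (aeval T a), g x ∈ LinearMap.ker (aeval T a) := fun a x hx => by
      rw [LinearMap.mem_ker] at hx ⊢
      rw [← Module.End.mul_apply, ← (aeval_commute hcomm a).eq, Module.End.mul_apply, hx, map_zero]
    have horth : ∀ u ∈ LinearMap.ker (aeval T (p ^ k)), ∀ v ∈ LinearMap.ker (aeval T b), f u v = 0 := by
      intro u hu v hv
      obtain ⟨r, s, hrs⟩ := hcop
      have h1 := congrArg (fun P : F[X] => aeval T P u) hrs
      simp only [map_add, map_mul, map_one, LinearMap.add_apply, Module.End.mul_apply, Module.End.one_apply,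
        LinearMap.mem_ker.1 hu, map_zero, zero_add] at h1
      rw [← h1, ← Module.End.mul_apply, show aeval T s * aeval T b = aeval T (s * b) from (map_mul _ _ _).symm,
        adjoint_aeval f hT, map_mul, Module.End.mul_apply, LinearMap.mem_ker.1 hv]
      simp
    have hnd : ∀ A C : Submodule F V, A ⊔ C = ⊤ → (∀ u ∈ A, ∀ v ∈ C, f u v = 0) →
        ∀ x ∈ A, (∀ y ∈ A, f x y = 0) → x = 0 := fun A C hAC ho x hx h => hB x fun y => by
      obtain ⟨a, ha, c, hc, rfl⟩ := Submodule.mem_sup.1 (hAC.symm ▸ (Submodule.mem_top : y ∈ _))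
      rw [map_add, h a ha, ho x hx c hc, add_zero]
    have hnd1 := hnd _ _ hsup horth
    have hnd2 := hnd _ _ (sup_comm (LinearMap.ker (aeval T (p ^ k))) _ ▸ hsup)
      (fun u hu v hv => by rw [swap f hA, horth v hv u hu, neg_zero])
    obtain ⟨i, hi⟩ := even_nondeg f hA hnd1
    obtain ⟨j, hj⟩ := even_nondeg f hA hnd2
    have hsum := Submodule.finrank_add_eq_of_isCompl (IsCompl.of_eq (disjoint_iff.1 hdis) hsup)
    have hi0 := Submodule.one_le_finrank_iff.2 hn1
    have hj0 := Submodule.one_le_finrank_iff.2 hn2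
    rcases (show i = 1 ∨ j = 1 by omega) with rfl | rfl
    · exact ⟨_, hi, hnd1, hinv _⟩
    · exact ⟨_, hj, hnd2, hinv _⟩
  right
  have h0 : aeval T (p ^ k) = 0 := by
    obtain ⟨c', hc'⟩ := hb
    have : p ^ k = m * (c'⁻¹ : F[X]ˣ) := by rw [hmb, ← hc', mul_assoc, Units.mul_inv, mul_one]
    rw [this, map_mul, hm, minpoly.aeval, zero_mul]
  have hdiv : ∀ {h : F[X]}, h.natDegree ∣ p.natDegree →
      ∀ q : F[X], Irreducible q → q ∣ p ^ k → h.natDegree ∣ q.natDegree := fun hdd q hq hqp => by
    rw [natDegree_eq_of_degree_eq (degree_eq_degree_of_associated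
      (hq.associated_of_dvd hp (hq.prime.dvd_of_dvd_pow hqp)))]
    exact hdd
  -- the degree of the prime is one or three
  have hdp : p.natDegree = 1 ∨ p.natDegree = 3 := by
    haveI : Fact (Irreducible p) := ⟨hp⟩
    haveI : Module.Finite F (AdjoinRoot p) := (AdjoinRoot.powerBasis hp.ne_zero).finite
    haveI : Finite (AdjoinRoot p) := Module.finite_of_finite F
    obtain ⟨φ, hφ⟩ := exists_hom_poly hp T (pow_ne_zero k hp.ne_zero) h0 (hdiv dvd_rfl)
    obtain ⟨B, hBa, hBs, -⟩ := exists_balanced f hA h2 φ (fun x u v => by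
      obtain ⟨R, hR⟩ := hφ x
      rw [hR, adjoint_aeval f hT]) hB
    haveI : Module.Finite (AdjoinRoot p) (Twist φ) := Module.Finite.of_restrictScalars_finite F _ _
    obtain ⟨j, hj⟩ := even_finrank_symp _ B hBa hBs rfl
    have h1 : Module.finrank F (AdjoinRoot p) * Module.finrank (AdjoinRoot p) (Twist φ) = Module.finrank F V :=
      Module.finrank_mul_finrank F (AdjoinRoot p) (Twist φ)
    rw [(AdjoinRoot.powerBasis hp.ne_zero).finrank, AdjoinRoot.powerBasis_dim, hj, hV, ← two_mul] at h1
    have h3 : p.natDegree ∣ 3 := ⟨j, by linarith [show p.natDegree * (2 * j) = 2 * (p.natDegree * j) by ring]⟩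
    exact (Nat.dvd_prime Nat.prime_three).1 h3
  rcases hdp with hp1 | hp3
  · right
    obtain ⟨a, s, ha, rfl⟩ : ∃ a s : F, a ≠ 0 ∧ p = C a * (X - C s) := by
      obtain ⟨a, ha, b, hab⟩ := natDegree_eq_one.1 hp1
      exact ⟨a, -b / a, ha, by rw [← hab, mul_sub, ← C_mul, mul_div_cancel₀ _ ha, map_neg, sub_neg_eq_add]⟩
    refine ⟨s, cube_eq_zero f hA hB h2 hV (fun u v => ?_) (k := k) ?_⟩
    · simp [LinearMap.sub_apply, hT, Module.algebraMap_end_apply]
    · rw [mul_pow, map_mul, map_pow, map_pow, aeval_C, map_sub, aeval_X, aeval_C] at h0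
      exact ((((isUnit_iff_ne_zero.2 ha).map (algebraMap F (Module.End F V))).pow k).mul_right_eq_zero).1 h0
  · left
    obtain ⟨φ, hφ⟩ := exists_hom_poly hh T (pow_ne_zero k hp.ne_zero) h0 (hdiv (by rw [hd, hp3]))
    refine ⟨φ, fun x u v => ?_, fun x => ?_⟩
    · obtain ⟨R, hR⟩ := hφ x; rw [hR, adjoint_aeval f hT]
    · obtain ⟨R, hR⟩ := hφ x; rw [hR]; exact aeval_commute hcomm R

end CfsgLib.NormalCover.SpSix
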