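import Mathlib
import Cfsg.Agent.Lib.NormalCover.SpSixBasic

/-!
Symplectic isometries `g` of a six dimensional space with a single eigenvalue `s` of `g + g⁻¹`.
-/

set_option autoImplicit false

namespace CfsgLib.NormalCover.SpSix

open Polynomial CfsgLib.Geom

variable {F : Type*} [Field F] {V : Type*} [AddCommGroup V] [Module F V]

/-- The nilpotent map `g + g⁻¹ - s`. -/
noncomputable def nil (g : V ≃ₗ[F] V) (s : F) : Module.End F V :=
  (g : V →ₗ[F] V) + (g.symm : V →ₗ[F] V) - s • LinearMap.id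

theorem nil_apply (g : V ≃ₗ[F] V) (s : F) (v : V) : nil g s v = g v + g.symm v - s • v := rfl

theorem nil_comm (g : V ≃ₗ[F] V) (s : F) (v : V) : nil g s (g v) = g (nil g s v) := by
  simp [nil_apply, map_add, map_sub]

theorem sq_apply (g : V ≃ₗ[F] V) (s : F) (v : V) : g (g v) = g (nil g s v) + s • g v - v := by
  simp [nil_apply, map_add, map_sub]

variable (f : V →ₗ[F] V →ₗ[F] F) (hA : ∀ v, f v v = 0) (g : V ≃ₗ[F] V) (hg : ∀ u v, f (g u) (g v) = f u v) (s : F)

include hg in
theorem symm_adjoint (u v : V) : f (g.symm u) v = f u (g v) := by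
  rw [← hg, g.apply_symm_apply]

include hg in
theorem apply_adjoint (u v : V) : f (g u) v = f u (g.symm v) := by
  rw [← hg u (g.symm v), g.apply_symm_apply]

include hg in
theorem nil_adjoint (u v : V) : f (nil g s u) v = f u (nil g s v) := by
  simp [nil_apply, symm_adjoint f g hg, apply_adjoint f g hg]
  ring

include hA hg in
/-- If `v ↦ f(v, M g v)` vanishes on an invariant set, its polar form vanishes. -/
theorem polar_vanish {M : Module.End F V} (hM : ∀ u v, f (M u) v = f u (M v)) (hc : ∀ v, M (g v) = g (M v))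
    (W : Submodule F V) (h : ∀ v ∈ W, f v (M (g v)) = 0) {u w : V} (hu : u ∈ W) (hw : w ∈ W) :
    f u (M (g w)) = f u (M (g.symm w)) := by
  have h1 := h (u + w) (W.add_mem hu hw)
  simp only [map_add, LinearMap.add_apply, h u hu, h w hw] at h1
  have hci : ∀ v, M (g.symm v) = g.symm (M v) := fun v => g.injective (by rw [← hc, g.apply_symm_apply, g.apply_symm_apply])
  have h2 : f w (M (g u)) = -f u (M (g.symm w)) := by
    rw [← hM, ← symm_adjoint f g hg, ← hci, swap f hA]
  linear_combination h1 - h2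

variable [FiniteDimensional F V] (hB : ∀ x, (∀ y, f x y = 0) → x = 0)

include hA hB hg in
theorem plane_of_ker {v : V} (hv : nil g s v = 0) (h : f v (g v) ≠ 0) : HasPlane f g :=
  hasPlane_of_pair f hA hB (g := (g : V →ₗ[F] V)) h (Submodule.subset_span (by simp))
    (Submodule.mem_span_pair.2 ⟨-1, s, by
      show _ = g (g v)
      rw [sq_apply g s, hv, map_zero]; module⟩)

theorem sub_inj (h2 : (2 : F) ≠ 0) (hs : s ^ 2 ≠ 4) (hN : nil g s ^ 3 = 0) (v : V) (hv : g v = g.symm v) : v = 0 := by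
  obtain ⟨N, hNdef⟩ : ∃ N, N = nil g s := ⟨_, rfl⟩
  rw [← hNdef] at hN
  -- `g² v = v`
  have h1 : g (g v) = v := by rw [hv, g.apply_symm_apply]
  have e1 : N v = (2 : F) • g v - s • v := by rw [hNdef, nil_apply, ← hv]; module
  have e2 : N (g v) = (2 : F) • v - s • g v := by
    rw [hNdef, nil_apply, h1, g.symm_apply_apply]; module
  obtain ⟨M, hM⟩ : ∃ M : Module.End F V, M = N * (N + (2 * s) • 1) := ⟨_, rfl⟩
  have e3 : M v = (4 - s ^ 2) • v := by
    simp only [hM, Module.End.mul_apply, LinearMap.add_apply, LinearMap.smul_apply, Module.End.one_apply, map_add,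
      map_smul, map_sub, e1, e2]
    module
  have hM3 : M ^ 3 = 0 := by
    rw [hM, (((Commute.refl N).add_right ((Commute.one_right N).smul_right _))).mul_pow, hN, zero_mul]
  have h3 := LinearMap.congr_fun hM3 v
  simp only [Module.End.pow_apply, Function.iterate_succ, Function.iterate_zero, Function.comp_apply, id, e3, map_smul,
    LinearMap.zero_apply] at h3
  exact ((smul_eq_zero.1 (((smul_eq_zero.1 (((smul_eq_zero.1 h3)).resolve_left (sub_ne_zero.2 (Ne.symm hs)))).resolve_left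
    (sub_ne_zero.2 (Ne.symm hs))))).resolve_left (sub_ne_zero.2 (Ne.symm hs)))

include hA hB hg in
/-- `s ≠ ±2`, no Jordan block of size three: an invariant plane. -/
theorem semi_plane (h2 : (2 : F) ≠ 0) (hV : Module.finrank F V = 6) (hs : s ^ 2 ≠ 4) (hN : nil g s ^ 2 = 0) :
    HasPlane f g := by
  by_contra hno
  have hN3 : nil g s ^ 3 = 0 := by rw [pow_succ, hN, zero_mul]
  obtain ⟨W, hW⟩ : ∃ W, W = LinearMap.ker (nil g s) := ⟨_, rfl⟩
  have hq : ∀ v ∈ W, f v ((1 : Module.End F V) (g v)) = 0 := fun v hv =>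
    by_contra fun h => hno (plane_of_ker f hA g hg s hB (by rwa [hW] at hv) h)
  have hp : ∀ u ∈ W, ∀ w ∈ W, f u (g w - g.symm w) = 0 := fun u hu w hw => by
    have := polar_vanish f hA g hg (M := 1) (fun _ _ => rfl) (fun _ => rfl) W hq hu hw
    rw [map_sub, sub_eq_zero]; exact this
  let D : W →ₗ[F] W := LinearMap.codRestrict W (((g : V →ₗ[F] V) - (g.symm : V →ₗ[F] V)) ∘ₗ W.subtype) fun w => by
    have hw : nil g s (w : V) = 0 := by have := w.2; simpa [hW] using this
    have hci : nil g s (g.symm (w : V)) = 0 := g.injective (by rw [← nil_comm, g.apply_symm_apply, hw, map_zero])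
    simp [hW, nil_comm, hw, hci]
  have hDinj : Function.Injective D := (injective_iff_map_eq_zero D).2 fun w hw =>
    Subtype.ext (sub_inj g s h2 hs hN3 _ (sub_eq_zero.1 (congrArg Subtype.val hw)))
  have hDsurj := LinearMap.injective_iff_surjective.1 hDinj
  have hts : ∀ u ∈ W, ∀ w ∈ W, f u w = 0 := fun u hu w hw => by
    obtain ⟨w', hw'⟩ := hDsurj ⟨w, hw⟩
    have := hp u hu w' w'.2
    rwa [show g (w' : V) - g.symm (w' : V) = w from congrArg Subtype.val hw'] at this
  have hle := finrank_ts_le f hB hts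
  have hrk := (nil g s).finrank_range_add_finrank_ker
  have hr : LinearMap.range (nil g s) ≤ W := by
    rintro _ ⟨x, rfl⟩
    rw [hW, LinearMap.mem_ker, ← Module.End.mul_apply, ← sq, hN, LinearMap.zero_apply]
  have := Submodule.finrank_mono hr
  obtain ⟨j, hj⟩ := even_finrank_ker f hA hB h2 hV (nil_adjoint f g hg s)
  rw [← hW] at hj hrk
  omega

include hA hB hg in
/-- `s ≠ ±2`: a cyclic vector when there is a block of size three. -/
theorem semi_witness (h2 : (2 : F) ≠ 0) (hs : s ^ 2 ≠ 4) (hN : nil g s ^ 3 = 0) (hN2 : nil g s ^ 2 ≠ 0) :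
    ∃ v, f v ((nil g s ^ 2) (g v)) ≠ 0 := by
  by_contra hno
  push Not at hno
  have hc : ∀ v, (nil g s ^ 2) (g v) = g ((nil g s ^ 2) v) := fun v => by
    simp only [pow_two, Module.End.mul_apply, nil_comm]
  refine hN2 (LinearMap.ext fun w => sub_inj g s h2 hs hN _ ?_)
  have hci : ∀ v, (nil g s ^ 2) (g.symm v) = g.symm ((nil g s ^ 2) v) := fun v =>
    g.injective (by rw [← hc, g.apply_symm_apply, g.apply_symm_apply])
  rw [← hc, ← hci]
  refine sub_eq_zero.1 (hB _ fun u => ?_)
  rw [swap f hA, map_sub]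
  rw [polar_vanish f hA g hg (M := nil g s ^ 2) (adjoint_pow f (nil_adjoint f g hg s) 2) hc ⊤ (fun v _ => hno v)
    (Submodule.mem_top (x := u)) (Submodule.mem_top (x := w))]
  simp

include hA hB hg in
theorem semi_basis (h2 : (2 : F) ≠ 0) (hV : Module.finrank F V = 6) (hs : s ^ 2 ≠ 4) (hN : nil g s ^ 3 = 0)
    (hN2 : nil g s ^ 2 ≠ 0) :
    ∃ (v : V) (b : Module.Basis (Fin 6) F V),
      ⇑b = ![v, g v, nil g s v, g (nil g s v), nil g s (nil g s v), g (nil g s (nil g s v))] := by
  obtain ⟨v, hv⟩ := semi_witness f hA g hg s hB h2 hs hN hN2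
  obtain ⟨N, hNdef⟩ : ∃ N, N = nil g s := ⟨_, rfl⟩
  have hc : ∀ x, N (g x) = g (N x) := fun x => by rw [hNdef, nil_comm]
  have h3 : ∀ x, N (N (N x)) = 0 := fun x => by
    have := LinearMap.congr_fun hN x
    simpa [pow_succ, hNdef] using this
  rw [← hNdef] at hv hN hN2 ⊢
  have hv' : f v (g (N (N v))) ≠ 0 := by rwa [sq, Module.End.mul_apply, hc, hc] at hv
  have hadj := nil_adjoint f g hg s
  rw [← hNdef] at hadj
  have hz : f v (N (N v)) = 0 := by rw [← hadj, hA]
  have hpair : ∀ a b : F, a • N (N v) + b • g (N (N v)) = 0 → a = 0 ∧ b = 0 := fun a b hab => by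
    have h1 := congrArg (f v) hab
    simp [hz] at h1
    have hb := h1.resolve_right hv'
    refine ⟨?_, hb⟩
    rw [hb, zero_smul, add_zero] at hab
    exact (smul_eq_zero.1 hab).resolve_right fun h => hv' (by rw [h, map_zero, map_zero])
  have hli : LinearIndependent F ![v, g v, N v, g (N v), N (N v), g (N (N v))] := by
    rw [Fintype.linearIndependent_iff]
    intro c hc0
    rw [Fin.sum_univ_six] at hc0
    simp at hc0
    have h1 := congrArg N hc0
    simp [hc, h3] at h1
    have h1' := congrArg N h1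
    simp [hc, h3] at h1'
    obtain ⟨e0, e1⟩ := hpair _ _ h1'
    simp [e0, e1] at h1 hc0
    obtain ⟨e2, e3⟩ := hpair _ _ h1
    simp [e2, e3] at hc0
    obtain ⟨e4, e5⟩ := hpair _ _ hc0
    intro i
    fin_cases i <;> simp [e0, e1, e2, e3, e4, e5]
  exact ⟨v, basisOfLinearIndependentOfCardEqFinrank hli (by simp [hV]), coe_basisOfLinearIndependentOfCardEqFinrank ..⟩

include hA hB hg in
/-- Two isometries of the same single-eigenvalue type are linearly conjugate. -/
theorem semi_conj (h2 : (2 : F) ≠ 0) (hV : Module.finrank F V = 6) (hs : s ^ 2 ≠ 4) (hN : nil g s ^ 3 = 0)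
    (hN2 : nil g s ^ 2 ≠ 0) {W : Type*} [AddCommGroup W] [Module F W] [FiniteDimensional F W]
    (f' : W →ₗ[F] W →ₗ[F] F) (hA' : ∀ v, f' v v = 0) (hB' : ∀ x, (∀ y, f' x y = 0) → x = 0)
    (h : W ≃ₗ[F] W) (hh : ∀ u v, f' (h u) (h v) = f' u v) (hW : Module.finrank F W = 6)
    (hM : nil h s ^ 3 = 0) (hM2 : nil h s ^ 2 ≠ 0) : ∃ e : V ≃ₗ[F] W, ∀ v, e (g v) = h (e v) := by
  obtain ⟨v, b, hb⟩ := semi_basis f hA g hg s hB h2 hV hs hN hN2
  obtain ⟨w, b', hb'⟩ := semi_basis f' hA' h hh s hB' h2 hW hs hM hM2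
  obtain ⟨e, he⟩ : ∃ e : V ≃ₗ[F] W, ∀ i, e (b i) = b' i :=
    ⟨b.equiv b' (Equiv.refl _), fun i => Module.Basis.equiv_apply ..⟩
  refine ⟨e, LinearMap.congr_fun (?_ : (e : V →ₗ[F] W) ∘ₗ (g : V →ₗ[F] V) = (h : W →ₗ[F] W) ∘ₗ (e : V →ₗ[F] W))⟩
  rw [hb, hb'] at he
  have h0 := he 0
  have h1 := he 1
  have h3 := he 2
  have h4 := he 3
  have h5 := he 4
  have h6 := he 5
  simp at h0 h1 h3 h4 h5 h6
  have hz : nil g s (nil g s (nil g s v)) = 0 := by have := LinearMap.congr_fun hN v; simpa [pow_succ] using this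
  have hz' : nil h s (nil h s (nil h s w)) = 0 := by have := LinearMap.congr_fun hM w; simpa [pow_succ] using this
  refine b.ext fun i => ?_
  rw [LinearMap.comp_apply, LinearMap.comp_apply, hb]
  fin_cases i <;>
    simp [h0, h1, h3, h4, h5, h6, sq_apply g s, sq_apply h s, hz, hz']

end CfsgLib.NormalCover.SpSix
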