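import Mathlib
import Cfsg.Agent.Lib.NormalCover.SpSixEigen

/-!
Unipotent symplectic isometries of a six dimensional space: an invariant non-degenerate plane, a frame for
two blocks of size three, or a single block of size six.
-/

set_option autoImplicit false

namespace CfsgLib.NormalCover.SpSix

open Polynomial CfsgLib.Geom

variable {F : Type*} [Field F] {V : Type*} [AddCommGroup V] [Module F V]

/-- `g - 1`. -/
noncomputable def unip (g : V ≃ₗ[F] V) : Module.End F V := (g : V →ₗ[F] V) - LinearMap.id

theorem unip_apply (g : V ≃ₗ[F] V) (v : V) : unip g v = g v - v := rfl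

theorem unip_sq (g : V ≃ₗ[F] V) (v : V) : unip g (unip g v) = g (nil g (2 : F) v) := by
  rw [unip_apply, unip_apply, map_sub, sq_apply g (2 : F)]
  module

theorem unip_comm (g : V ≃ₗ[F] V) (v : V) : unip g (g v) = g (unip g v) := by simp [unip_apply]

theorem unip_nil (g : V ≃ₗ[F] V) (v : V) : unip g (nil g (2 : F) v) = nil g (2 : F) (unip g v) := by
  simp [unip_apply, nil_comm]

variable [FiniteDimensional F V] (f : V →ₗ[F] V →ₗ[F] F) (hA : ∀ v, f v v = 0) (g : V ≃ₗ[F] V)
  (hg : ∀ u v, f (g u) (g v) = f u v) (hB : ∀ x, (∀ y, f x y = 0) → x = 0)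

include hB in
/-- What is orthogonal to `K` lies in `R`, for orthogonal subspaces of complementary dimensions. -/
theorem mem_of_orth {K R : Submodule F V} (ho : ∀ r ∈ R, ∀ x ∈ K, f r x = 0)
    (hd : Module.finrank F V ≤ Module.finrank F K + Module.finrank F R) {y : V} (hy : ∀ x ∈ K, f y x = 0) : y ∈ R := by
  have hinj : Function.Injective f := (injective_iff_map_eq_zero f).2 fun u hu => hB u fun z => by simp [hu]
  have h2 : Module.finrank F K + Module.finrank F K.dualAnnihilator = Module.finrank F V :=
    Subspace.finrank_add_finrank_dualAnnihilator_eq K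
  have hle : R.map f ≤ K.dualAnnihilator := by
    rintro _ ⟨u, hu, rfl⟩
    exact (Submodule.mem_dualAnnihilator _).2 (ho u hu)
  have h1 : Module.finrank F R = Module.finrank F (R.map f) :=
    (Submodule.equivMapOfInjective f hinj R).finrank_eq
  have he : R.map f = K.dualAnnihilator := Submodule.eq_of_le_of_finrank_le hle
    (Nat.le_of_add_le_add_left (h2.trans_le (hd.trans (Nat.add_le_add_left h1.le _))))
  have : f y ∈ R.map f := he ▸ (Submodule.mem_dualAnnihilator _).2 hy
  obtain ⟨u, hu, hu'⟩ := this
  rwa [← hinj hu']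

include hg in
theorem unip_adjoint (u v : V) : f (unip g u) v = -f u (g.symm (unip g v)) := by
  simp [unip_apply, apply_adjoint f g hg]

/-- A frame of two blocks of size three. -/
def Frame (f : V →ₗ[F] V →ₗ[F] F) (g : V ≃ₗ[F] V) (v w : V) : Prop :=
  f v (unip g v) = 0 ∧ f w (unip g w) = 0 ∧ f v w = 0 ∧ f v (unip g w) = 0 ∧ f v (unip g (unip g w)) = 1

include hA hg in
theorem frame_rules (h2 : (2 : F) ≠ 0) (hU : ∀ x, unip g (unip g (unip g x)) = 0) :
    (∀ x, unip g (unip g x) = nil g (2 : F) x) ∧ (∀ x, f x (unip g (unip g x)) = 0) ∧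
      ∀ x y, f (unip g x) y = -f x (unip g y) + f x (unip g (unip g y)) := by
  have hgN : ∀ x, unip g (nil g (2 : F) x) = 0 := fun x => g.injective (by
    rw [← unip_comm, ← unip_sq, hU, map_zero])
  have hN : ∀ x, unip g (unip g x) = nil g (2 : F) x := fun x => by
    rw [unip_sq]
    exact sub_eq_zero.1 (hgN x)
  refine ⟨hN, fun x => ?_, fun x y => ?_⟩
  · rw [hN, swap f hA, adjoint_alt f hA h2 (nil_adjoint f g hg (2 : F)), neg_zero]
  · have hsymm : g.symm (unip g y) = unip g y - unip g (unip g y) := g.injective (by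
      rw [g.apply_symm_apply]
      have h3 := hU y
      simp only [unip_apply, map_sub] at h3 ⊢
      linear_combination (norm := module) h3)
    rw [unip_adjoint f g hg, hsymm, map_sub]
    ring

include hA hB hg in
theorem frame_exists (h2 : (2 : F) ≠ 0) (hU : ∀ x, unip g (unip g (unip g x)) = 0)
    (hne : ∃ x, unip g (unip g x) ≠ 0) : ∃ v w, Frame f g v w := by
  obtain ⟨-, hz, hr⟩ := frame_rules f hA g hg h2 hU
  obtain ⟨x, hx⟩ := hne
  obtain ⟨y, hy⟩ : ∃ y, f y (unip g (unip g x)) ≠ 0 := by
    by_contra h; push Not at h; exact hx (hB _ fun y => by rw [swap f hA, h, neg_zero])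
  obtain ⟨w, hw⟩ : ∃ w, w = (f y (unip g (unip g x)))⁻¹ • x := ⟨_, rfl⟩
  have h1 : f y (unip g (unip g w)) = 1 := by
    rw [hw, map_smul, map_smul, map_smul, smul_eq_mul, inv_mul_cancel₀ hy]
  obtain ⟨D, hD⟩ : ∃ D : V → F, ∀ z, D z = f z (unip g z) := ⟨_, fun z => rfl⟩
  have hwy : f w (unip g (unip g y)) = -1 := by
    rw [← h1, swap f hA]
    simp [hr, hU]
  have hUU : ∀ a b, f (unip g a) (unip g b) = -f a (unip g (unip g b)) := fun a b => by rw [hr, hU]; simp
  have hUN : ∀ a b, f (unip g a) (unip g (unip g b)) = 0 := fun a b => by rw [hr, hU]; simp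
  obtain ⟨v', hv'⟩ : ∃ v', v' = y + (-(D y) / 2) • unip g w := ⟨_, rfl⟩
  obtain ⟨w', hw'⟩ : ∃ w', w' = w + (D w / 2) • unip g y := ⟨_, rfl⟩
  have a1 : f v' (unip g v') = 0 := by
    simp [hv', hUU, hUN, h1, hwy, hU]
    rw [← hD]; field_simp; ring
  have a2 : f w' (unip g w') = 0 := by
    simp [hw', hUU, hUN, h1, hwy, hU]
    rw [← hD]; field_simp; ring
  have a3 : f v' (unip g (unip g w')) = 1 := by simp [hv', hw', hUN, h1, hU]
  obtain ⟨b, hb⟩ : ∃ b, b = f v' (unip g w') := ⟨_, rfl⟩
  obtain ⟨a, ha⟩ : ∃ a, a = f v' w' := ⟨_, rfl⟩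
  refine ⟨v', w' + (-b) • unip g w' + (-a + b ^ 2) • unip g (unip g w'), a1, ?_, ?_, ?_, ?_⟩
  · simp [hUU, hUN, a2, hU, hz w', hr (unip g w'), hr w']
  · simp [← ha, ← hb, a3]; ring
  · simp [← hb, a3, hU]
  · simp [a3, hU]

include hA hB hg in
/-- Unipotent isometries. -/
theorem unip_cases (h2 : (2 : F) ≠ 0) (hV : Module.finrank F V = 6) (hN : nil g (2 : F) ^ 3 = 0) :
    HasPlane f g ∨ ((∀ x, unip g (unip g (unip g x)) = 0) ∧ ∃ v w, Frame f g v w) ∨
      (unip g) ^ 5 ≠ 0 := by
  haveI : Nontrivial V := Module.nontrivial_of_finrank_pos (R := F) (by omega)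
  by_contra hall
  push Not at hall
  obtain ⟨hno, hframe, hU5⟩ := hall
  obtain ⟨W, hW⟩ : ∃ W, W = LinearMap.ker (nil g (2 : F)) := ⟨_, rfl⟩
  obtain ⟨K, hK⟩ : ∃ K, K = LinearMap.ker (unip g) := ⟨_, rfl⟩
  have hKW : K ≤ W := fun x hx => by
    rw [hK, LinearMap.mem_ker] at hx
    rw [hW, LinearMap.mem_ker]
    exact g.injective (by rw [← unip_sq, hx, map_zero, map_zero])
  have hq : ∀ v ∈ W, f v ((1 : Module.End F V) (g v)) = 0 := fun v hv =>
    by_contra fun h => hno (plane_of_ker f hA g hg (2 : F) hB (by rwa [hW] at hv) h)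
  have hQ : ∀ u ∈ W, ∀ w ∈ W, f u (unip g w) = 0 := fun u hu w hw => by
    have h := polar_vanish f hA g hg (M := 1) (fun _ _ => rfl) (fun _ => rfl) W hq hu hw
    simp only [Module.End.one_apply] at h
    have hsym : g.symm w = (2 : F) • w - g w := by
      rw [hW, LinearMap.mem_ker, nil_apply] at hw
      linear_combination (norm := module) hw
    rw [hsym, map_sub, map_smul, smul_eq_mul] at h
    rw [unip_apply, map_sub]
    have : (2 : F) * (f u (g w) - f u w) = 0 := by linear_combination h
    exact (mul_eq_zero.1 this).resolve_left h2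
  have hKts : ∀ u ∈ K, ∀ w ∈ K, f u w = 0 := fun u hu w hw => by
    by_contra h
    rw [hK, LinearMap.mem_ker, unip_apply, sub_eq_zero] at hu hw
    exact hno (hasPlane_of_pair f hA hB (g := (g : V →ₗ[F] V)) h
      (by show g u ∈ _; rw [hu]; exact Submodule.subset_span (by simp))
      (by show g w ∈ _; rw [hw]; exact Submodule.subset_span (by simp)))
  have hK3 := finrank_ts_le f hB hKts
  have hU6 : ∀ x, (unip g ^ 6) x = 0 := fun x => by
    have h := LinearMap.congr_fun hN (g (g (g x)))
    simp only [Module.End.pow_apply, Function.iterate_succ, Function.iterate_zero, Function.comp_apply, id, nil_comm,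
      LinearMap.zero_apply] at h
    simp only [Module.End.pow_apply, Function.iterate_succ, Function.iterate_zero, Function.comp_apply, id, unip_sq,
      nil_comm]
    exact h
  have hWK : Module.finrank F W ≤ 2 * Module.finrank F K := by
    let L : W →ₗ[F] V := unip g ∘ₗ W.subtype
    have hL : LinearMap.range L ≤ K := by
      rintro _ ⟨x, rfl⟩
      have hx : nil g (2 : F) (x : V) = 0 := by have := x.2; simpa [hW] using this
      rw [hK, LinearMap.mem_ker]
      show unip g (unip g (x : V)) = 0
      rw [unip_sq, hx, map_zero]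
    have hLk : Module.finrank F (LinearMap.ker L) ≤ Module.finrank F K := by
      refine (LinearMap.finrank_le_finrank_of_injective (f := LinearMap.codRestrict K
        (W.subtype ∘ₗ (LinearMap.ker L).subtype) fun x => by rw [hK]; exact x.2) ?_)
      exact fun a b h => Subtype.ext (Subtype.ext (congrArg Subtype.val h :))
    have h := L.finrank_range_add_finrank_ker
    have := Submodule.finrank_mono hL
    omega
  have hW0 : Module.finrank F W ≠ 0 := fun h0 => by
    rw [Submodule.finrank_eq_zero, hW, LinearMap.ker_eq_bot] at h0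
    obtain ⟨x, hx⟩ := exists_ne (0 : V)
    have h := LinearMap.congr_fun hN x
    simp only [Module.End.pow_apply, Function.iterate_succ, Function.iterate_zero, Function.comp_apply, id,
      LinearMap.zero_apply] at h
    exact hx (h0 (h0 (h0 (by rw [h, map_zero, map_zero, map_zero]))))
  obtain ⟨j, hj⟩ := even_finrank_ker f hA hB h2 hV (nil_adjoint f g hg (2 : F))
  rw [← hW] at hj
  have hrN := (nil g (2 : F)).finrank_range_add_finrank_ker
  rw [← hW, hV] at hrN
  have hWle := Submodule.finrank_le W
  rcases (show Module.finrank F W = 6 ∨ Module.finrank F W = 4 ∨ Module.finrank F W = 2 by omega) with h6 | h4 | hd2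
  · have htop : W = ⊤ := Submodule.eq_top_of_finrank_eq (h6.trans hV.symm)
    have : K = ⊤ := Submodule.eq_top_iff'.2 fun x => by
      rw [hK, LinearMap.mem_ker]
      exact hB _ fun y => by rw [swap f hA, hQ y (htop ▸ Submodule.mem_top) x (htop ▸ Submodule.mem_top), neg_zero]
    rw [this, finrank_top] at hK3
    omega
  · obtain ⟨R, hR⟩ : ∃ R, R = LinearMap.range (nil g (2 : F)) := ⟨_, rfl⟩
    rw [← hR] at hrN
    have hNN : ∀ x, nil g (2 : F) (nil g (2 : F) x) = 0 := fun x => by
      by_contra hx
      have hlt : Module.finrank F (LinearMap.range (nil g (2 : F) ^ 2)) < Module.finrank F R := by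
        refine Submodule.finrank_lt_finrank_of_lt (lt_of_le_of_ne ?_ fun he => ?_)
        · rw [hR, sq, Module.End.mul_eq_comp]; exact LinearMap.range_comp_le_range _ _
        · obtain ⟨y, hy⟩ : nil g (2 : F) x ∈ LinearMap.range (nil g (2 : F) ^ 2) := by rw [he, hR]; exact ⟨x, rfl⟩
          rw [← hy, ← Module.End.mul_apply, ← pow_succ', hN] at hx
          exact hx rfl
      obtain ⟨i, hi⟩ := even_rank (f ∘ₗ (nil g (2 : F) ^ 2))
        (adjoint_alt f hA h2 (adjoint_pow f (nil_adjoint f g hg (2 : F)) 2))
      have hinj : Function.Injective f := (injective_iff_map_eq_zero f).2 fun u hu => hB u fun y => by simp [hu]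
      rw [LinearMap.range_comp, ← (Submodule.equivMapOfInjective f hinj _).finrank_eq] at hi
      have h0 : LinearMap.range (nil g (2 : F) ^ 2) = ⊥ := Submodule.finrank_eq_zero.1 (by omega)
      exact hx (by have := LinearMap.congr_fun (LinearMap.range_eq_bot.1 h0) x; simpa [sq] using this)
    have hUW : ∀ w ∈ W, unip g w ∈ R := fun w hw => by
      refine mem_of_orth f hB (K := W) (R := R) (fun r hr x hx => ?_) (by omega) fun x hx => by
        rw [swap f hA, hQ x hx w hw, neg_zero]
      rw [hR] at hr
      obtain ⟨z, rfl⟩ := hr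
      rw [hW, LinearMap.mem_ker] at hx
      rw [nil_adjoint f g hg, hx, map_zero]
    let L : W →ₗ[F] R := LinearMap.codRestrict R (unip g ∘ₗ W.subtype) fun w => hUW w w.2
    by_cases hs : Function.Surjective L
    · have hU3 : ∀ x, unip g (unip g (unip g x)) = 0 := fun x => by
        obtain ⟨w, hw⟩ := hs ⟨nil g (2 : F) (g x), hR ▸ ⟨g x, rfl⟩⟩
        have hw' : unip g (w : V) = nil g (2 : F) (g x) := congrArg Subtype.val hw
        have hwN : nil g (2 : F) (w : V) = 0 := by have := w.2; simpa [hW] using this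
        rw [unip_sq g x, ← nil_comm, ← hw', unip_sq, hwN, map_zero]
      obtain ⟨x, hx⟩ : ∃ x, nil g (2 : F) x ≠ 0 := by
        by_contra h
        push Not at h
        have : W = ⊤ := Submodule.eq_top_iff'.2 fun x => by rw [hW]; exact h x
        rw [this, finrank_top] at h4; omega
      obtain ⟨v, w, hvw⟩ := frame_exists f hA g hg hB h2 hU3
        ⟨x, fun h => hx (g.injective (by rw [← unip_sq, h, map_zero]))⟩
      exact hframe hU3 v w hvw
    · have hlt : Module.finrank F (LinearMap.range L) < Module.finrank F R :=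
        Submodule.finrank_lt (fun h => hs (LinearMap.range_eq_top.1 h))
      have hk : Module.finrank F (LinearMap.ker L) ≤ Module.finrank F K := by
        refine (LinearMap.finrank_le_finrank_of_injective (f := LinearMap.codRestrict K
          (W.subtype ∘ₗ (LinearMap.ker L).subtype) fun x => by
            rw [hK, LinearMap.mem_ker]; exact congrArg Subtype.val (LinearMap.mem_ker.1 x.2)) ?_)
        exact fun a b h => Subtype.ext (Subtype.ext (congrArg Subtype.val h :))
      have h := L.finrank_range_add_finrank_ker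
      -- now `K` is maximal totally singular, so it is the image of `unip`
      obtain ⟨I, hI⟩ : ∃ I, I = LinearMap.range (unip g) := ⟨_, rfl⟩
      have hrU := (unip g).finrank_range_add_finrank_ker
      rw [← hI, ← hK, hV] at hrU
      have hKI : K ≤ I := fun y hy => by
        refine mem_of_orth f hB (K := K) (R := I) (fun r hr x hx => ?_) (by omega) fun x hx => hKts y hy x hx
        rw [hI] at hr
        obtain ⟨z, rfl⟩ := hr
        rw [hK, LinearMap.mem_ker] at hx
        rw [unip_adjoint f g hg, hx, map_zero, map_zero, neg_zero]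
      have heq : K = I := Submodule.eq_of_le_of_finrank_le hKI (by omega)
      have : W = ⊤ := Submodule.eq_top_iff'.2 fun x => by
        have : unip g x ∈ K := heq ▸ hI ▸ ⟨x, rfl⟩
        rw [hK, LinearMap.mem_ker, unip_sq] at this
        rw [hW, LinearMap.mem_ker]
        exact g.injective (by rw [this, map_zero])
      rw [this, finrank_top] at h4; omega
  · by_cases hKW' : K = W
    · -- the fixed space is stable, so `unip g` is injective on its image
      have hst : ∀ x, unip g (unip g x) = 0 → unip g x = 0 := fun x hx => by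
        have : x ∈ K := by
          rw [hKW', hW, LinearMap.mem_ker]
          exact g.injective (by rw [← unip_sq, hx, map_zero])
        rwa [hK] at this
      have : K = ⊤ := Submodule.eq_top_iff'.2 fun x => by
        rw [hK, LinearMap.mem_ker]
        have h := hU6 x
        simp only [Module.End.pow_apply, Function.iterate_succ, Function.iterate_zero, Function.comp_apply, id] at h
        exact hst _ (hst _ (hst _ (hst _ (hst _ h))))
      rw [this, finrank_top] at hK3; omega
    · have hK1 : Module.finrank F K ≤ 1 := by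
        have := Submodule.finrank_lt_finrank_of_lt (lt_of_le_of_ne hKW hKW'); omega
      have hb : ∀ n : ℕ, Module.finrank F (LinearMap.ker (unip g ^ n)) ≤ n := fun n => by
        induction n with
        | zero => simp [Module.End.one_eq_id]
        | succ n ih =>
          let L : LinearMap.ker (unip g ^ (n + 1)) →ₗ[F] LinearMap.ker (unip g ^ n) :=
            LinearMap.codRestrict _ (unip g ∘ₗ Submodule.subtype _) fun x => by
              have := LinearMap.mem_ker.1 x.2
              show _ ∈ LinearMap.ker (unip g ^ n)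
              rw [LinearMap.mem_ker]
              rwa [show (unip g ^ (n + 1)) (x : V) = (unip g ^ n) (unip g (x : V)) from
                LinearMap.congr_fun (pow_succ _ _) _] at this
          have hk : Module.finrank F (LinearMap.ker L) ≤ Module.finrank F K := by
            refine (LinearMap.finrank_le_finrank_of_injective (f := LinearMap.codRestrict K
              ((LinearMap.ker (unip g ^ (n + 1))).subtype ∘ₗ (LinearMap.ker L).subtype) fun x => by
                rw [hK, LinearMap.mem_ker]; exact congrArg Subtype.val (LinearMap.mem_ker.1 x.2)) ?_)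
            exact fun a b h => Subtype.ext (Subtype.ext (congrArg Subtype.val h :))
          have h := L.finrank_range_add_finrank_ker
          have := Submodule.finrank_le (LinearMap.range L)
          omega
      have h5 := hb 5
      rw [hU5, LinearMap.ker_zero, finrank_top, hV] at h5
      omega

include hA hg in
theorem frame_basis (h2 : (2 : F) ≠ 0) (hV : Module.finrank F V = 6) (hU : ∀ x, unip g (unip g (unip g x)) = 0)
    {v w : V} (h : Frame f g v w) :
    ∃ b : Module.Basis (Fin 6) F V,
      ⇑b = ![v, unip g v, unip g (unip g v), w, unip g w, unip g (unip g w)] := by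
  obtain ⟨-, hz, hr⟩ := frame_rules f hA g hg h2 hU
  obtain ⟨h1, h3, h4, h5, h6⟩ := h
  have hwv : f w (unip g (unip g v)) = -1 := by
    rw [← h6, swap f hA]; simp [hr, hU]
  have hpair : ∀ a b : F, a • unip g (unip g v) + b • unip g (unip g w) = 0 → a = 0 ∧ b = 0 := fun a b hab => by
    have e1 := congrArg (f v) hab
    have e2 := congrArg (f w) hab
    simp [hz, h6, hwv] at e1 e2
    exact ⟨e2, e1⟩
  have hli : LinearIndependent F ![v, unip g v, unip g (unip g v), w, unip g w, unip g (unip g w)] := by
    rw [Fintype.linearIndependent_iff]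
    intro c hc0
    rw [Fin.sum_univ_six] at hc0
    simp at hc0
    have e1 := congrArg (unip g) hc0
    simp [hU] at e1
    have e2 := congrArg (unip g) e1
    simp [hU] at e2
    obtain ⟨c0, c3⟩ := hpair _ _ e2
    simp [c0, c3] at e1 hc0
    obtain ⟨c1, c4⟩ := hpair _ _ e1
    simp [c1, c4] at hc0
    obtain ⟨c2, c5⟩ := hpair _ _ hc0
    intro i
    fin_cases i <;> simp [c0, c1, c2, c3, c4, c5]
  exact ⟨basisOfLinearIndependentOfCardEqFinrank hli (by simp [hV]), coe_basisOfLinearIndependentOfCardEqFinrank ..⟩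

include hA hg in
/-- Two frames give an isometry intertwining the maps. -/
theorem frame_conj (h2 : (2 : F) ≠ 0) (hV : Module.finrank F V = 6) (hU : ∀ x, unip g (unip g (unip g x)) = 0)
    {v w : V} (hf : Frame f g v w) {W : Type*} [AddCommGroup W] [Module F W] [FiniteDimensional F W]
    (f' : W →ₗ[F] W →ₗ[F] F) (hA' : ∀ x, f' x x = 0) (h : W ≃ₗ[F] W) (hh : ∀ x y, f' (h x) (h y) = f' x y)
    (hW : Module.finrank F W = 6) (hU' : ∀ x, unip h (unip h (unip h x)) = 0) {v' w' : W} (hf' : Frame f' h v' w') :
    ∃ e : V ≃ₗ[F] W, (∀ x, e (g x) = h (e x)) ∧ ∀ x y, f' (e x) (e y) = f x y := by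
  obtain ⟨b, hb⟩ := frame_basis f hA g hg h2 hV hU hf
  obtain ⟨b', hb'⟩ := frame_basis f' hA' h hh h2 hW hU' hf'
  obtain ⟨-, hz, hr⟩ := frame_rules f hA g hg h2 hU
  obtain ⟨-, hz', hr'⟩ := frame_rules f' hA' h hh h2 hU'
  obtain ⟨e, he⟩ : ∃ e : V ≃ₗ[F] W, ∀ i, e (b i) = b' i :=
    ⟨b.equiv b' (Equiv.refl _), fun i => Module.Basis.equiv_apply ..⟩
  rw [hb, hb'] at he
  obtain ⟨q1, q2, q3, q4, q5, q6⟩ : e v = v' ∧ e (unip g v) = unip h v' ∧ e (unip g (unip g v)) = unip h (unip h v') ∧
      e w = w' ∧ e (unip g w) = unip h w' ∧ e (unip g (unip g w)) = unip h (unip h w') :=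
    ⟨he 0, he 1, he 2, he 3, he 4, he 5⟩
  have hcomm : (e : V →ₗ[F] W) ∘ₗ unip g = unip h ∘ₗ (e : V →ₗ[F] W) := b.ext fun i => by
    rw [LinearMap.comp_apply, LinearMap.comp_apply, hb]
    fin_cases i <;> simp [q1, q2, q3, q4, q5, q6, hU, hU']
  refine ⟨e, fun x => ?_, fun x y => ?_⟩
  · have := LinearMap.congr_fun hcomm x
    simp [unip_apply, map_sub] at this
    exact this
  · obtain ⟨h1, h3, h4, h5, h6⟩ := hf
    obtain ⟨k1, k3, k4, k5, k6⟩ := hf'
    have hwv : f w (unip g (unip g v)) = -1 := by rw [← h6, swap f hA]; simp [hr, hU]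
    have hwv1 : f w (unip g v) = -1 := by
      have := swap f hA w (unip g v)
      rw [hr, h5, h6] at this
      rw [this]; ring
    have h4' : f w v = 0 := by rw [swap f hA, h4, neg_zero]
    have kwv : f' w' (unip h (unip h v')) = -1 := by rw [← k6, swap f' hA']; simp [hr', hU']
    have kwv1 : f' w' (unip h v') = -1 := by
      have := swap f' hA' w' (unip h v')
      rw [hr', k5, k6] at this
      rw [this]; ring
    have k4' : f' w' v' = 0 := by rw [swap f' hA', k4, neg_zero]
    have hform : f'.compl₁₂ (e : V →ₗ[F] W) (e : V →ₗ[F] W) = f := b.ext fun i => b.ext fun j => by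
      rw [LinearMap.compl₁₂_apply, hb]
      fin_cases i <;> fin_cases j <;>
        simp [q1, q2, q3, q4, q5, q6, hU, hU', hr, hr', hz, hz', h1, h3, h4, h5, h6, k1, k3, k4, k5, k6, hwv, hwv1,
          h4', kwv, kwv1, k4', hA, hA']
    exact LinearMap.congr_fun (LinearMap.congr_fun hform x) y

end CfsgLib.NormalCover.SpSix
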