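import Mathlib
import Cfsg.Agent.Lib.NormalCover.SpSixUnip

/-!
Regular unipotent symplectic isometries of a six dimensional space are conjugate by similitudes.
-/

set_option autoImplicit false

namespace CfsgLib.NormalCover.SpSix

open Polynomial CfsgLib.Geom

variable {F : Type*} [Field F] {V : Type*} [AddCommGroup V] [Module F V]

/-- `g - g⁻¹`. -/
noncomputable def zee (g : V ≃ₗ[F] V) : Module.End F V := (g : V →ₗ[F] V) - (g.symm : V →ₗ[F] V)

theorem zee_apply (g : V ≃ₗ[F] V) (v : V) : zee g v = g v - g.symm v := rfl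

variable [FiniteDimensional F V] (f : V →ₗ[F] V →ₗ[F] F) (hA : ∀ v, f v v = 0) (g : V ≃ₗ[F] V)
  (hg : ∀ u v, f (g u) (g v) = f u v) (hB : ∀ x, (∀ y, f x y = 0) → x = 0)

include hg in
theorem zee_adjoint (u v : V) : f (zee g u) v = -f u (zee g v) := by
  simp [zee_apply, apply_adjoint f g hg, symm_adjoint f g hg]

/-- `f (v, zee^k v)`. -/
noncomputable def coef (v : V) (k : ℕ) : F := f v ((zee g ^ k) v)

include hg in
theorem zee_pow_adjoint (i : ℕ) : ∀ u v, f ((zee g ^ i) u) v = (-1) ^ i * f u ((zee g ^ i) v) := by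
  induction i with
  | zero => simp
  | succ i ih =>
    intro u v
    rw [pow_succ, Module.End.mul_apply, ih, zee_adjoint f g hg, ← Module.End.mul_apply, ← pow_succ',
      ← pow_succ, pow_succ (-1 : F)]
    ring

include hg in
theorem form_pow (v : V) (i j : ℕ) :
    f ((zee g ^ i) v) ((zee g ^ j) v) = (-1) ^ i * coef f g v (i + j) := by
  rw [zee_pow_adjoint f g hg, ← Module.End.mul_apply, ← pow_add, coef]

include hA hg in
theorem coef_even (v : V) (m : ℕ) : coef f g v (m + m) = 0 := by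
  have h := form_pow f g hg v m m
  rw [hA] at h
  exact (mul_eq_zero.1 h.symm).resolve_left (pow_ne_zero _ (neg_ne_zero.2 one_ne_zero))

include hA hB hg in
/-- A cyclic vector whose only non-zero coefficient is the top one. -/
theorem regular_vector (h2 : (2 : F) ≠ 0) (h6 : zee g ^ 6 = 0) (h5 : zee g ^ 5 ≠ 0) :
    ∃ v, coef f g v 5 ≠ 0 ∧ ∀ k, k ≠ 5 → coef f g v k = 0 := by
  obtain ⟨v, hv⟩ : ∃ v, coef f g v 5 ≠ 0 := by
    by_contra h
    push Not at h
    refine h5 (LinearMap.ext fun w => hB _ fun u => ?_)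
    have e := h (u + w)
    simp only [coef, map_add, LinearMap.add_apply] at e
    have eu : f u ((zee g ^ 5) u) = 0 := h u
    have ew : f w ((zee g ^ 5) w) = 0 := h w
    have e' := zee_pow_adjoint f g hg 5 w u
    have e1 := swap f hA ((zee g ^ 5) w) u
    refine (mul_eq_zero.1 (show (2 : F) * f ((zee g ^ 5) w) u = 0 from ?_)).resolve_left h2
    linear_combination -e + eu + ew + e1 + e'
  obtain ⟨a, ha⟩ : ∃ a : ℕ → F, ∀ k, a k = coef f g v k := ⟨_, fun k => rfl⟩
  have hzero : ∀ k, 6 ≤ k → coef f g v k = 0 := fun k hk => by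
    obtain ⟨d, rfl⟩ : ∃ d, k = 6 + d := ⟨k - 6, by omega⟩
    rw [coef, pow_add, h6, zero_mul]; simp
  obtain ⟨β, hβ⟩ : ∃ β, a 3 + 2 * β * a 5 = 0 := ⟨-a 3 / (2 * a 5), by
    have : a 5 ≠ 0 := by rwa [ha]
    field_simp; ring⟩
  obtain ⟨γ, hγ⟩ : ∃ γ, a 1 + 2 * β * a 3 + (2 * γ + β ^ 2) * a 5 = 0 := ⟨(-a 1 - 2 * β * a 3 - β ^ 2 * a 5) / (2 * a 5), by
    have : a 5 ≠ 0 := by rwa [ha]
    field_simp; ring⟩
  obtain ⟨v', hv'⟩ : ∃ v', v' = v + β • (zee g ^ 2) v + γ • (zee g ^ 4) v := ⟨_, rfl⟩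
  have hk : ∀ k, coef f g v' k = a k + 2 * β * a (k + 2) + (2 * γ + β ^ 2) * a (k + 4) +
      2 * β * γ * a (k + 6) + γ ^ 2 * a (k + 8) := fun k => by
    have e : ∀ j, (zee g ^ k) ((zee g ^ j) v) = (zee g ^ (k + j)) v := fun j => by
      rw [← Module.End.mul_apply, ← pow_add]
    have e0 : ∀ j, f v ((zee g ^ j) v) = a j := fun j => (ha j).symm
    have e1 : ∀ i j, f ((zee g ^ i) v) ((zee g ^ j) v) = (-1) ^ i * a (i + j) := fun i j => by
      rw [ha, form_pow f g hg]
    simp only [coef, hv', map_add, map_smul, LinearMap.add_apply, LinearMap.smul_apply, smul_eq_mul, e, e0, e1]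
    ring_nf
  refine ⟨v', ?_, fun k hk5 => ?_⟩
  · simpa [hk, ha, hzero] using hv
  rcases (show 6 ≤ k ∨ k = 0 ∨ k = 2 ∨ k = 4 ∨ k = 1 ∨ k = 3 by omega) with h | rfl | rfl | rfl | rfl | rfl
  · rw [coef, show k = 6 + (k - 6) by omega, pow_add, h6, zero_mul]; simp
  · exact coef_even f hA g hg v' 0
  · exact coef_even f hA g hg v' 1
  · exact coef_even f hA g hg v' 2
  · rw [hk, ha 7, ha 9, hzero 7 (by omega), hzero 9 (by omega)]
    linear_combination hγ
  · rw [hk, ha 7, ha 9, ha 11, hzero 7 (by omega), hzero 9 (by omega), hzero 11 (by omega)]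
    linear_combination hβ

include hg in
theorem regular_basis (hV : Module.finrank F V = 6) (h6 : zee g ^ 6 = 0) {v : V} (hv : coef f g v 5 ≠ 0) :
    ∃ b : Module.Basis (Fin 6) F V, ∀ i, b i = (zee g ^ (i : ℕ)) v := by
  have hv5 : (zee g ^ 5) v ≠ 0 := fun h => hv (by rw [coef, h, map_zero])
  have hz : ∀ k, 6 ≤ k → (zee g ^ k) v = 0 := fun k hk => by
    obtain ⟨d, rfl⟩ : ∃ d, k = 6 + d := ⟨k - 6, by omega⟩
    rw [pow_add, h6, zero_mul]; rfl
  have hli : LinearIndependent F fun i : Fin 6 => (zee g ^ (i : ℕ)) v := by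
    rw [Fintype.linearIndependent_iff]
    intro c hc
    rw [Fin.sum_univ_six] at hc
    have e := fun k : ℕ => congrArg (fun x => (zee g ^ k) x) hc
    simp only [map_add, map_smul, map_zero, ← Module.End.mul_apply, ← pow_add] at e
    have c0 : c 0 = 0 := by have := e 5; simpa [hz, hv5] using this
    have c1 : c 1 = 0 := by have := e 4; simpa [hz, hv5, c0] using this
    have c2 : c 2 = 0 := by have := e 3; simpa [hz, hv5, c0, c1] using this
    have c3 : c 3 = 0 := by have := e 2; simpa [hz, hv5, c0, c1, c2] using this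
    have c4 : c 4 = 0 := by have := e 1; simpa [hz, hv5, c0, c1, c2, c3] using this
    have c5 : c 5 = 0 := by have := e 0; simpa [hz, hv5, c0, c1, c2, c3, c4] using this
    intro i
    fin_cases i <;> assumption
  exact ⟨basisOfLinearIndependentOfCardEqFinrank hli (by simp [hV]),
    fun i => congrFun (coe_basisOfLinearIndependentOfCardEqFinrank ..) i⟩

theorem zee_facts (h2 : (2 : F) ≠ 0) (hN : nil g (2 : F) ^ 3 = 0) (h5 : unip g ^ 5 ≠ 0) : zee g ^ 6 = 0 ∧ zee g ^ 5 ≠ 0 := by
  obtain ⟨C, hC⟩ : ∃ C : Module.End F V, ∀ x, C x = x + g.symm x :=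
    ⟨LinearMap.id + (g.symm : V →ₗ[F] V), fun x => rfl⟩
  have hzee : zee g = C * unip g := LinearMap.ext fun x => by
    rw [Module.End.mul_apply, hC, unip_apply, zee_apply, map_sub, g.symm_apply_apply]; abel
  have hc : Commute C (unip g) := LinearMap.ext fun x => by
    simp [hC, unip_apply]; abel
  have hU6 : unip g ^ 6 = 0 := by
    have : unip g ^ 2 = (g : V →ₗ[F] V) * nil g (2 : F) := LinearMap.ext fun x => by
      rw [pow_two, Module.End.mul_apply, Module.End.mul_apply, unip_sq]; rfl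
    rw [show (6 : ℕ) = 2 * 3 from rfl, pow_mul, this,
      (show Commute (g : Module.End F V) (nil g (2 : F)) from LinearMap.ext fun x => (nil_comm g _ x).symm).mul_pow,
      hN, mul_zero]
  refine ⟨by rw [hzee, hc.mul_pow, hU6, mul_zero], fun h => h5 (LinearMap.ext fun x => ?_)⟩
  rw [hzee, hc.mul_pow] at h
  have h' := LinearMap.congr_fun h x
  rw [Module.End.mul_apply] at h'
  have hinj : ∀ y, C y = 0 → (y + g y) = 0 := fun y hy => by
    rw [hC] at hy
    have := congrArg g hy
    simpa [add_comm] using this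
  have hCinj : (2 : F) ≠ 0 → ∀ y, C y = 0 → y = 0 := fun h2 y hy => by
    -- `g y = -y`, and `g` is unipotent
    have e : unip g y = (-2 : F) • y := by
      rw [unip_apply, eq_neg_of_add_eq_zero_right (hinj y hy)]; module
    have h6 := LinearMap.congr_fun hU6 y
    simp only [Module.End.pow_apply, Function.iterate_succ, Function.iterate_zero, Function.comp_apply, id, e,
      map_smul, smul_smul, LinearMap.zero_apply] at h6
    exact (smul_eq_zero.1 h6).resolve_left (by simp [h2])
  simp only [Module.End.pow_apply, Function.iterate_succ, Function.iterate_zero, Function.comp_apply, id,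
    LinearMap.zero_apply] at h' ⊢
  exact hCinj h2 _ (hCinj h2 _ (hCinj h2 _ (hCinj h2 _ (hCinj h2 _ h'))))

include hA hB hg in
/-- Two regular unipotent isometries are conjugate by a similitude. -/
theorem regular_conj (h2 : (2 : F) ≠ 0) (hV : Module.finrank F V = 6) (hN : nil g (2 : F) ^ 3 = 0)
    (hU : unip g ^ 5 ≠ 0) {W : Type*} [AddCommGroup W] [Module F W] [FiniteDimensional F W]
    (f' : W →ₗ[F] W →ₗ[F] F) (hA' : ∀ v, f' v v = 0) (hB' : ∀ x, (∀ y, f' x y = 0) → x = 0)
    (h : W ≃ₗ[F] W) (hh : ∀ u v, f' (h u) (h v) = f' u v) (hW : Module.finrank F W = 6)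
    (hM : nil h (2 : F) ^ 3 = 0) (hU' : unip h ^ 5 ≠ 0) :
    ∃ (e : V ≃ₗ[F] W) (ν : F), ν ≠ 0 ∧ (∀ v, e (g v) = h (e v)) ∧ ∀ u v, f' (e u) (e v) = ν * f u v := by
  obtain ⟨h6, h5⟩ := zee_facts g h2 hN hU
  obtain ⟨h6', h5'⟩ := zee_facts h h2 hM hU'
  obtain ⟨v, hv, hv0⟩ := regular_vector f hA g hg hB h2 h6 h5
  obtain ⟨w, hw, hw0⟩ := regular_vector f' hA' h hh hB' h2 h6' h5'
  obtain ⟨b, hb⟩ := regular_basis f g hg hV h6 hv
  obtain ⟨b', hb'⟩ := regular_basis f' h hh hW h6' hw
  obtain ⟨e, he⟩ : ∃ e : V ≃ₗ[F] W, ∀ i, e (b i) = b' i :=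
    ⟨b.equiv b' (Equiv.refl _), fun i => Module.Basis.equiv_apply ..⟩
  simp only [hb, hb'] at he
  have hek : ∀ k, e ((zee g ^ k) v) = (zee h ^ k) w := fun k => by
    by_cases hk : k < 6
    · exact he ⟨k, hk⟩
    · rw [show k = 6 + (k - 6) by omega, pow_add, h6, zero_mul, pow_add, h6', zero_mul]; simp
  have hez : ∀ x, e (zee g x) = zee h (e x) := LinearMap.congr_fun
    (show (e : V →ₗ[F] W) ∘ₗ zee g = zee h ∘ₗ (e : V →ₗ[F] W) from b.ext fun i => by
      rw [LinearMap.comp_apply, LinearMap.comp_apply, hb, ← Module.End.mul_apply, ← pow_succ']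
      show e _ = zee h (e _)
      rw [hek, hek, ← Module.End.mul_apply, ← pow_succ'])
  refine ⟨e, coef f' h w 5 / coef f g v 5, div_ne_zero hw hv, ?_, fun x y => ?_⟩
  · -- `g` is recovered from `zee g`
    obtain ⟨T, hT⟩ : ∃ T : Module.End F W, ∀ x, T (e x) = e (g x + g.symm x) :=
      ⟨(e : V →ₗ[F] W) ∘ₗ ((g : V →ₗ[F] V) + (g.symm : V →ₗ[F] V)) ∘ₗ (e.symm : W →ₗ[F] V), fun x => by simp⟩
    obtain ⟨T', hT'⟩ : ∃ T' : Module.End F W, ∀ x, T' x = h x + h.symm x :=
      ⟨(h : W →ₗ[F] W) + (h.symm : W →ₗ[F] W), fun x => rfl⟩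
    have hTz : Commute (T) (zee h) := LinearMap.ext fun y => by
      obtain ⟨x, rfl⟩ := e.surjective y
      rw [Module.End.mul_apply, Module.End.mul_apply, ← hez, hT, hT, ← hez]
      simp [zee_apply]; abel
    have hT'z : Commute T' (zee h) := LinearMap.ext fun y => by simp [hT', zee_apply]; abel
    have hTT : Commute T T' := by
      obtain ⟨c, hc⟩ : ∃ c : Fin 6 → F, T w = ∑ i, c i • b' i := ⟨fun i => b'.repr (T w) i, (b'.sum_repr _).symm⟩
      have hTP : T = ∑ i, c i • zee h ^ (i : ℕ) := b'.ext fun j => by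
        rw [hb', ← Module.End.mul_apply, (hTz.pow_right j).eq, Module.End.mul_apply, hc, map_sum,
          LinearMap.sum_apply]
        refine Finset.sum_congr rfl fun i _ => ?_
        rw [map_smul, hb', LinearMap.smul_apply, ← Module.End.mul_apply, ← Module.End.mul_apply, ← pow_add,
          ← pow_add, add_comm]
      rw [hTP]
      exact Commute.sum_left _ _ _ fun i _ => ((hT'z.symm.pow_left _).smul_left _)
    have hsq : ∀ x, T (T x) = T' (T' x) := fun y => by
      obtain ⟨x, rfl⟩ := e.surjective y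
      have hz := hez (zee g x)
      rw [hez x] at hz
      simp only [zee_apply, map_sub, LinearEquiv.symm_apply_apply, LinearEquiv.apply_symm_apply] at hz
      rw [hT, hT, hT', hT']
      simp only [map_add, LinearEquiv.symm_apply_apply, LinearEquiv.apply_symm_apply]
      linear_combination (norm := module) hz
    have hnT : IsNilpotent (T - (2 : F) • 1) := ⟨3, LinearMap.ext fun y => by
      obtain ⟨x, rfl⟩ := e.surjective y
      have hstep : ∀ x, (T - (2 : F) • (1 : Module.End F W)) (e x) = e (nil g (2 : F) x) := fun x => by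
        simp [hT, nil_apply]
      have := LinearMap.congr_fun hN x
      simp only [pow_succ, pow_zero, one_mul, Module.End.mul_apply, hstep, LinearMap.zero_apply] at this ⊢
      rw [this, map_zero]⟩
    have hnT' : IsNilpotent (T' - (2 : F) • 1) := ⟨3, by
      rw [show T' - (2 : F) • 1 = nil h (2 : F) from LinearMap.ext fun x => by simp [hT', nil_apply], hM]⟩
    have hu : IsUnit (T + T') := by
      have hn := (((hTT.sub_left ((Commute.one_left T').smul_left _)).sub_right
        ((Commute.one_right (T - (2 : F) • 1)).smul_right _))).isNilpotent_add hnT hnT'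
      have h4 : IsUnit ((4 : F) • (1 : Module.End F W)) := by
        rw [← Algebra.algebraMap_eq_smul_one]
        exact (isUnit_iff_ne_zero.2 (by rw [show (4 : F) = 2 * 2 by norm_num]; exact mul_ne_zero h2 h2)).map _
      have := hn.isUnit_add_left_of_commute h4 ((Commute.one_right _).smul_right _)
      rwa [show (4 : F) • (1 : Module.End F W) + (T - (2 : F) • 1 + (T' - (2 : F) • 1)) = T + T' by module] at this
    have heq : T = T' := by
      refine sub_eq_zero.1 ((hu.mul_right_eq_zero).1 ?_)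
      rw [add_mul, mul_sub, mul_sub, hTT.eq]
      refine LinearMap.ext fun x => ?_
      simp [hsq]
    intro x
    have h1 := hT x
    rw [heq, hT'] at h1
    have h2' := hez x
    simp only [zee_apply, map_sub] at h2'
    rw [map_add] at h1
    have : (2 : F) • e (g x) = (2 : F) • h (e x) := by linear_combination (norm := module) h2' - h1
    exact smul_right_injective W h2 this
  · have hform : f'.compl₁₂ (e : V →ₗ[F] W) (e : V →ₗ[F] W) = (coef f' h w 5 / coef f g v 5) • f :=
      b.ext fun i => b.ext fun j => by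
        rw [LinearMap.compl₁₂_apply, LinearMap.smul_apply, LinearMap.smul_apply, hb, hb]
        show f' (e _) (e _) = _
        rw [hek, hek, form_pow f' h hh, form_pow f g hg, smul_eq_mul]
        by_cases h5ij : (i : ℕ) + j = 5
        · rw [h5ij]; field_simp
        · rw [hw0 _ h5ij, hv0 _ h5ij]; ring
    exact LinearMap.congr_fun (LinearMap.congr_fun hform x) y

end CfsgLib.NormalCover.SpSix
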