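import Mathlib
import Cfsg.Agent.Lib.NormalCover.Basic
import Cfsg.Agent.Lib.NormalCover.SpSixRegular
import Cfsg.Agent.Lib.Classical.SemiForms

/-!
`PSp_6(3^a)` is covered by the conjugates of the stabiliser of a non-degenerate plane and of the semilinear
symplectic group of `GF(q^3)^2`.
-/

set_option autoImplicit false

namespace CfsgLib.NormalCover.SpSix

open Matrix Polynomial CfsgLib.Geom CfsgLib.Classical

variable {F : Type*} [Field F] [Fintype F] {L : Type*} [Field L] [Algebra F L]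

/-- The trace of the determinant form on `L × L`. -/
noncomputable def extForm : (L × L) →ₗ[F] (L × L) →ₗ[F] F :=
  LinearMap.mk₂ F (fun x y => Algebra.trace F L (x.1 * y.2 - x.2 * y.1))
    (fun x x' y => by simp [add_mul, map_add, map_sub]; ring)
    (fun c x y => by simp [map_smul, map_sub]; ring)
    (fun x y y' => by simp [mul_add, map_add, map_sub]; ring)
    (fun c x y => by simp [map_smul, map_sub]; ring)

omit [Fintype F] in
theorem extForm_apply (x y : L × L) : extForm (F := F) x y = Algebra.trace F L (x.1 * y.2 - x.2 * y.1) := rfl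

omit [Fintype F] in
theorem extForm_self (x : L × L) : extForm (F := F) x x = 0 := by
  rw [extForm_apply, mul_comm, sub_self, map_zero]

omit [Fintype F] in
theorem extForm_sep [FiniteDimensional F L] [Algebra.IsSeparable F L] (x : L × L)
    (hx : ∀ y, extForm (F := F) x y = 0) : x = 0 := by
  refine Prod.ext ?_ ?_
  · exact (traceForm_nondegenerate F L).1 _ fun k => by simpa [extForm_apply] using hx (0, k)
  · exact (traceForm_nondegenerate F L).1 _ fun k => by simpa [extForm_apply] using hx (k, 0)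

/-- The semilinear isometries attached to matrices of determinant one. -/
theorem exists_model [FiniteDimensional F L] [Algebra.IsSeparable F L] (π : L ≃ₐ[F] L) (a b c d : L)
    (h : a * d - b * c = 1) :
    ∃ M : (L × L) ≃ₗ[F] (L × L), (∀ x, M x = (π (a * x.1 + b * x.2), π (c * x.1 + d * x.2))) ∧
      ∀ x y, extForm (F := F) (M x) (M y) = extForm (F := F) x y := by
  obtain ⟨T, hT⟩ : ∃ T : (L × L) →ₗ[F] (L × L), ∀ x, T x = (π (a * x.1 + b * x.2), π (c * x.1 + d * x.2)) :=
    ⟨{ toFun := fun x => (π (a * x.1 + b * x.2), π (c * x.1 + d * x.2))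
       map_add' := fun x y => by ext <;> simp [mul_add, map_add] <;> ring
       map_smul' := fun r x => by ext <;> simp [mul_smul_comm, ← smul_add, map_smul] }, fun x => rfl⟩
  have hiso : ∀ x y, extForm (F := F) (T x) (T y) = extForm (F := F) x y := fun x y => by
    simp only [extForm_apply, hT]
    rw [← map_mul π, ← map_mul π, ← map_sub π, Algebra.trace_eq_of_algEquiv π]
    congr 1
    linear_combination (x.1 * y.2 - x.2 * y.1) * h
  obtain ⟨M, hM⟩ := exists_equiv_of_preserving (extForm (F := F) (L := L)) extForm_sep T hiso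
  exact ⟨M, fun x => by rw [hM, hT], fun x y => by rw [hM, hM, hiso]⟩

local notation "Sp₆" => Matrix.symplecticGroup (Fin 3) F
local notation "V₆" => (Fin 3 ⊕ Fin 3 → F)

/-- The semilinear maps of `L × L`, transported by `e`. -/
noncomputable def semiSp (e : (L × L) ≃ₗ[F] V₆) : Subgroup Sp₆ :=
  let M : Submonoid Sp₆ :=
    { carrier := {g | ∃ i : ℕ, ∀ (c : L) x,
        e.symm (spLin g (e (c • x))) = c ^ (Fintype.card F ^ i) • e.symm (spLin g (e x))}
      mul_mem' := fun {g h} ⟨i, hg⟩ ⟨j, hh⟩ => ⟨j + i, fun c x => by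
        obtain ⟨y, hy⟩ : ∃ y, y = e.symm (spLin h (e x)) := ⟨_, rfl⟩
        have h1 : spLin h (e (c • x)) = e (c ^ (Fintype.card F ^ j) • y) := by
          rw [hy, ← hh, LinearEquiv.apply_symm_apply]
        have h2 : spLin h (e x) = e y := by rw [hy, LinearEquiv.apply_symm_apply]
        rw [spLin_mul, spLin_mul, h1, h2, hg, ← pow_mul, ← pow_add]⟩
      one_mem' := ⟨0, fun c x => by simp [spLin_one]⟩ }
  { M with
    inv_mem' := fun {g} hg => by
      have h : g⁻¹ = g ^ (orderOf g - 1) := by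
        refine inv_eq_of_mul_eq_one_right ?_
        rw [← pow_succ', Nat.sub_add_cancel (orderOf_pos g), pow_orderOf_eq_one]
      exact h.symm ▸ M.pow_mem hg _ }

theorem mem_semiSp {e : (L × L) ≃ₗ[F] V₆} {g : Sp₆} : g ∈ semiSp e ↔ ∃ i : ℕ, ∀ (c : L) x,
    e.symm (spLin g (e (c • x))) = c ^ (Fintype.card F ^ i) • e.symm (spLin g (e x)) := Iff.rfl

/-- The stabiliser of a subspace. -/
noncomputable def planeStab (P : Submodule F V₆) : Subgroup Sp₆ where
  carrier := {g | ∀ w, spLin g w ∈ P ↔ w ∈ P}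
  mul_mem' {a b} ha hb w := by rw [spLin_mul]; exact (ha _).trans (hb w)
  one_mem' w := by rw [spLin_one]
  inv_mem' {a} ha w := by
    have h := ha (spLin a⁻¹ w)
    rw [← spLin_mul, mul_inv_cancel, spLin_one] at h
    exact h.symm

omit [Fintype F] in
/-- An element leaving a non-degenerate plane invariant is conjugate into the stabiliser of the standard one. -/
theorem exists_conj_plane (g : Sp₆) {u₀ v₀ : V₆} (h₀ : sympBilin 3 F u₀ v₀ = 1)
    (hg : HasPlane (sympBilin 3 F) (spLin g)) :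
    ∃ x : Sp₆, x * g * x⁻¹ ∈ planeStab (Submodule.span F {u₀, v₀}) := by
  obtain ⟨P, hP, hnd, hinv⟩ := hg
  haveI : Nontrivial P := Module.nontrivial_of_finrank_pos (R := F) (by omega)
  obtain ⟨u, v, huv⟩ := exists_hyperbolic ((sympBilin 3 F).compl₁₂ P.subtype P.subtype)
    (fun x hx => Subtype.ext (hnd x x.2 fun y hy => hx ⟨y, hy⟩))
  rw [LinearMap.compl₁₂_apply, Submodule.subtype_apply, Submodule.subtype_apply] at huv
  have hvu : sympBilin 3 F (v : V₆) u = -1 := by rw [sympBilin_swap, huv]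
  have hv₀ : sympBilin 3 F v₀ u₀ = -1 := by rw [sympBilin_swap, h₀]
  have hliuv : LinearIndependent F ![u, v] := by
    refine (LinearIndependent.pair_iff' (fun h => by simp [h] at huv)).2 fun c hc => ?_
    rw [← hc] at huv
    simp [sympBilin_self] at huv
  let b := basisOfLinearIndependentOfCardEqFinrank hliuv (by simp [hP])
  obtain ⟨φ, hφu, hφv⟩ : ∃ φ : P →ₗ[F] V₆, φ u = u₀ ∧ φ v = v₀ := by
    refine ⟨b.constr F ![u₀, v₀], ?_, ?_⟩
    · have := b.constr_basis F ![u₀, v₀] 0; simpa [b] using this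
    · have := b.constr_basis F ![u₀, v₀] 1; simpa [b] using this
  have hb0 : b 0 = u := by simp [b]
  have hb1 : b 1 = v := by simp [b]
  have hdecomp : ∀ x : P, ∃ r s : F, x = r • u + s • v := fun x =>
    ⟨b.repr x 0, b.repr x 1, by conv_lhs => rw [← b.sum_repr x, Fin.sum_univ_two, hb0, hb1]⟩
  have hform : ∀ x y : P, sympBilin 3 F (φ x) (φ y) = sympBilin 3 F (x : V₆) (y : V₆) := fun x y => by
    obtain ⟨r, s, rfl⟩ := hdecomp x
    obtain ⟨r', s', rfl⟩ := hdecomp y
    simp [hφu, hφv, sympBilin_self, huv, hvu, h₀, hv₀]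
  have hinj : Function.Injective φ := (injective_iff_map_eq_zero φ).2 fun x hx =>
    Subtype.ext (hnd x x.2 fun y hy => by rw [← hform x ⟨y, hy⟩, hx]; simp)
  obtain ⟨t, -, ht, htX⟩ := witt_alternating (sympBilin 3 F) sympBilin_self sympBilin_sep P φ hinj hform
  have hmaps : P.map (t : V₆ →ₗ[F] V₆) = Submodule.span F {u₀, v₀} := by
    refine le_antisymm ?_ (Submodule.span_le.2 ?_)
    · rintro _ ⟨x, hx, rfl⟩
      obtain ⟨r, s, hrs⟩ := hdecomp ⟨x, hx⟩
      refine Submodule.mem_span_pair.2 ⟨r, s, ?_⟩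
      show _ = t x
      rw [show t x = φ ⟨x, hx⟩ from htX ⟨x, hx⟩, hrs, map_add, map_smul, map_smul, hφu, hφv]
    · rintro z (rfl | rfl)
      · exact ⟨u, u.2, (htX u).trans hφu⟩
      · exact ⟨v, v.2, (htX v).trans hφv⟩
  obtain ⟨y, hy⟩ : ∃ y : Sp₆, ∀ z, spLin y z = t z :=
    ⟨spEquiv 3 F ⟨t, ht⟩, fun z => by rw [spLin_apply]; exact spEquiv_mulVec _ _⟩
  have hgmap : P.map (spLin g) = P := by
    refine Submodule.eq_of_le_of_finrank_eq (Submodule.map_le_iff_le_comap.2 hinv)
      ((LinearMap.finrank_range_of_inj (f := spLin g ∘ₗ P.subtype) ?_) ▸ ?_)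
    · intro a b hab
      have := congrArg (spLin g⁻¹) hab
      simp only [LinearMap.comp_apply, ← spLin_mul, inv_mul_cancel, spLin_one, Submodule.subtype_apply] at this
      exact Subtype.ext this
    · rw [LinearMap.range_comp, Submodule.range_subtype]
  refine ⟨y, fun w => ?_⟩
  obtain ⟨z, rfl⟩ := t.surjective w
  have hz : spLin (y * g * y⁻¹) (t z) = t (spLin g z) := by
    rw [← hy z, spLin_mul, spLin_mul, ← spLin_mul y⁻¹, inv_mul_cancel, spLin_one, hy]
  rw [hz, ← hmaps]
  have key : ∀ a, t a ∈ P.map (t : V₆ →ₗ[F] V₆) ↔ a ∈ P := fun a =>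
    ⟨fun ⟨b, hb, hab⟩ => by rwa [← t.injective hab], fun ha => Submodule.mem_map_of_mem ha⟩
  rw [key, key]
  refine ⟨fun h => ?_, hinv z⟩
  rw [← hgmap] at h
  obtain ⟨b, hb, hab⟩ := h
  have := congrArg (spLin g⁻¹) hab
  simp only [← spLin_mul, inv_mul_cancel, spLin_one] at this
  rwa [← this]

/-- An element intertwined with a semilinear isometry of `L × L` is conjugate into the semilinear group. -/
theorem exists_conj_semi (e : (L × L) ≃ₗ[F] V₆) (he : ∀ x y, sympBilin 3 F (e x) (e y) = extForm (F := F) x y)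
    (g : Sp₆) (M : (L × L) → L × L) (x : V₆ ≃ₗ[F] (L × L))
    (hx : ∀ u v, extForm (F := F) (x u) (x v) = sympBilin 3 F u v) (hint : ∀ v, x (spLin g v) = M (x v)) {i : ℕ}
    (hM : ∀ (c : L) z, M (c • z) = c ^ (Fintype.card F ^ i) • M z) :
    ∃ y : Sp₆, y * g * y⁻¹ ∈ semiSp e := by
  obtain ⟨y, hy⟩ : ∃ y : Sp₆, ∀ z, spLin y z = e (x z) :=
    ⟨spEquiv 3 F ⟨x.trans e, fun u v => by
      simp only [LinearEquiv.trans_apply, he, hx]⟩, fun z => by rw [spLin_apply]; exact spEquiv_mulVec _ _⟩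
  have key : ∀ z, e.symm (spLin (y * g * y⁻¹) (e z)) = M z := fun z => by
    obtain ⟨w, rfl⟩ := x.surjective z
    rw [← hy, spLin_mul, spLin_mul, ← spLin_mul y⁻¹, inv_mul_cancel, spLin_one, hy, e.symm_apply_apply, hint]
  exact ⟨y, mem_semiSp.2 ⟨i, fun c z => by rw [key, key, hM]⟩⟩

omit [Fintype F] in
theorem exists_equiv (g : Sp₆) : ∃ G : V₆ ≃ₗ[F] V₆, (∀ v, G v = spLin g v) ∧
    ∀ u v, sympBilin 3 F (G u) (G v) = sympBilin 3 F u v := by
  obtain ⟨G, hG⟩ := exists_equiv_of_preserving (sympBilin 3 F) sympBilin_sep (spLin g) (spLin_form g)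
  exact ⟨G, hG, fun u v => by rw [hG, hG, spLin_form]⟩

omit [Fintype F] in
theorem nil_cube_of_unip {W : Type*} [AddCommGroup W] [Module F W] (M : W ≃ₗ[F] W)
    (h : ∀ x, (unip M ^ 6) x = 0) : nil M (2 : F) ^ 3 = 0 := LinearMap.ext fun x => by
  have h' := h x
  simp only [Module.End.pow_apply, Function.iterate_succ, Function.iterate_zero, Function.comp_apply, id, unip_sq,
    nil_comm, LinearEquiv.map_eq_zero_iff] at h'
  simpa [Module.End.pow_apply] using h'

set_option maxHeartbeats 1600000 in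
/-- `PSp_6(3^a)` is covered by two classes of proper subgroups. -/
theorem psp_six_covered (h3 : (3 : F) = 0) : CoveredByTwo (Cfsg.PSp 3 F) := by
  classical
  have h2 : (2 : F) ≠ 0 := fun h => one_ne_zero (show (1 : F) = 0 by linear_combination h3 - h)
  obtain ⟨h₀, hm, hirr, hdeg⟩ := exists_monic_irreducible (F := F) 3
  haveI : Fact (Irreducible h₀) := ⟨hirr⟩
  haveI : Module.Finite F (AdjoinRoot h₀) := (AdjoinRoot.powerBasis hirr.ne_zero).finite
  haveI : Finite (AdjoinRoot h₀) := Module.finite_of_finite F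
  haveI := Fintype.ofFinite (AdjoinRoot h₀)
  have hdim : Module.finrank F (AdjoinRoot h₀) = 3 := by
    rw [(AdjoinRoot.powerBasis hirr.ne_zero).finrank, AdjoinRoot.powerBasis_dim, hdeg]
  have hWdim : Module.finrank F (AdjoinRoot h₀ × AdjoinRoot h₀) = 6 := by
    rw [Module.finrank_prod, hdim]
  have hVdim : Module.finrank F V₆ = 6 := by simp
  obtain ⟨e, he⟩ := exists_symp_isometry 6 (extForm (F := F) (L := AdjoinRoot h₀)) (sympBilin 3 F) extForm_self
    extForm_sep sympBilin_self sympBilin_sep hWdim hVdim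
  let u₀ : V₆ := Pi.single (Sum.inl 0) 1
  let v₀ : V₆ := -Pi.single (Sum.inr 0) 1
  have huv₀ : sympBilin 3 F u₀ v₀ = 1 := by
    rw [sympBilin_apply, sympForm_eq_sum, Fin.sum_univ_three]; simp [u₀, v₀]
  have hcen : ∀ z ∈ Subgroup.center Sp₆, ∃ r : F, ∀ v, spLin z v = r • v := fun z hz => by
    rcases spLin_center (by norm_num) hz with h | h
    · exact ⟨1, fun v => by rw [h, one_smul]⟩
    · exact ⟨-1, fun v => by rw [h, neg_one_smul]⟩
  refine coveredByTwo_quotient (planeStab (Submodule.span F {u₀, v₀})) (semiSp e) (fun hH => ?_) (fun hK => ?_)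
    (fun z hz => ?_) (fun z hz => ?_) fun g => ?_
  · let t : V₆ := Pi.single (Sum.inl 0) 1 + Pi.single (Sum.inl 1) 1
    have hm : (⟨_, sympTransvection_mem t (1 : F)⟩ : Sp₆) ∈ planeStab (Submodule.span F {u₀, v₀}) :=
      hH ▸ Subgroup.mem_top _
    have h1 := (hm v₀).2 (Submodule.subset_span (by simp))
    rw [spLin_apply, sympTransvection_mulVec, sympBilin_apply, sympForm_eq_sum, Fin.sum_univ_three] at h1
    obtain ⟨r, s, hrs⟩ := Submodule.mem_span_pair.1 h1
    have := congrFun hrs (Sum.inl 1)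
    simp [u₀, v₀, t] at this
  · obtain ⟨c, hc⟩ : ∃ c : AdjoinRoot h₀, Algebra.trace F (AdjoinRoot h₀) c ≠ 0 := by
      by_contra hh
      push Not at hh
      exact Algebra.trace_ne_zero F (AdjoinRoot h₀) (LinearMap.ext hh)
    let t : V₆ := e (1, 0)
    obtain ⟨i, hi⟩ : (⟨_, sympTransvection_mem t (1 : F)⟩ : Sp₆) ∈ semiSp e := hK ▸ Subgroup.mem_top _
    have hT : ∀ z, e.symm (spLin (⟨_, sympTransvection_mem t (1 : F)⟩ : Sp₆) (e z)) =
        z + extForm (F := F) z (1, 0) • ((1, 0) : AdjoinRoot h₀ × AdjoinRoot h₀) := fun z => by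
      rw [spLin_apply, sympTransvection_mulVec, one_mul, he, map_add, map_smul, e.symm_apply_apply,
        e.symm_apply_apply]
    have hc1 : c ^ (Fintype.card F ^ i) = c := by
      have := hi c (1, 0)
      rw [hT, hT, extForm_self, zero_smul, add_zero, Prod.smul_mk, smul_zero,
        show extForm (F := F) ((c • (1 : AdjoinRoot h₀)), (0 : AdjoinRoot h₀)) (1, 0) = 0 by simp [extForm_apply]] at this
      simpa using (congrArg Prod.fst this).symm
    have := congrArg Prod.fst (hi c (0, 1))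
    have htr1 : Algebra.trace F (AdjoinRoot h₀) 1 = 0 := by
      rw [← map_one (algebraMap F (AdjoinRoot h₀)), Algebra.trace_algebraMap, hdim]
      simp [h3]
    rw [hT, hT, hc1] at this
    simp [extForm_apply, htr1] at this
    exact hc this
  · obtain ⟨r, hr⟩ := hcen z hz
    intro w
    rw [hr]
    refine ⟨fun h => ?_, fun h => Submodule.smul_mem _ _ h⟩
    rcases eq_or_ne r 0 with rfl | hr0
    · have := spLin_form z u₀ v₀
      simp [hr, huv₀] at this
    · exact (Submodule.smul_mem_iff _ hr0).1 h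
  · obtain ⟨r, hr⟩ := hcen z hz
    exact mem_semiSp.2 ⟨0, fun c x => by simp [hr, map_smul, smul_comm r c]⟩
  -- the covering
  suffices HasPlane (sympBilin 3 F) (spLin g) ∨ ∃ y : Sp₆, y * g * y⁻¹ ∈ semiSp e by
    rcases this with h | ⟨y, hy⟩
    · obtain ⟨x, hx⟩ := exists_conj_plane g huv₀ h
      exact ⟨x, Or.inl hx⟩
    · exact ⟨y, Or.inr hy⟩
  obtain ⟨π, hπ⟩ : ∃ π : AdjoinRoot h₀ ≃ₐ[F] AdjoinRoot h₀, ∀ x, π x = x ^ Fintype.card F :=
    ⟨FiniteField.frobeniusAlgEquivOfAlgebraic F (AdjoinRoot h₀), fun x => rfl⟩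
  have hπ3 : ∀ x, π (π (π x)) = x := fun x => by
    rw [hπ, hπ, hπ, ← pow_mul, ← pow_mul,
      show Fintype.card F * (Fintype.card F * Fintype.card F) = Fintype.card F ^ 3 by ring,
      ← Nat.card_eq_fintype_card, ← hdim, ← Module.natCard_eq_pow_finrank, Nat.card_eq_fintype_card,
      FiniteField.pow_card]
  have htrace : ∀ x, π (π x) + π x + x = algebraMap F _ (Algebra.trace F _ x) := fun x => by
    rw [FiniteField.algebraMap_trace_eq_sum_pow, hdim, Finset.sum_range_succ, Finset.sum_range_succ,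
      Finset.sum_range_one, Nat.card_eq_fintype_card, hπ, hπ, ← pow_mul, ← sq, pow_zero, pow_one, pow_one]
    ring
  have hL3 : (3 : AdjoinRoot h₀) = 0 := by
    rw [← map_ofNat (algebraMap F (AdjoinRoot h₀)) 3, h3, map_zero]
  haveI : CharP (AdjoinRoot h₀) 3 :=
    (CharP.charP_iff_prime_eq_zero Nat.prime_three).2 (by exact_mod_cast hL3)
  obtain ⟨y₀, hy₀⟩ : ∃ y : AdjoinRoot h₀, Algebra.trace F (AdjoinRoot h₀) y ≠ 0 := by
    by_contra hh
    push Not at hh
    exact Algebra.trace_ne_zero F (AdjoinRoot h₀) (LinearMap.ext hh)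
  have htau : algebraMap F (AdjoinRoot h₀) (Algebra.trace F _ y₀) ≠ 0 := by simpa using hy₀
  have hmodel : ∀ (M : (AdjoinRoot h₀ × AdjoinRoot h₀) → AdjoinRoot h₀ × AdjoinRoot h₀) (a b c d : AdjoinRoot h₀),
      (∀ x, M x = (π (a * x.1 + b * x.2), π (c * x.1 + d * x.2))) →
      ∀ (k : AdjoinRoot h₀) z, M (k • z) = k ^ (Fintype.card F ^ 1) • M z := by
    intro M a b c d hM k z
    rw [hM, hM, pow_one, ← hπ]
    simp only [Prod.smul_fst, Prod.smul_snd, smul_eq_mul, Prod.smul_mk, ← map_mul]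
    ext <;> simp <;> ring
  obtain ⟨G, hG, hGf⟩ := exists_equiv g
  have hGfun : (spLin g : V₆ → V₆) = G := funext fun v => (hG v).symm
  rw [hGfun]
  obtain ⟨T, hT⟩ : ∃ T : Module.End F V₆, T = (G : V₆ →ₗ[F] V₆) + (G.symm : V₆ →ₗ[F] V₆) := ⟨_, rfl⟩
  rcases shapes (sympBilin 3 F) sympBilin_self sympBilin_sep h2 hVdim (g := (G : V₆ →ₗ[F] V₆)) (T := T)
    (LinearMap.ext fun v => by simp [hT, map_add])
    (fun u v => by simp [hT, apply_adjoint _ G hGf, symm_adjoint _ G hGf]; ring) hirr hdeg with hpl | ⟨φ, hφ, hφg⟩ | ⟨s, hs⟩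
  · exact Or.inl hpl
  · -- a cubic field
    right
    obtain ⟨BK, hBa, hBs, hBt⟩ := exists_balanced (sympBilin 3 F) sympBilin_self h2 φ hφ sympBilin_sep
    haveI : Module.Finite (AdjoinRoot h₀) (Twist φ) := Module.Finite.of_restrictScalars_finite F _ _
    have hd : Module.finrank (AdjoinRoot h₀) (Twist φ) = 2 := by
      have h1 : Module.finrank F (AdjoinRoot h₀) * Module.finrank (AdjoinRoot h₀) (Twist φ) = Module.finrank F V₆ :=
        Module.finrank_mul_finrank F (AdjoinRoot h₀) (Twist φ)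
      rw [hdim, hVdim] at h1
      omega
    let D : (AdjoinRoot h₀ × AdjoinRoot h₀) →ₗ[AdjoinRoot h₀] (AdjoinRoot h₀ × AdjoinRoot h₀) →ₗ[AdjoinRoot h₀]
        AdjoinRoot h₀ := LinearMap.mk₂ _ (fun x y => x.1 * y.2 - x.2 * y.1)
      (fun x x' y => by simp; ring) (fun c x y => by simp; ring) (fun x y y' => by simp; ring)
      (fun c x y => by simp; ring)
    obtain ⟨ι, hι⟩ := exists_symp_isometry 2 BK D hBa hBs (fun x => by simp [D, mul_comm])
      (fun x hx => by
        have h1 := hx (0, 1); have h2 := hx (1, 0)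
        simp [D] at h1 h2
        exact Prod.ext h1 h2) hd (by simp)
    let x : V₆ ≃ₗ[F] (AdjoinRoot h₀ × AdjoinRoot h₀) := ι.restrictScalars F
    refine exists_conj_semi e he g (fun z => x (G (x.symm z))) x
      (fun u v => ?_) (fun v => by rw [hG]; simp) (i := 0) fun k z => ?_
    · rw [extForm_apply]
      exact (congrArg (Algebra.trace F _) (hι u v)).trans (hBt u v)
    · rw [pow_zero, pow_one]
      show ι (G (ι.symm (k • z))) = k • ι (G (ι.symm z))
      rw [map_smul]
      exact (congrArg ι (LinearMap.congr_fun (hφg k).eq (ι.symm z : V₆))).trans (map_smul ι k _)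
  -- a single eigenvalue of `g + g⁻¹`
  have hN : nil G s ^ 3 = 0 := by
    rw [show nil G s = T - algebraMap F _ s from LinearMap.ext fun v => by
      simp [hT, nil_apply, Module.algebraMap_end_apply], hs]
  by_cases hs4 : s ^ 2 = 4
  swap
  · by_cases hN2 : nil G s ^ 2 = 0
    · exact Or.inl (semi_plane _ sympBilin_self G hGf s sympBilin_sep h2 hVdim hs4 hN2)
    right
    obtain ⟨S, hS⟩ : ∃ S : AdjoinRoot h₀, S = algebraMap F _ s := ⟨_, rfl⟩
    have hπS : π S = S := by rw [hS, AlgEquiv.commutes]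
    have hsmul : ∀ z : AdjoinRoot h₀, s • z = S * z := fun z => by rw [hS, ← Algebra.smul_def]
    obtain ⟨M, hM, hMf⟩ := exists_model (F := F) π 0 (-1) 1 S (by ring)
    have hMi : ∀ x, M.symm x = (π (π (S * x.1 + x.2)), π (π (-x.1))) := fun x => M.injective (by
      rw [M.apply_symm_apply, hM]
      refine Prod.ext ?_ ?_ <;> simp [hπ3, hπS])
    obtain ⟨Δ, hΔ⟩ : ∃ Δ : Module.End F (AdjoinRoot h₀ × AdjoinRoot h₀), ∀ x, Δ x = (π x.1 - x.1, π x.2 - x.2) :=
      ⟨LinearMap.prodMap (π.toLinearMap - LinearMap.id) (π.toLinearMap - LinearMap.id), fun x => rfl⟩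
    obtain ⟨Y, hY⟩ : ∃ Y : Module.End F (AdjoinRoot h₀ × AdjoinRoot h₀),
        ∀ x, Y x = (s • (π x.1 + x.1) + π x.2, -π x.1 + s • x.2) :=
      ⟨LinearMap.prod
        (s • (π.toLinearMap + LinearMap.id) ∘ₗ LinearMap.fst F _ _ + π.toLinearMap ∘ₗ LinearMap.snd F _ _)
        (-(π.toLinearMap ∘ₗ LinearMap.fst F _ _) + s • LinearMap.snd F _ _), fun x => rfl⟩
    have hNM : nil M s = Δ * Y := LinearMap.ext fun x => by
      rw [Module.End.mul_apply, nil_apply, hM, hMi, hY, hΔ]
      refine Prod.ext ?_ ?_ <;> simp [hsmul, hπS, map_add, map_mul] <;> ring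
    have hcomm : Commute Δ Y := LinearMap.ext fun x => by
      rw [Module.End.mul_apply, Module.End.mul_apply, hY, hY, hΔ, hΔ]
      refine Prod.ext ?_ ?_ <;> simp [hsmul, hπS, map_add, map_mul] <;> ring
    have hΔ3 : Δ ^ 3 = 0 := LinearMap.ext fun x => by
      simp only [Module.End.pow_apply, Function.iterate_succ, Function.iterate_zero, Function.comp_apply, id, hΔ,
        LinearMap.zero_apply]
      refine Prod.ext ?_ ?_
      · simp [hπ3]; linear_combination (π x.1 - π (π x.1)) * hL3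
      · simp [hπ3]; linear_combination (π x.2 - π (π x.2)) * hL3
    have hM3 : nil M s ^ 3 = 0 := by rw [hNM, hcomm.mul_pow, hΔ3, zero_mul]
    have hM2 : nil M s ^ 2 ≠ 0 := fun h => by
      have := congrArg Prod.fst (LinearMap.congr_fun h (y₀, 0))
      rw [hNM, hcomm.mul_pow, Module.End.mul_apply] at this
      simp only [Module.End.pow_apply, Function.iterate_succ, Function.iterate_zero, Function.comp_apply, id, hY,
        hΔ, LinearMap.zero_apply, Prod.fst_zero] at this
      simp [hsmul, hπS, hπ3] at this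
      refine mul_ne_zero htau (show algebraMap F (AdjoinRoot h₀) (s ^ 2 - 4) ≠ 0 by
        simpa [sub_eq_zero] using fun hh => hs4 ((algebraMap F (AdjoinRoot h₀)).injective (by simpa using hh))) ?_
      rw [← htrace, map_sub, map_pow, map_ofNat, ← hS]
      linear_combination (norm := skip) this
      ring_nf
      linear_combination (-π (π y₀) + π (π y₀) * S ^ 2 - π y₀ - 2 * y₀) * hL3
    obtain ⟨c₁, hc₁⟩ := semi_conj _ sympBilin_self G hGf s sympBilin_sep h2 hVdim hs4 hN hN2
      (extForm (F := F) (L := AdjoinRoot h₀)) extForm_self extForm_sep M hMf hWdim hM3 hM2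
    let B₂ := (extForm (F := F) (L := AdjoinRoot h₀)).compl₁₂ (c₁ : V₆ →ₗ[F] _) (c₁ : V₆ →ₗ[F] _)
    obtain ⟨E, hE, hEf⟩ := SemiForms.exists_comm_no_one B₂ (sympBilin 3 F) G (ε := -1) (by ring)
      (fun u v => by rw [neg_one_mul]; exact swap B₂ (fun w => extForm_self _) v u)
      (fun u v => by rw [neg_one_mul, ← sympBilin_swap])
      (fun z hz => c₁.map_eq_zero_iff.1 (extForm_sep _ fun w => by
        obtain ⟨w, rfl⟩ := c₁.surjective w; exact hz w))
      sympBilin_sep (fun u v => by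
        show extForm (F := F) (c₁ (G u)) (c₁ (G v)) = _
        rw [hc₁, hc₁, hMf]; rfl)
      hGf (fun v hv => sub_inj G s h2 hs4 hN v hv)
    exact exists_conj_semi e he g M (E.trans c₁) (fun u v => hEf u v)
      (fun v => by rw [← hG]; simp [hE, hc₁]) (hmodel M _ _ _ _ hM)
  -- `± g` is unipotent
  have key : ∀ g' : Sp₆, ∀ G' : V₆ ≃ₗ[F] V₆, (∀ v, G' v = spLin g' v) → nil G' (2 : F) ^ 3 = 0 →
      HasPlane (sympBilin 3 F) G' ∨ ∃ y : Sp₆, y * g' * y⁻¹ ∈ semiSp e := by
    intro g' G' hG' hN'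
    have hGf' : ∀ u v, sympBilin 3 F (G' u) (G' v) = sympBilin 3 F u v := fun u v => by
      rw [hG', hG', spLin_form]
    rcases unip_cases _ sympBilin_self G' hGf' sympBilin_sep h2 hVdim hN' with hpl | ⟨hU, v, w, hfr⟩ | h5
    · exact Or.inl hpl
    · right
      obtain ⟨M, hM, hMf⟩ := exists_model (F := F) π 1 0 0 1 (by ring)
      have hMU : ∀ x, unip M x = (π x.1 - x.1, π x.2 - x.2) := fun x => by simp [unip_apply, hM, Prod.ext_iff]
      have hU' : ∀ x, unip M (unip M (unip M x)) = 0 := fun x => by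
        rw [hMU, hMU, hMU]
        refine Prod.ext ?_ ?_
        · simp [hπ3]; linear_combination (π x.1 - π (π x.1)) * hL3
        · simp [hπ3]; linear_combination (π x.2 - π (π x.2)) * hL3
      obtain ⟨v', w', hfr'⟩ := frame_exists _ extForm_self M hMf extForm_sep h2 hU' ⟨(y₀, 0), fun h => htau (by
        rw [hMU, hMU] at h
        have := congrArg Prod.fst h
        simp at this
        rw [← htrace]; linear_combination this + π y₀ * hL3)⟩
      obtain ⟨x, hx, hxf⟩ := frame_conj _ sympBilin_self G' hGf' h2 hVdim hU hfr _ extForm_self M hMf hWdim hU' hfr'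
      exact exists_conj_semi e he g' M x hxf (fun v => by rw [← hG', hx]) (hmodel M _ _ _ _ hM)
    · right
      obtain ⟨M, hM, hMf⟩ := exists_model (F := F) π 1 y₀ 0 1 (by ring)
      have hMU : ∀ x, unip M x = (π x.1 - x.1 + π (y₀ * x.2), π x.2 - x.2) := fun x => by
        simp [unip_apply, hM, Prod.ext_iff]; ring
      have hzero : ∀ z, π (π (π z - z) - (π z - z)) - (π (π z - z) - (π z - z)) = 0 := fun z => by
        simp [hπ3]; linear_combination (π z - π (π z)) * hL3
      have hiter : ∀ z, unip M (unip M (unip M (z, 0))) = 0 := fun z => by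
        rw [hMU, hMU, hMU]
        simp only [map_zero, sub_zero, mul_zero, add_zero]
        exact Prod.ext (by simpa using hzero z) rfl
      have hN2' : nil M (2 : F) ^ 3 = 0 := nil_cube_of_unip M fun x => by
        obtain ⟨z, hz⟩ : ∃ z, unip M (unip M (unip M x)) = (z, 0) := by
          refine ⟨_, Prod.ext rfl ?_⟩
          simp only [hMU]
          exact hzero x.2
        simp only [Module.End.pow_apply, Function.iterate_succ, Function.iterate_zero, Function.comp_apply, id, hz]
        exact hiter z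
      have hM5 : unip M ^ 5 ≠ 0 := fun h => mul_ne_zero htau htau (by
        have := congrArg Prod.fst (LinearMap.congr_fun h (0, y₀))
        simp only [Module.End.pow_apply, Function.iterate_succ, Function.iterate_zero, Function.comp_apply, id, hMU,
          LinearMap.zero_apply, Prod.fst_zero] at this
        rw [← htrace]
        linear_combination (norm := skip) this
        simp [hπ3, map_add, map_sub, map_mul]
        linear_combination (5 * (π (π y₀) * π y₀) - 3 * (π (π y₀) * y₀) + 3 * π (π y₀) ^ 2 - π y₀ * y₀ + 2 * π y₀ ^ 2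
          - 3 * y₀ ^ 2) * hL3)
      obtain ⟨x, ν, hν, hx, hxf⟩ := regular_conj _ sympBilin_self G' hGf' sympBilin_sep h2 hVdim hN' h5 _
        extForm_self extForm_sep M hMf hWdim hN2' hM5
      let r : AdjoinRoot h₀ := algebraMap F _ ν⁻¹
      have hr : r ≠ 0 := by simp [r, hν]
      let D : (AdjoinRoot h₀ × AdjoinRoot h₀) ≃ₗ[AdjoinRoot h₀] (AdjoinRoot h₀ × AdjoinRoot h₀) :=
        (LinearEquiv.refl _ _).prodCongr (LinearEquiv.smulOfUnit (Units.mk0 r hr))
      have hD : ∀ z, D z = (z.1, r * z.2) := fun z => rfl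
      refine exists_conj_semi e he g' (fun z => D (M (D.symm z))) (x.trans (D.restrictScalars F))
        (fun u v => ?_) (fun v => ?_) (i := 1) (fun k z => ?_)
      · simp only [LinearEquiv.trans_apply, LinearEquiv.restrictScalars_apply, hD, extForm_apply]
        have hh := hxf u v
        rw [extForm_apply] at hh
        rw [show (x u).1 * (r * (x v).2) - r * (x u).2 * (x v).1 =
          ν⁻¹ • ((x u).1 * (x v).2 - (x u).2 * (x v).1) by rw [Algebra.smul_def]; ring, map_smul, hh, smul_eq_mul,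
          inv_mul_cancel_left₀ hν]
      · simp [← hG', hx]
      · rw [map_smul, hmodel M _ _ _ _ hM, map_smul]
  have hs2 : s = 2 ∨ s = -2 := by
    have : (s - 2) * (s + 2) = 0 := by linear_combination hs4
    rcases mul_eq_zero.1 this with h | h
    · exact Or.inl (sub_eq_zero.1 h)
    · exact Or.inr (eq_neg_of_add_eq_zero_left h)
  rcases hs2 with rfl | rfl
  · exact key g G hG hN
  · obtain ⟨G', hG', -⟩ := exists_equiv (spNeg 3 F * g)
    have hneg : ∀ v, G' v = -G v := fun v => by rw [hG', spLin_spNeg_mul, hG]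
    have hneg' : ∀ v, G'.symm v = -G.symm v := fun v => G'.injective (by
      rw [G'.apply_symm_apply, hneg, map_neg, G.apply_symm_apply, neg_neg])
    have hN' : nil G' (2 : F) ^ 3 = 0 := by
      rw [show nil G' (2 : F) = -nil G (-2 : F) from LinearMap.ext fun v => by
        rw [LinearMap.neg_apply, nil_apply, nil_apply, hneg, hneg']; module]
      refine LinearMap.ext fun v => ?_
      have := LinearMap.congr_fun hN v
      simpa [Module.End.pow_apply] using this
    rcases key (spNeg 3 F * g) G' hG' hN' with ⟨P, hP, hnd, hinv⟩ | ⟨y, hy⟩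
    · exact Or.inl ⟨P, hP, hnd, fun x hx => by
        have := P.neg_mem (hinv x hx)
        rwa [hneg, neg_neg] at this⟩
    · refine Or.inr ⟨y, ?_⟩
      have hz : y * (spNeg 3 F * g) * y⁻¹ = spNeg 3 F * (y * g * y⁻¹) := by
        rw [← mul_assoc, Subgroup.mem_center_iff.1 spNeg_mem_center y]; group
      rw [hz] at hy
      refine (Subgroup.mul_mem_cancel_left _ ?_).1 hy
      exact mem_semiSp.2 ⟨0, fun c x => by simp [spLin_spNeg]⟩

end CfsgLib.NormalCover.SpSix
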