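import Mathlib
import Cfsg.Agent.Lib.NormalCover.Basic
import Cfsg.Agent.Lib.Geom.GUEquiv
import Cfsg.Agent.Lib.Geom.IsoStabHerm
import Cfsg.Agent.Lib.Geom.HermNorm
import Cfsg.Agent.Lib.Classical.SUCenter
import Cfsg.Agent.Lib.Classical.SemiUnitaryExists

/-!
`SU_n(q)` acting on its Hermitian space: determinants of isometries, roots of characteristic polynomials,
conjugation of points and of maximal totally isotropic planes.
-/

set_option autoImplicit false

namespace CfsgLib.NormalCover.Unitary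

open Matrix Polynomial CfsgLib.Classical CfsgLib.Geom

variable {F : Type*} [Field F] [Fintype F] {q : ℕ} (hF : Fintype.card F = q ^ 2) {n : ℕ}

local notation "Vn" => Fin n → F
local notation "B" => hermB hF n

include hF in
theorem exists_charExponent : ∃ p e : ℕ, p.Prime ∧ CharP F p ∧ q = p ^ e := by
  obtain ⟨p, hp⟩ := CharP.exists F
  obtain ⟨k, hpp, hk⟩ := FiniteField.card F p
  rw [hF] at hk
  obtain ⟨e, -, he⟩ := (Nat.dvd_prime_pow hpp).1 (hk ▸ dvd_pow_self q two_ne_zero)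
  exact ⟨p, e, hpp, hp, he⟩

include hF in
/-- The roots of the characteristic polynomial of a unitary matrix are closed under `θ ↦ θ^{-q}`. -/
theorem root_neg_q {A : GL (Fin n) F} (hA : A ∈ Cfsg.GU n F q) {L : Type*} [Field L] [Algebra F L] {θ : L}
    (hθ : aeval θ (A : Matrix (Fin n) (Fin n) F).charpoly = 0) :
    aeval (θ ^ q)⁻¹ (A : Matrix (Fin n) (Fin n) F).charpoly = 0 := by
  obtain ⟨p, e, hpp, hp, he⟩ := exists_charExponent hF
  haveI := Fact.mk hpp
  haveI : CharP L p := charP_of_injective_algebraMap (algebraMap F L).injective p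
  haveI : ExpChar L p := .prime hpp
  have hc := SemiUnitaryExists.coeff_zero_ne_zero A
  have hθ0 : θ ≠ 0 := by
    intro h
    rw [h, ← coeff_zero_eq_aeval_zero'] at hθ
    exact hc ((map_eq_zero _).1 hθ)
  haveI := invertibleOfNonzero hθ0
  have hr : eval₂ (algebraMap F L) θ⁻¹ (A : Matrix (Fin n) (Fin n) F).charpoly.reverse = 0 := by
    rw [← invOf_eq_inv, eval₂_reverse_eq_zero_iff, ← aeval_def, hθ]
  obtain ⟨φ, hφ⟩ : ∃ φ : L →+* L, φ = iterateFrobenius L p e := ⟨_, rfl⟩
  have hφa : ∀ x, φ x = x ^ q := fun x => by rw [hφ, iterateFrobenius_def, he]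
  rw [← SemiUnitaryExists.tilde_charpoly hF hA, SemiPalin.tilde, SemiPalin.srev, map_mul]
  refine mul_eq_zero_of_right _ ?_
  rw [aeval_def, eval₂_map, show (algebraMap F L).comp (qFrob hF) = φ.comp (algebraMap F L) from
    RingHom.ext fun x => by simp [hφa, qFrob_apply], ← inv_pow, ← hφa, ← Polynomial.hom_eval₂, hr, map_zero]

include hF in
/-- In the field of an irreducible factor `θ^{-q}` is a Galois conjugate `θ^{q^{2k}}`, and `2k ≡ 1`. -/
theorem exists_galois {A : GL (Fin n) F} (hA : A ∈ Cfsg.GU n F q)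
    (hi : Irreducible (A : Matrix (Fin n) (Fin n) F).charpoly)
    {L : Type*} [Field L] [Algebra F L] [Finite L] {θ : L} (hθ : aeval θ (A : Matrix (Fin n) (Fin n) F).charpoly = 0) :
    ∃ k : ℕ, (θ ^ q)⁻¹ = θ ^ (Nat.card F ^ k) ∧ θ ^ (Nat.card F ^ (2 * k)) = θ ^ Nat.card F ∧
      θ ^ (Nat.card F ^ n) = θ := by
  classical
  obtain ⟨p, e, hpp, hp, he⟩ := exists_charExponent hF
  haveI := Fact.mk hpp
  obtain ⟨f, hf⟩ : ∃ f, f = (A : Matrix (Fin n) (Fin n) F).charpoly := ⟨_, rfl⟩
  rw [← hf] at hi hθ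
  have hθ' : aeval (θ ^ q)⁻¹ f = 0 := by rw [hf]; exact root_neg_q hF hA (hf ▸ hθ)
  haveI : Fact (Irreducible f) := ⟨hi⟩
  haveI : Module.Finite F (AdjoinRoot f) := (AdjoinRoot.powerBasis hi.ne_zero).finite
  haveI : Finite (AdjoinRoot f) := Module.finite_of_finite F
  have hn : Module.finrank F (AdjoinRoot f) = n := by
    rw [(AdjoinRoot.powerBasis hi.ne_zero).finrank, AdjoinRoot.powerBasis_dim, hf, charpoly_natDegree_eq_dim,
      Fintype.card_fin]
  let ι : AdjoinRoot f →ₐ[F] L := AdjoinRoot.liftAlgHom f (Algebra.ofId F L) θ (by simpa [aeval_def] using hθ)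
  have hι : ι (AdjoinRoot.root f) = θ := AdjoinRoot.liftAlgHom_root _ _ _ _
  obtain ⟨r, hr⟩ : ∃ r, r = ((AdjoinRoot.root f) ^ q)⁻¹ := ⟨_, rfl⟩
  have hιr : ι r = (θ ^ q)⁻¹ := by rw [hr, map_inv₀, map_pow, hι]
  have hr0 : aeval r f = 0 := ι.toRingHom.injective (by
    show ι (aeval r f) = ι 0
    rw [← aeval_algHom_apply, hιr, hθ', map_zero])
  let g : AdjoinRoot f →ₐ[F] AdjoinRoot f :=
    AdjoinRoot.liftAlgHom f (Algebra.ofId F _) r (by simpa [aeval_def] using hr0)
  obtain ⟨k, hk⟩ := FiniteField.exists_forall_apply_eq_pow (p := p) (k := F) (AdjoinRoot f)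
    (AlgEquiv.ofBijective g (Finite.injective_iff_bijective.1 g.toRingHom.injective))
  have hrk : r = AdjoinRoot.root f ^ (Nat.card F ^ k) := by
    rw [← hk, AlgEquiv.ofBijective_apply]; exact (AdjoinRoot.liftAlgHom_root f _ r _).symm
  have hθk : (θ ^ q)⁻¹ = θ ^ (Nat.card F ^ k) := by rw [← hιr, hrk, map_pow, hι]
  have hQ : Nat.card F = q * q := by rw [Nat.card_eq_fintype_card, hF, sq]
  refine ⟨k, hθk, ?_, ?_⟩
  · rw [two_mul, pow_add, pow_mul, ← hθk, inv_pow, ← pow_mul, mul_comm q, pow_mul, ← hθk, inv_pow, inv_inv,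
      ← pow_mul, hQ]
  · rw [← hι, ← map_pow]
    congr 1
    have hc : Nat.card (AdjoinRoot f) = Nat.card F ^ n := by rw [Module.natCard_eq_pow_finrank (K := F), hn]
    haveI := Fintype.ofFinite (AdjoinRoot f)
    rw [← hc, Nat.card_eq_fintype_card, FiniteField.pow_card]

include hF in
/-- A unitary matrix of degree two or four has reducible characteristic polynomial. -/
theorem not_irreducible_of_even {A : GL (Fin n) F} (hA : A ∈ Cfsg.GU n F q) (hn : n = 2 ∨ n = 4) :
    ¬ Irreducible (A : Matrix (Fin n) (Fin n) F).charpoly := by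
  intro hi
  obtain ⟨f, hf⟩ : ∃ f, f = (A : Matrix (Fin n) (Fin n) F).charpoly := ⟨_, rfl⟩
  haveI : Fact (Irreducible f) := ⟨hf ▸ hi⟩
  haveI : Module.Finite F (AdjoinRoot f) := (AdjoinRoot.powerBasis (hf ▸ hi).ne_zero).finite
  haveI : Finite (AdjoinRoot f) := Module.finite_of_finite F
  haveI := Fintype.ofFinite (AdjoinRoot f)
  obtain ⟨k, -, h2k, hn'⟩ := exists_galois hF hA hi (θ := AdjoinRoot.root f) (by
    rw [← hf, AdjoinRoot.aeval_eq, AdjoinRoot.mk_self])
  obtain ⟨p, e, hpp, hp, he⟩ := exists_charExponent hF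
  haveI := Fact.mk hpp
  haveI : ExpChar F p := .prime hpp
  obtain ⟨Q, hQ⟩ : ∃ Q, Q = Nat.card F := ⟨_, rfl⟩
  rw [← hQ] at h2k hn'
  generalize hθ : AdjoinRoot.root f = θ at h2k hn'
  have hQn : ∀ j, θ ^ (Q ^ (j * n)) = θ := fun j => by
    induction j with
    | zero => simp
    | succ j ih => rw [Nat.succ_mul, pow_add, pow_mul, ih, hn']
  -- `θ ^ (Q ^ (2k)) = θ ^ Q` with `2k ≢ 1` forces `θ ∈ F`
  have h : θ ^ Q = θ := by
    have h1 : θ ^ (Q ^ (2 * k + 3)) = θ ^ (Q ^ 4) := by
      rw [pow_add, pow_mul, h2k, ← pow_mul]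
      congr 1
      ring
    have h4 : θ ^ (Q ^ 4) = θ := by
      rcases hn with rfl | rfl
      · simpa using hQn 2
      · simpa using hQn 1
    rw [h4] at h1
    have hmul : ∀ j, θ ^ (Q ^ (4 * j)) = θ := fun j => by
      induction j with
      | zero => simp
      | succ j ih => rw [Nat.mul_succ, pow_add, pow_mul, ih, h4]
    obtain ⟨j, hj | hj⟩ : ∃ j, 2 * k + 3 = 4 * j + 1 ∨ 2 * k + 3 = 4 * j + 3 := ⟨(2 * k + 3) / 4, by omega⟩
    · rw [hj, pow_add, pow_mul, hmul, pow_one] at h1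
      exact h1
    · rw [hj, pow_add, pow_mul, hmul] at h1
      calc θ ^ Q = (θ ^ Q ^ 3) ^ Q := by rw [h1]
        _ = θ ^ Q ^ 4 := by rw [← pow_mul]; congr 1
        _ = θ := h4
  obtain ⟨c, hc⟩ : θ ∈ (algebraMap F (AdjoinRoot f)).range := by
    have hb : θ ∈ (⊥ : IntermediateField F (AdjoinRoot f)) := (IsGalois.mem_bot_iff_fixed θ).2 fun σ => by
      obtain ⟨j, hj⟩ := FiniteField.exists_forall_apply_eq_pow (p := p) (k := F) (AdjoinRoot f) σ
      rw [hj, ← hQ]
      clear hj
      induction j with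
      | zero => simp
      | succ j ih => rw [pow_succ, pow_mul, ih, h]
    exact IntermediateField.mem_bot.1 hb
  have hroot : f.IsRoot c := by
    have h0 := AdjoinRoot.mk_self (f := f)
    rw [← AdjoinRoot.aeval_eq, hθ, ← hc, aeval_algebraMap_apply] at h0
    exact (map_eq_zero _).1 h0
  have h1 := degree_eq_one_of_irreducible_of_root Fact.out hroot
  have h2 : f.natDegree = 1 := natDegree_eq_of_degree_eq_some h1
  rw [hf, charpoly_natDegree_eq_dim, Fintype.card_fin] at h2
  omega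


/-! ### `SU` as a group of isometries -/

/-- The action of `SU` on its Hermitian space. -/
noncomputable def suHom : Cfsg.SU n F q →* (Vn ≃ₗ[F] Vn) :=
  (glLin (ι := Fin n) (F := F)).toMonoidHom.comp
    ((Matrix.SpecialLinearGroup.toGL).comp (Cfsg.SU n F q).subtype)

omit [Fintype F] in
theorem suHom_apply (g : Cfsg.SU n F q) (v : Vn) :
    suHom g v = (g.1 : Matrix (Fin n) (Fin n) F) *ᵥ v := rfl

include hF in
theorem suHom_isom (g : Cfsg.SU n F q) (u v : Vn) : B (suHom g u) (suHom g v) = B u v := by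
  rw [hermB_apply, hermB_apply]
  exact g.2 v u

omit [Fintype F] in
theorem det_suHom (g : Cfsg.SU n F q) : LinearMap.det (suHom g : Vn →ₗ[F] Vn) = 1 := by
  have : (suHom g : Vn →ₗ[F] Vn) = Matrix.toLin' (g.1 : Matrix (Fin n) (Fin n) F) := LinearMap.ext fun v => rfl
  rw [this, LinearMap.det_toLin', g.1.2]

include hF in
theorem exists_su (T : Vn →ₗ[F] Vn) (he : ∀ u v, B (T u) (T v) = B u v) (hd : LinearMap.det T = 1) :
    ∃ g : Cfsg.SU n F q, ∀ v, suHom g v = T v := by
  refine ⟨⟨⟨LinearMap.toMatrix' T, by rw [LinearMap.det_toMatrix', hd]⟩, fun u v => ?_⟩,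
    fun v => LinearMap.toMatrix'_mulVec T v⟩
  show Cfsg.hermForm n F q (LinearMap.toMatrix' T *ᵥ u) (LinearMap.toMatrix' T *ᵥ v) = _
  rw [LinearMap.toMatrix'_mulVec, LinearMap.toMatrix'_mulVec, ← hermB_apply hF, he, hermB_apply]

include hF in
theorem det_isom_norm (T : Vn →ₗ[F] Vn) (he : ∀ u v, B (T u) (T v) = B u v) :
    LinearMap.det T * qFrob hF (LinearMap.det T) = 1 := by
  obtain ⟨g, hg, hgT⟩ := exists_mem_formIsoms (B) (hermB_sep hF) T he
  rw [← map_gu hF n] at hg
  obtain ⟨A, hA, rfl⟩ := hg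
  have hT : T = Matrix.toLin' (A : Matrix (Fin n) (Fin n) F) := LinearMap.ext fun v => (hgT v).symm
  have h1 := congrArg Matrix.det ((mem_gu_iff hF A).1 hA)
  rw [det_mul, det_transpose, det_one, ← RingHom.mapMatrix_apply, ← RingHom.map_det] at h1
  rw [hT, LinearMap.det_toLin', h1]

/-- The subgroup mapping a subspace onto itself. -/
noncomputable def subStab (W : Submodule F Vn) : Subgroup (Cfsg.SU n F q) :=
  Subgroup.comap suHom
    { carrier := {e | ∀ w, e w ∈ W ↔ w ∈ W}
      mul_mem' := fun {a b} ha hb w => (ha (b w)).trans (hb w)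
      one_mem' := fun w => Iff.rfl
      inv_mem' := fun {a} ha w => by
        have h := ha (a⁻¹ w)
        rw [← LinearEquiv.mul_apply, mul_inv_cancel] at h
        exact h.symm }

omit [Fintype F] in
theorem mem_subStab {W : Submodule F Vn} {g : Cfsg.SU n F q} (h : ∀ w ∈ W, suHom g w ∈ W) :
    g ∈ subStab W := by
  refine fun w => ⟨fun hw => ?_, h w⟩
  have hmap : W.map (suHom g : Vn →ₗ[F] Vn) = W := by
    refine Submodule.eq_of_le_of_finrank_eq (Submodule.map_le_iff_le_comap.2 h) ?_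
    exact LinearEquiv.finrank_map_eq _ _
  rw [← hmap] at hw
  obtain ⟨u, hu, he⟩ := hw
  rwa [← (suHom g).injective he]

omit [Fintype F] in
/-- Conjugating by an element mapping an invariant subspace into `W₀`. -/
theorem conj_mem_subStab {W W₀ : Submodule F Vn} (g x : Cfsg.SU n F q) (hg : ∀ w ∈ W, suHom g w ∈ W)
    (hx : ∀ w, suHom x w ∈ W₀ ↔ w ∈ W) : x * g * x⁻¹ ∈ subStab W₀ := by
  refine mem_subStab fun w hw => ?_
  obtain ⟨u, rfl⟩ := (suHom x).surjective w
  have : suHom (x * g * x⁻¹) (suHom x u) = suHom x (suHom g u) := by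
    rw [← LinearEquiv.mul_apply, ← LinearEquiv.mul_apply, ← map_mul, ← map_mul]
    group
  rw [this]
  exact (hx _).2 (hg u ((hx u).1 hw))

include hF in
/-- Isometries of a totally singular plane or a non-singular point inside the stabiliser have every determinant. -/
theorem exists_det_fix (d : F) (hd : d * qFrob hF d = 1) (W : Submodule F Vn)
    (hW : (∃ v, B v v ≠ 0 ∧ W = F ∙ v) ∨ ((∀ u ∈ W, ∀ v ∈ W, B u v = 0) ∧ W ≠ ⊥)) :
    ∃ T : Vn →ₗ[F] Vn, (∀ u v, B (T u) (T v) = B u v) ∧ (∀ w ∈ W, T w ∈ W) ∧ LinearMap.det T = d := by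
  have hS := fun u v => hermB_conj (n := n) hF u v
  rcases hW with ⟨v, hv, rfl⟩ | ⟨hW, hW0⟩
  · refine ⟨LinearMap.transvection ((B v v)⁻¹ • B v) ((d - 1) • v), fun a b => ?_, fun w hw => ?_, ?_⟩
    · simp only [LinearMap.transvection.apply, LinearMap.smul_apply, smul_eq_mul, map_add,
        LinearMap.add_apply, LinearMap.map_smulₛₗ, map_smul, map_mul, map_inv₀, hS v v, map_sub, map_one, hS,
        RingHom.id_apply]
      field_simp
      linear_combination (B a v * B v b) * hd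
    · obtain ⟨c, rfl⟩ := Submodule.mem_span_singleton.1 hw
      rw [LinearMap.transvection.apply]
      exact Submodule.add_mem _ (Submodule.smul_mem _ _ (Submodule.mem_span_singleton_self v))
        (Submodule.smul_mem _ _ (Submodule.smul_mem _ _ (Submodule.mem_span_singleton_self v)))
    · simp only [LinearMap.transvection.det, LinearMap.smul_apply, smul_eq_mul, map_smul]
      field_simp
      ring
  · obtain ⟨w, hw, hw0⟩ := Submodule.exists_mem_ne_zero_of_ne_bot hW0
    obtain ⟨f₁, hf₁⟩ : ∃ f₁, B w f₁ ≠ 0 := by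
      by_contra h; push Not at h; exact hw0 (hermB_sep hF w h)
    obtain ⟨f₀, hf₀⟩ : ∃ f₀, B w f₀ = 1 :=
      ⟨(B w f₁)⁻¹ • f₁, by rw [map_smul, smul_eq_mul, inv_mul_cancel₀ hf₁]⟩
    obtain ⟨t₀, ht₀⟩ := exists_qFrob_trace_one hF
    have hww := hW w hw w hw
    have hf0w : B f₀ w = 1 := by rw [← hS w f₀, hf₀, map_one]
    obtain ⟨f, hwf, hfw, hff⟩ : ∃ f, B w f = 1 ∧ B f w = 1 ∧ B f f = 0 := by
      refine ⟨f₀ + (-(B f₀ f₀ * t₀)) • w, ?_, ?_, ?_⟩ <;>
        simp only [map_add, LinearMap.add_apply, LinearMap.map_smulₛₗ, LinearMap.smul_apply, map_smul,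
          smul_eq_mul, map_neg, map_mul, hS f₀ f₀, hf₀, hf0w, hww, mul_one, mul_zero, add_zero, zero_add,
          RingHom.id_apply]
      linear_combination -(B f₀ f₀) * ht₀
    obtain ⟨x, hx, hxd⟩ := exists_div_conj (qFrob_ne_id hF) (qFrob_qFrob hF) hd
    have hx' : qFrob hF x ≠ 0 := by simpa using hx
    have hdx : d = x * (qFrob hF x)⁻¹ := by rw [eq_mul_inv_iff_mul_eq₀ hx', hxd]
    refine ⟨(LinearMap.transvection (B w) (((qFrob hF x)⁻¹ - 1) • f)) ∘ₗ
      (LinearMap.transvection (B f) ((x - 1) • w)), fun a b => ?_, fun u hu => ?_, ?_⟩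
    · simp only [LinearMap.comp_apply, LinearMap.transvection.apply, map_add, LinearMap.add_apply,
        LinearMap.map_smulₛₗ, LinearMap.smul_apply, map_smul, smul_eq_mul, map_mul, map_sub, map_one, map_inv₀,
        qFrob_qFrob hF, hS, hwf, hfw, hww, hff, map_zero, mul_one, mul_zero, zero_mul, add_zero, zero_add, RingHom.id_apply]
      field_simp
      ring
    · simp only [LinearMap.comp_apply, LinearMap.transvection.apply, map_add, map_smul, smul_eq_mul, hww,
        hW w hw u hu, mul_zero, add_zero, zero_smul]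
      exact Submodule.add_mem _ hu (Submodule.smul_mem _ _ (Submodule.smul_mem _ _ hw))
    · rw [LinearMap.det_comp, LinearMap.transvection.det, LinearMap.transvection.det, map_smul, map_smul,
        hfw, hwf, hdx]
      simp only [smul_eq_mul, mul_one]
      ring

include hF in
/-- An isometry can be corrected to one of determinant one mapping `W` onto `W₀`. -/
theorem exists_su_map {W W₀ : Submodule F Vn} (hd : Module.finrank F W = Module.finrank F W₀)
    (φ : W ≃ₗ[F] W₀) (hφ : ∀ u v : W, B (φ u : Vn) (φ v : Vn) = B (u : Vn) (v : Vn))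
    (hW : (∃ v, B v v ≠ 0 ∧ W₀ = F ∙ v) ∨ ((∀ u ∈ W₀, ∀ v ∈ W₀, B u v = 0) ∧ W₀ ≠ ⊥)) :
    ∃ x : Cfsg.SU n F q, ∀ w, suHom x w ∈ W₀ ↔ w ∈ W := by
  obtain ⟨e, he, heφ⟩ := hasWittExt_hermB hF n W (W₀.subtype ∘ₗ φ.toLinearMap)
    (Subtype.val_injective.comp φ.injective) hφ
  have hnorm := det_isom_norm hF (e : Vn →ₗ[F] Vn) he
  have hne : LinearMap.det (e : Vn →ₗ[F] Vn) ≠ 0 := (LinearEquiv.isUnit_det' e).ne_zero
  obtain ⟨T, hT, hTW, hTd⟩ := exists_det_fix hF (LinearMap.det (e : Vn →ₗ[F] Vn))⁻¹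
    (by rw [map_inv₀, ← mul_inv, hnorm, inv_one]) W₀ hW
  obtain ⟨x, hx⟩ := exists_su hF (T ∘ₗ (e : Vn →ₗ[F] Vn))
    (fun u v => by simp only [LinearMap.comp_apply, LinearEquiv.coe_coe, hT, he u v])
    (by rw [LinearMap.det_comp, hTd, inv_mul_cancel₀ hne])
  have hmaps : W.map (suHom x : Vn →ₗ[F] Vn) = W₀ := by
    refine Submodule.eq_of_le_of_finrank_eq (Submodule.map_le_iff_le_comap.2 fun w hw => ?_)
      (by rw [← hd]; exact LinearEquiv.finrank_map_eq _ _)
    rw [Submodule.mem_comap, LinearEquiv.coe_coe, hx]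
    show T (e w) ∈ W₀
    rw [heφ ⟨w, hw⟩]
    exact hTW _ (φ ⟨w, hw⟩).2
  refine ⟨x, fun w => ⟨fun h => ?_, fun h => hmaps ▸ Submodule.mem_map_of_mem h⟩⟩
  rw [← hmaps] at h
  obtain ⟨u, hu, he⟩ := h
  rwa [← (suHom x).injective he]

include hF in
/-- An element with a non-singular eigenvector is conjugate into the stabiliser of a non-singular point. -/
theorem exists_conj_point (g : Cfsg.SU n F q) {v v₀ : Vn} (hv : B v v ≠ 0) (hv₀ : B v₀ v₀ ≠ 0)
    (μ : F) (hgv : suHom g v = μ • v) : ∃ x : Cfsg.SU n F q, x * g * x⁻¹ ∈ subStab (F ∙ v₀) := by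
  have hv' : v ≠ 0 := by rintro rfl; simp at hv
  have hv₀' : v₀ ≠ 0 := by rintro rfl; simp at hv₀
  obtain ⟨c, hc⟩ := exists_norm_eq (qFrob_ne_id hF) (qFrob_qFrob hF)
    (c := B v v / B v₀ v₀) (by rw [map_div₀, hermB_conj, hermB_conj])
  have hc0 : c ≠ 0 := fun h => div_ne_zero hv hv₀ (by rw [← hc, h, zero_mul])
  have hs : c • v₀ ∈ F ∙ v₀ := Submodule.smul_mem _ _ (Submodule.mem_span_singleton_self v₀)
  have hspan : (F ∙ v₀) = F ∙ (c • v₀) := (Submodule.span_singleton_smul_eq hc0.isUnit v₀).symm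
  have hcc : c • v₀ ≠ 0 := smul_ne_zero hc0 hv₀'
  obtain ⟨x, hx⟩ := exists_su_map (n := n) hF (W := F ∙ v) (W₀ := F ∙ (c • v₀))
    (by rw [finrank_span_singleton hv', finrank_span_singleton hcc])
    ((LinearEquiv.toSpanNonzeroSingleton F Vn v hv').symm.trans
      (LinearEquiv.toSpanNonzeroSingleton F Vn _ hcc))
    (fun a b => by
      obtain ⟨s, rfl⟩ := (LinearEquiv.toSpanNonzeroSingleton F Vn v hv').surjective a
      obtain ⟨t, rfl⟩ := (LinearEquiv.toSpanNonzeroSingleton F Vn v hv').surjective b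
      rw [LinearEquiv.trans_apply, LinearEquiv.trans_apply, LinearEquiv.symm_apply_apply,
        LinearEquiv.symm_apply_apply, LinearEquiv.toSpanNonzeroSingleton_apply,
        LinearEquiv.toSpanNonzeroSingleton_apply, LinearEquiv.toSpanNonzeroSingleton_apply,
        LinearEquiv.toSpanNonzeroSingleton_apply]
      simp only [LinearMap.map_smulₛₗ, LinearMap.smul_apply, map_smul, smul_eq_mul, RingHom.id_apply]
      rw [eq_div_iff hv₀] at hc
      linear_combination (qFrob hF s * t) * hc)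
    (Or.inl ⟨v₀, hv₀, hspan.symm⟩)
  rw [hspan]
  refine ⟨x, conj_mem_subStab g x (fun w hw => ?_) hx⟩
  obtain ⟨a, rfl⟩ := Submodule.mem_span_singleton.1 hw
  rw [map_smul, hgv]
  exact Submodule.smul_mem _ _ (Submodule.smul_mem _ _ (Submodule.mem_span_singleton_self v))

include hF in
/-- An element fixing a totally singular subspace is conjugate into the stabiliser of one of the same dimension. -/
theorem exists_conj_totally_singular (g : Cfsg.SU n F q) {W W₀ : Submodule F Vn}
    (hW : ∀ u ∈ W, ∀ v ∈ W, B u v = 0) (hW₀ : ∀ u ∈ W₀, ∀ v ∈ W₀, B u v = 0) (h0 : W₀ ≠ ⊥)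
    (hd : Module.finrank F W = Module.finrank F W₀) (hg : ∀ w ∈ W, suHom g w ∈ W) :
    ∃ x : Cfsg.SU n F q, x * g * x⁻¹ ∈ subStab W₀ := by
  obtain ⟨x, hx⟩ := exists_su_map hF hd (LinearEquiv.ofFinrankEq _ _ hd)
    (fun u v => by rw [hW₀ _ (Subtype.coe_prop _) _ (Subtype.coe_prop _), hW _ u.2 _ v.2])
    (Or.inr ⟨hW₀, h0⟩)
  exact ⟨x, conj_mem_subStab g x hg hx⟩

include hF in
/-- Central elements of `SU` are scalar. -/
theorem center_scalar (hn : 2 ≤ n) {z : Cfsg.SU n F q} (hz : z ∈ Subgroup.center (Cfsg.SU n F q)) :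
    ∃ c : F, ∀ v, suHom z v = c • v := by
  classical
  have hq := two_le_of_card_sq hF
  -- an element of norm one which is not its own inverse
  obtain ⟨u, hu, hu2⟩ : ∃ u : Fˣ, u ^ (q + 1) = 1 ∧ u ^ 2 ≠ 1 := by
    obtain ⟨g, hg⟩ := IsCyclic.exists_generator (α := Fˣ)
    have hord : orderOf g = (q - 1) * (q + 1) := by
      rw [orderOf_eq_card_of_forall_mem_zpowers hg, units_card_sq hF]
    refine ⟨g ^ (q - 1), by rw [← pow_mul, ← hord, pow_orderOf_eq_one], fun h => ?_⟩
    rw [← pow_mul, ← orderOf_dvd_iff_pow_eq_one, hord] at h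
    have := Nat.le_of_dvd (by omega) (Nat.dvd_of_mul_dvd_mul_left (by omega) h)
    omega
  have key : ∀ A ∈ Subgroup.center (Cfsg.SU n F q),
      (A.1 : Matrix (Fin n) (Fin n) F) = Matrix.scalar (Fin n) ((A.1 : Matrix (Fin n) (Fin n) F) ⟨0, by omega⟩ ⟨0, by omega⟩) := by
    intro A hA
    have hoff : ∀ i j, i ≠ j → (A.1 : Matrix (Fin n) (Fin n) F) i j = 0 := by
      intro i j hij
      obtain ⟨s, hs⟩ := diagonal_mem_su hF
        (fun k => if k = i then (u : F) else if k = j then (u : F)⁻¹ else 1)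
        (fun k => by
          have h := congrArg Units.val hu
          simp only [Units.val_pow_eq_pow_val, Units.val_one] at h
          split_ifs
          · exact h
          · rw [inv_pow, h, inv_one]
          · exact one_pow _)
        (by
          rw [Finset.prod_eq_mul_prod_sdiff_singleton_of_mem (Finset.mem_univ i)]
          rw [Finset.prod_eq_single_of_mem j (by simp [hij.symm])]
          · simp [hij.symm]
          · intro b hb hbj
            simp only [Finset.mem_sdiff, Finset.mem_singleton] at hb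
            simp [hb.2, hbj])
      have hc := congrArg (fun g : Cfsg.SU n F q => (g.1 : Matrix (Fin n) (Fin n) F) i j)
        (Subgroup.mem_center_iff.1 hA s)
      simp only [Subgroup.coe_mul, Matrix.SpecialLinearGroup.coe_mul, hs, Matrix.diagonal_mul,
        Matrix.mul_diagonal, if_true, if_neg hij.symm] at hc
      have hne : (u : F) ≠ (u : F)⁻¹ := by
        intro h
        apply hu2
        ext
        rw [Units.val_pow_eq_pow_val, Units.val_one, sq]
        nth_rw 2 [h]
        exact mul_inv_cancel₀ u.ne_zero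
      exact (mul_eq_zero.1 (show ((u : F) - (u : F)⁻¹) * (A.1 : Matrix (Fin n) (Fin n) F) i j = 0 by
        linear_combination hc)).resolve_left (sub_ne_zero.2 hne)
    have hdiag : ∀ i j, (A.1 : Matrix (Fin n) (Fin n) F) i i = (A.1 : Matrix (Fin n) (Fin n) F) j j := by
      intro i j
      rcases eq_or_ne i j with rfl | hij
      · rfl
      obtain ⟨s, hs⟩ := signed_swap_mem_su hF hij
      have hc := congrArg (fun g : Cfsg.SU n F q => ((g.1 : Matrix (Fin n) (Fin n) F) *ᵥ Pi.single j 1) i)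
        (Subgroup.mem_center_iff.1 hA s)
      have hmul : ∀ (v : Fin n → F) (k : Fin n),
          ((A.1 : Matrix (Fin n) (Fin n) F) *ᵥ v) k = (A.1 : Matrix (Fin n) (Fin n) F) k k * v k := by
        intro v k
        rw [Matrix.mulVec, dotProduct, Finset.sum_eq_single k]
        · intro b _ hb; rw [hoff k b (Ne.symm hb), zero_mul]
        · simp
      simp only [Subgroup.coe_mul, Matrix.SpecialLinearGroup.coe_mul, ← Matrix.mulVec_mulVec, hs, hmul,
        Pi.single_eq_same, if_true, mul_one] at hc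
      exact hc.symm
    ext i j
    rcases eq_or_ne i j with rfl | hij
    · simp [hdiag i ⟨0, by omega⟩]
    · simp [hoff i j hij, hij]
  refine ⟨(z.1 : Matrix (Fin n) (Fin n) F) ⟨0, by omega⟩ ⟨0, by omega⟩, fun v => ?_⟩
  rw [suHom_apply, key z hz, Matrix.scalar_apply, Pi.smul_def]
  funext k
  simp [Matrix.mulVec_diagonal]

include hF in
theorem center_le_subStab (hn : 2 ≤ n) (W : Submodule F Vn) :
    Subgroup.center (Cfsg.SU n F q) ≤ subStab W := fun _ hz => by
  obtain ⟨c, hc⟩ := center_scalar hF hn hz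
  exact mem_subStab fun w hw => by rw [hc]; exact W.smul_mem c hw

end CfsgLib.NormalCover.Unitary
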