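import Mathlib
import Cfsg.Agent.Lib.NormalCover.Unitary

/-!
`PSU_4(q)` is covered by the conjugates of the stabilisers of a non-singular point and of a totally singular
line.
-/

set_option autoImplicit false

namespace CfsgLib.NormalCover.Unitary

open Matrix Polynomial CfsgLib.Classical CfsgLib.Geom

variable {F : Type*} [Field F] [Fintype F] {q : ℕ} (hF : Fintype.card F = q ^ 2)

local notation "V₄" => Fin 4 → F
local notation "B" => hermB hF 4

omit [Fintype F] in
theorem finrank_span_pair {V : Type*} [AddCommGroup V] [Module F V] {x y : V}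
    (hli : LinearIndependent F ![x, y]) : Module.finrank F (Submodule.span F {x, y}) = 2 := by
  have h := finrank_span_eq_card hli
  rwa [Matrix.range_cons_cons_empty, Fintype.card_fin] at h

include hF in
/-- An isometry of a non-degenerate plane has an eigenvector. -/
theorem exists_eigen_plane {n : ℕ} (P : Submodule F (Fin n → F)) (hP : Module.finrank F P = 2)
    (hnd : ∀ x ∈ P, (∀ y ∈ P, hermB hF n x y = 0) → x = 0) (T : P →ₗ[F] P)
    (hT : ∀ x y : P, hermB hF n (T x : Fin n → F) (T y : Fin n → F) = hermB hF n (x : Fin n → F) (y : Fin n → F)) :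
    ∃ (u : P) (μ : F), u ≠ 0 ∧ T u = μ • u := by
  obtain ⟨BP, hBP⟩ : ∃ BP : P →ₛₗ[qFrob hF] P →ₗ[F] F, ∀ x y : P, BP x y = hermB hF n (x : Fin n → F) (y : Fin n → F) :=
    ⟨LinearMap.mk₂'ₛₗ (qFrob hF) (RingHom.id F) (fun p r : P => hermB hF n (p : Fin n → F) (r : Fin n → F))
      (fun _ _ _ => by simp) (fun _ _ _ => by simp) (fun _ _ _ => by simp) (fun _ _ _ => by simp), fun x y => rfl⟩
  obtain ⟨e, he⟩ := exists_isometry_hermB hF 2 BP (fun u v => by rw [hBP, hBP, hermB_conj])
    (fun x hx => Subtype.ext (hnd _ x.2 fun y hy => by rw [← hBP x ⟨y, hy⟩]; exact hx _)) hP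
  obtain ⟨T', hT'⟩ : ∃ T' : (Fin 2 → F) →ₗ[F] (Fin 2 → F), ∀ x, T' x = e (T (e.symm x)) :=
    ⟨e.toLinearMap ∘ₗ T ∘ₗ e.symm.toLinearMap, fun x => rfl⟩
  have hiso : ∀ x y, hermB hF 2 (T' x) (T' y) = hermB hF 2 x y := fun x y => by
    rw [hT', hT', he, hBP, hT, ← hBP, ← he, LinearEquiv.apply_symm_apply, LinearEquiv.apply_symm_apply]
  obtain ⟨g, hg, hgT⟩ := exists_mem_formIsoms _ (hermB_sep hF) T' hiso
  rw [← map_gu hF 2] at hg
  obtain ⟨A, hA, rfl⟩ := hg
  have hred := not_irreducible_of_even hF hA (Or.inl rfl)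
  rw [irreducible_iff_roots_eq_zero_of_degree_le_three (by rw [charpoly_natDegree_eq_dim]; simp)
    (by rw [charpoly_natDegree_eq_dim]; simp)] at hred
  obtain ⟨μ, hμ⟩ := Multiset.exists_mem_of_ne_zero hred
  rw [mem_roots (charpoly_monic _).ne_zero, IsRoot.def, eval_charpoly] at hμ
  obtain ⟨x, hx, hx0⟩ := exists_mulVec_eq_zero_iff.2 hμ
  rw [sub_mulVec, sub_eq_zero, scalar_apply, ← smul_one_eq_diagonal, smul_mulVec, one_mulVec] at hx0
  refine ⟨e.symm x, μ, by simpa using hx, e.injective ?_⟩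
  rw [← hT', map_smul, LinearEquiv.apply_symm_apply, hx0]
  exact (hgT x).symm

include hF in
theorem psu_four_cases (g : Cfsg.SU 4 F q) :
    (∃ (v : V₄) (μ : F), B v v ≠ 0 ∧ suHom g v = μ • v) ∨
      ∃ W : Submodule F V₄, Module.finrank F W = 2 ∧ (∀ u ∈ W, ∀ v ∈ W, B u v = 0) ∧ ∀ w ∈ W, suHom g w ∈ W := by
  classical
  have hS := fun u v => hermB_conj (n := 4) hF u v
  have hiso := suHom_isom hF g
  by_cases heig : ∃ (v : V₄) (μ : F), v ≠ 0 ∧ suHom g v = μ • v
  · obtain ⟨v, lam, hv0, hgv⟩ := heig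
    by_cases hvv : B v v = 0
    swap
    · exact Or.inl ⟨v, lam, hvv, hgv⟩
    have hl0 : lam ≠ 0 := fun h => hv0 ((suHom g).injective (by rw [hgv, h, zero_smul, map_zero]))
    -- a singular partner of `v`
    obtain ⟨f, hvf, hff⟩ : ∃ f, B v f = 1 ∧ B f f = 0 := by
      obtain ⟨f₁, hf₁⟩ : ∃ f₁, B v f₁ ≠ 0 := by
        by_contra h; push Not at h; exact hv0 (hermB_sep hF v h)
      obtain ⟨f₀, hf₀⟩ : ∃ f₀, B v f₀ = 1 :=
        ⟨(B v f₁)⁻¹ • f₁, by rw [map_smul, smul_eq_mul, inv_mul_cancel₀ hf₁]⟩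
      have hf0w : B f₀ v = 1 := by rw [← hS v f₀, hf₀, map_one]
      obtain ⟨t₀, ht₀⟩ := exists_qFrob_trace_one hF
      refine ⟨f₀ + (-(B f₀ f₀ * t₀)) • v, ?_, ?_⟩ <;>
        simp only [map_add, LinearMap.add_apply, LinearMap.map_smulₛₗ, LinearMap.smul_apply, map_smul,
          smul_eq_mul, map_neg, map_mul, hS f₀ f₀, hf₀, hf0w, hvv, mul_one, mul_zero, add_zero,
          RingHom.id_apply]
      linear_combination -(B f₀ f₀) * ht₀
    have hfv : B f v = 1 := by rw [← hS v f, hvf, map_one]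
    obtain ⟨P, hP⟩ : ∃ P : Submodule F V₄, ∀ z, z ∈ P ↔ B v z = 0 ∧ B f z = 0 :=
      ⟨LinearMap.ker (B v) ⊓ LinearMap.ker (B f), fun z => Iff.rfl⟩
    have hdecP : ∀ z, z - B v z • f - B f z • v ∈ P := fun z => by
      simp [hP, hvf, hff, hvv, hfv]
    have hPdim : Module.finrank F P = 2 := by
      let L : V₄ →ₗ[F] F × F := (B v).prod (B f)
      have hsurj : Function.Surjective L := fun c => ⟨c.1 • f + c.2 • v, by
        simp [L, hvf, hff, hvv, hfv]⟩
      have h := L.finrank_range_add_finrank_ker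
      rw [LinearMap.range_eq_top.2 hsurj, finrank_top, Module.finrank_prod, Module.finrank_self,
        Module.finrank_fin_fun] at h
      rw [show P = LinearMap.ker L from Submodule.ext fun z => by simp [hP, L, Prod.ext_iff]]
      omega
    have hnd : ∀ x ∈ P, (∀ y ∈ P, B x y = 0) → x = 0 := fun x hx h => hermB_sep hF x fun y => by
      have := h _ (hdecP y)
      have hxv : B x v = 0 := by rw [← hS v x, ((hP x).1 hx).1, map_zero]
      have hxf : B x f = 0 := by rw [← hS f x, ((hP x).1 hx).2, map_zero]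
      simpa [hxv, hxf] using this
    have hperp : ∀ z, B v z = 0 → B v (suHom g z) = 0 := fun z hz => by
      have h := hiso v z
      rw [hgv, hz, LinearMap.map_smulₛₗ, LinearMap.smul_apply, smul_eq_mul] at h
      exact (mul_eq_zero.1 h).resolve_left (by simpa using hl0)
    -- the induced isometry of `P`
    obtain ⟨T, hT⟩ : ∃ T : P →ₗ[F] P, ∀ z : P, (T z : V₄) = suHom g (z : V₄) - B f (suHom g (z : V₄)) • v := by
      let T0 : P →ₗ[F] V₄ := (LinearMap.id - (B f).smulRight v) ∘ₗ (suHom g : V₄ →ₗ[F] V₄) ∘ₗ P.subtype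
      refine ⟨LinearMap.codRestrict P T0 fun z => (hP _).2 ⟨?_, ?_⟩, fun z => rfl⟩ <;>
        simp [T0, hperp _ ((hP _).1 z.2).1, hvv, hfv]
    have hTiso : ∀ x y : P, B (T x : V₄) (T y : V₄) = B (x : V₄) (y : V₄) := fun x y => by
      have hx := hperp _ ((hP _).1 x.2).1
      have hy := hperp _ ((hP _).1 y.2).1
      have hx' : B (suHom g (x : V₄)) v = 0 := by rw [← hS v, hx, map_zero]
      simp [hT, hiso, hy, hx', hvv]
    -- every eigenvector of the induced map decides
    have key : ∀ (u : P) (μ : F), u ≠ 0 → T u = μ • u → (B (u : V₄) (u : V₄) = 0 ∨ μ ≠ lam) →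
        (∃ (w : V₄) (μ : F), B w w ≠ 0 ∧ suHom g w = μ • w) ∨
          ∃ W : Submodule F V₄, Module.finrank F W = 2 ∧ (∀ u ∈ W, ∀ w ∈ W, B u w = 0) ∧
            ∀ w ∈ W, suHom g w ∈ W := by
      intro u μ hu hTu hor
      obtain ⟨a, hgu⟩ : ∃ a : F, suHom g (u : V₄) = μ • (u : V₄) + a • v := ⟨B f (suHom g (u : V₄)), by
        rw [← Submodule.coe_smul, ← hTu, hT, sub_add_cancel]⟩
      have hvu : B v (u : V₄) = 0 := ((hP _).1 u.2).1
      have huv : B (u : V₄) v = 0 := by rw [← hS v, hvu, map_zero]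
      by_cases huu : B (u : V₄) (u : V₄) = 0
      · refine Or.inr ⟨Submodule.span F {(u : V₄), v}, ?_, fun x hx y hy => ?_, fun x hx => ?_⟩
        · have hli : LinearIndependent F ![(u : V₄), v] := by
            refine (LinearIndependent.pair_iff' (by simpa using hu)).2 fun c hc => ?_
            have h := congrArg (B f) hc
            rw [map_smul, ((hP _).1 u.2).2, smul_zero, hfv] at h
            exact zero_ne_one h
          exact finrank_span_pair hli
        · obtain ⟨a₁, b₁, rfl⟩ := Submodule.mem_span_pair.1 hx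
          obtain ⟨a₂, b₂, rfl⟩ := Submodule.mem_span_pair.1 hy
          simp [huu, huv, hvu, hvv]
        · obtain ⟨a₁, b₁, rfl⟩ := Submodule.mem_span_pair.1 hx
          exact Submodule.mem_span_pair.2 ⟨a₁ * μ, a₁ * a + b₁ * lam, by
            rw [map_add, map_smul, map_smul, hgu, hgv]; module⟩
      · have hne : μ - lam ≠ 0 := sub_ne_zero.2 (hor.resolve_left huu)
        refine Or.inl ⟨(u : V₄) + (a / (μ - lam)) • v, μ, by simpa [huv, hvu, hvv] using huu, ?_⟩
        rw [map_add, map_smul, hgu, hgv]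
        match_scalars <;> field_simp <;> ring
    obtain ⟨u, μ, hu, hTu⟩ := exists_eigen_plane hF P hPdim hnd T hTiso
    by_cases hor : B (u : V₄) (u : V₄) = 0 ∨ μ ≠ lam
    · exact key u μ hu hTu hor
    push Not at hor
    obtain ⟨huu, rfl⟩ := hor
    -- the orthogonal of `u` in `P`
    let M : P →ₗ[F] F := (B (u : V₄)) ∘ₗ P.subtype
    have hM : Module.finrank F (LinearMap.ker M) = 1 := by
      have h := Module.Dual.finrank_ker_add_one_of_ne_zero (f := M) (fun h => huu (LinearMap.congr_fun h u))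
      omega
    obtain ⟨w, hw, hw0⟩ := Submodule.exists_mem_ne_zero_of_ne_bot (p := LinearMap.ker M)
      (fun h => by rw [h, finrank_bot] at hM; omega)
    have huw : B (u : V₄) (w : V₄) = 0 := hw
    have hwu : B (w : V₄) (u : V₄) = 0 := by rw [← hS (u : V₄), huw, map_zero]
    have hline : ∀ z : P, B (u : V₄) (z : V₄) = 0 → ∃ c : F, c • w = z := fun z hz => by
      obtain ⟨c, hc⟩ := (finrank_eq_one_iff_of_nonzero' (⟨w, hw⟩ : LinearMap.ker M) (by simpa using hw0)).1 hM ⟨z, hz⟩
      exact ⟨c, congrArg Subtype.val hc⟩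
    have hww : B (w : V₄) (w : V₄) ≠ 0 := by
      intro hww
      refine hw0 (Subtype.ext (hnd _ w.2 fun y hy => ?_))
      obtain ⟨c, hc⟩ := hline (⟨y, hy⟩ - (B (u : V₄) y / B (u : V₄) (u : V₄)) • u) (by simp [huu])
      have := congrArg (fun z : P => B (w : V₄) (z : V₄)) hc
      simpa [hww, hwu] using this.symm
    obtain ⟨ν, hν⟩ := hline (T w) (by
      have h := hTiso u w
      rw [hTu, huw, Submodule.coe_smul, LinearMap.map_smulₛₗ, LinearMap.smul_apply, smul_eq_mul] at h
      exact (mul_eq_zero.1 h).resolve_left (by simpa using hl0))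
    by_cases hνl : ν ≠ μ
    · exact key w ν hw0 hν.symm (Or.inr hνl)
    push Not at hνl
    -- `T` is scalar, so there is a singular eigenvector
    obtain ⟨c, hc⟩ := exists_norm_eq (qFrob_ne_id hF) (qFrob_qFrob hF)
      (c := -(B (u : V₄) (u : V₄) / B (w : V₄) (w : V₄))) (by rw [map_neg, map_div₀, hS, hS])
    refine key (u + c • w) μ (fun h => huu ?_) (by rw [map_add, map_smul, hTu, ← hν, hνl]; module) (Or.inl ?_)
    · have := congrArg (fun z : P => B (u : V₄) (z : V₄)) h
      simpa [huw] using this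
    · simp [huw, hwu]
      rw [eq_comm, neg_eq_iff_eq_neg, div_eq_iff hww] at hc
      linear_combination hc
  · -- no eigenvector: an invariant plane
    push Not at heig
    obtain ⟨A, hA⟩ : ∃ A : GL (Fin 4) F, A = Matrix.SpecialLinearGroup.toGL g.1 := ⟨_, rfl⟩
    have hAGU : A ∈ Cfsg.GU 4 F q := hA ▸ g.2
    obtain ⟨M, hM⟩ : ∃ M : Matrix (Fin 4) (Fin 4) F, M = (A : Matrix (Fin 4) (Fin 4) F) := ⟨_, rfl⟩
    have hMv : ∀ v, M *ᵥ v = suHom g v := fun v => by rw [hM, hA]; rfl
    have hred : ¬ Irreducible M.charpoly := hM ▸ not_irreducible_of_even hF hAGU (Or.inr rfl)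
    have hnoroot : ∀ μ, ¬ M.charpoly.IsRoot μ := fun μ hμ => by
      rw [IsRoot.def, eval_charpoly] at hμ
      obtain ⟨x, hx, hx0⟩ := exists_mulVec_eq_zero_iff.2 hμ
      rw [sub_mulVec, sub_eq_zero, scalar_apply, ← smul_one_eq_diagonal, smul_mulVec, one_mulVec, hMv] at hx0
      exact heig x μ hx hx0.symm
    have hm : M.charpoly.Monic := charpoly_monic _
    have hd : M.charpoly.natDegree = 4 := by rw [charpoly_natDegree_eq_dim, Fintype.card_fin]
    rw [hm.irreducible_iff_natDegree' ] at hred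
    push Not at hred
    obtain ⟨f₁, f₂, h₁, h₂, hmul, hdeg⟩ := hred (fun h => by rw [h, natDegree_one] at hd; omega)
    rw [hd, Finset.mem_Ioc] at hdeg
    have hsum : f₁.natDegree + f₂.natDegree = 4 := by rw [← h₁.natDegree_mul h₂, hmul, hd]
    have h2 : f₁.natDegree = 2 ∧ f₂.natDegree = 2 := by
      have : f₂.natDegree ≠ 1 := fun h => by
        obtain ⟨μ, hμ⟩ := Polynomial.exists_root_of_degree_eq_one (degree_eq_natDegree h₂.ne_zero |>.trans (by rw [h]; rfl))
        exact hnoroot μ (hmul ▸ root_mul_left_of_isRoot f₁ hμ)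
      omega
    have hprod : Matrix.toLin' (aeval M f₁) ∘ₗ Matrix.toLin' (aeval M f₂) = 0 := by
      rw [← Matrix.toLin'_mul, ← map_mul, hmul, aeval_self_charpoly, map_zero]
    obtain ⟨f₀, hf₀m, hf₀d, w, hw, hw0⟩ : ∃ f₀ : F[X], f₀.Monic ∧ f₀.natDegree = 2 ∧
        ∃ w : V₄, w ≠ 0 ∧ aeval M f₀ *ᵥ w = 0 := by
      by_cases h : ∃ w : V₄, w ≠ 0 ∧ aeval M f₂ *ᵥ w = 0
      · exact ⟨f₂, h₂, h2.2, h⟩
      · push Not at h
        have hone : (Pi.single 0 1 : V₄) ≠ 0 := by simp
        exact ⟨f₁, h₁, h2.1, _, h _ hone, LinearMap.congr_fun hprod _⟩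
    obtain ⟨a, b, hab⟩ : ∃ a b : F, suHom g (suHom g w) = a • suHom g w + b • w := by
      refine ⟨-f₀.coeff 1, -f₀.coeff 0, ?_⟩
      rw [hf₀m.as_sum, hf₀d] at hw0
      simp [Finset.sum_range_succ, add_mulVec, sq, ← mulVec_mulVec, hMv, smul_mulVec,
        Algebra.algebraMap_eq_smul_one] at hw0
      linear_combination (norm := module) hw0
    obtain ⟨P, hP⟩ : ∃ P : Submodule F V₄, P = Submodule.span F {w, suHom g w} := ⟨_, rfl⟩
    have hinv : ∀ z ∈ P, suHom g z ∈ P := fun z hz => by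
      rw [hP, Submodule.mem_span_pair] at hz ⊢
      obtain ⟨r, s, rfl⟩ := hz
      exact ⟨s * b, r + s * a, by rw [map_add, map_smul, map_smul, hab]; module⟩
    have hPdim : Module.finrank F P = 2 := by
      have hli : LinearIndependent F ![w, suHom g w] :=
        (LinearIndependent.pair_iff' hw).2 fun c hc => heig w c hw hc.symm
      rw [hP]; exact finrank_span_pair hli
    by_cases hts : ∀ u ∈ P, ∀ v ∈ P, B u v = 0
    · exact Or.inr ⟨P, hPdim, hts, hinv⟩
    exfalso
    by_cases hnd : ∀ x ∈ P, (∀ y ∈ P, B x y = 0) → x = 0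
    · obtain ⟨u, μ, hu, hTu⟩ := exists_eigen_plane hF P hPdim hnd
        ((suHom g : V₄ →ₗ[F] V₄).restrict hinv) (fun x y => hiso _ _)
      exact heig u μ (by simpa using hu) (congrArg Subtype.val hTu)
    push Not at hnd hts
    obtain ⟨x, hxP, hxperp, hx0⟩ := hnd
    -- the radical is an invariant point
    obtain ⟨u, huP, v, hvP, huv⟩ := hts
    let R : Submodule F V₄ := Submodule.span F {x}
    have hsurj : ∀ y ∈ P, ∃ y' ∈ P, suHom g y' = y := fun y hy => by
      have hmap : P.map (suHom g : V₄ →ₗ[F] V₄) = P :=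
        Submodule.eq_of_le_of_finrank_eq (Submodule.map_le_iff_le_comap.2 hinv) (LinearEquiv.finrank_map_eq _ _)
      rw [← hmap] at hy
      exact hy
    have hgx : ∀ y ∈ P, B (suHom g x) y = 0 := fun y hy => by
      obtain ⟨y', hy', rfl⟩ := hsurj y hy
      rw [hiso, hxperp y' hy']
    refine heig x _ hx0 (Exists.choose_spec (p := fun c : F => suHom g x = c • x) ?_)
    by_contra hno
    push Not at hno
    have hli : LinearIndependent F ![x, suHom g x] :=
      (LinearIndependent.pair_iff' hx0).2 fun c hc => hno c hc.symm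
    have hspan : Submodule.span F {x, suHom g x} = P := by
      refine Submodule.eq_of_le_of_finrank_eq (Submodule.span_le.2 ?_) ?_
      · exact Set.insert_subset hxP (Set.singleton_subset_iff.2 (hinv x hxP))
      · rw [hPdim]; exact finrank_span_pair hli
    rw [← hspan, Submodule.mem_span_pair] at huP
    obtain ⟨r, s, rfl⟩ := huP
    exact huv (by simp [hxperp v hvP, hgx v hvP])

include hF in
/-- `PSU_4(q)` is covered by two classes of proper subgroups. -/
theorem psu_four_covered : CoveredByTwo (Cfsg.PSU 4 F q) := by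
  classical
  obtain ⟨a, ha⟩ := exists_norm_eq (qFrob_ne_id hF) (qFrob_qFrob hF) (c := (-1 : F)) (by rw [map_neg, map_one])
  let p₁ : V₄ := ![1, a, 0, 0]
  let p₂ : V₄ := ![0, 0, 1, a]
  have hB : ∀ u v : V₄, B u v =
      v 0 * qFrob hF (u 0) + v 1 * qFrob hF (u 1) + v 2 * qFrob hF (u 2) + v 3 * qFrob hF (u 3) := fun u v => by
    rw [hermB_apply, Cfsg.hermForm, Fin.sum_univ_four, qFrob_apply, qFrob_apply, qFrob_apply, qFrob_apply]
  let W₀ : Submodule F V₄ := Submodule.span F {p₁, p₂}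
  have hW₀ : ∀ u ∈ W₀, ∀ v ∈ W₀, B u v = 0 := by
    intro u hu v hv
    obtain ⟨r, s, rfl⟩ := Submodule.mem_span_pair.1 hu
    obtain ⟨r', s', rfl⟩ := Submodule.mem_span_pair.1 hv
    rw [hB]
    simp [p₁, p₂]
    linear_combination (r' * qFrob hF r + s' * qFrob hF s) * ha
  have hW₀d : Module.finrank F W₀ = 2 := by
    have hli : LinearIndependent F ![p₁, p₂] :=
      (LinearIndependent.pair_iff' (fun h => by simpa [p₁] using congrFun h 0)).2
        fun c hc => by simpa [p₁, p₂] using congrFun hc 2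
    exact finrank_span_pair hli
  have he : B (Pi.single 0 1 : V₄) (Pi.single 0 1) ≠ 0 := by rw [hB]; simp
  refine coveredByTwo_quotient (subStab (F ∙ (Pi.single 0 1 : V₄))) (subStab W₀) (fun h => ?_) (fun h => ?_)
    (center_le_subStab hF (by norm_num) _) (center_le_subStab hF (by norm_num) _) fun g => ?_
  · obtain ⟨s, hs⟩ := signed_swap_mem_su hF (i := (0 : Fin 4)) (j := 1) (by decide)
    have hm : s ∈ subStab (F ∙ (Pi.single 0 1 : V₄)) := h ▸ Subgroup.mem_top s
    have := (hm (Pi.single 0 1)).2 (Submodule.mem_span_singleton_self _)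
    obtain ⟨c, hc⟩ := Submodule.mem_span_singleton.1 this
    have := congrFun hc 1
    rw [suHom_apply, hs] at this
    simp at this
  · obtain ⟨s, hs⟩ := signed_swap_mem_su hF (i := (0 : Fin 4)) (j := 2) (by decide)
    have hm : s ∈ subStab W₀ := h ▸ Subgroup.mem_top s
    have := (hm p₁).2 (Submodule.subset_span (by simp))
    obtain ⟨r, t, hrt⟩ := Submodule.mem_span_pair.1 this
    have h0 := congrFun hrt 0
    have h1 := congrFun hrt 1
    rw [suHom_apply, hs] at h0 h1
    simp [p₁, p₂] at h0 h1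
    rw [h0, zero_mul] at h1
    rw [← h1, zero_mul] at ha
    exact neg_ne_zero.2 one_ne_zero ha.symm
  · rcases psu_four_cases hF g with ⟨v, μ, hv, hgv⟩ | ⟨W, hd, hW, hgW⟩
    · obtain ⟨x, hx⟩ := exists_conj_point hF g hv he μ hgv
      exact ⟨x, Or.inl hx⟩
    · obtain ⟨x, hx⟩ := exists_conj_totally_singular hF g hW hW₀
        (fun h => by rw [h, finrank_bot] at hW₀d; omega) (hd.trans hW₀d.symm) hgW
      exact ⟨x, Or.inr hx⟩

end CfsgLib.NormalCover.Unitary
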