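import Mathlib
import Cfsg.Agent.Lib.NormalCover.Unitary
import Cfsg.Agent.Lib.NormalCover.Field

/-!
`PSU_3(3^a)` is covered by the conjugates of the stabiliser of a non-singular point and of the group of
semilinear isometries of `GF(q^6)`.
-/

set_option autoImplicit false

namespace CfsgLib.NormalCover.Unitary

open Matrix Polynomial CfsgLib.Classical CfsgLib.Geom

variable {F : Type*} [Field F] [Fintype F] {q : ℕ} (hF : Fintype.card F = q ^ 2)

local notation "V₃" => Fin 3 → F
local notation "B" => hermB hF 3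

omit [Fintype F] in
/-- An irreducible polynomial over a finite field has a root in every extension of a multiple degree. -/
theorem exists_root_extension [Finite F] {L : Type*} [Field L] [Algebra F L] [Finite L] {f : F[X]}
    (hf : Irreducible f) (hd : f.natDegree ∣ Module.finrank F L) : ∃ θ : L, aeval θ f = 0 := by
  haveI : Fintype F := Fintype.ofFinite F
  haveI := Fintype.ofFinite L
  haveI : Module.Finite F L := Module.Finite.of_finite
  have hsp : (f.map (algebraMap F L)).Splits := by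
    refine Splits.of_dvd (g := (X ^ Nat.card L - X : L[X])) ?_ ?_ ?_
    · rw [Nat.card_eq_fintype_card, splits_iff_card_roots, FiniteField.roots_X_pow_card_sub_X,
        FiniteField.X_pow_card_sub_X_natDegree_eq _ Fintype.one_lt_card]
      rfl
    · exact FiniteField.X_pow_card_sub_X_ne_zero _ Finite.one_lt_card
    · have := Polynomial.map_dvd (algebraMap F L) ((hf.natDegree_dvd_iff_dvd_X_pow_card_pow_sub_X).1 hd)
      rw [Polynomial.map_sub, Polynomial.map_pow, map_X] at this
      rwa [Module.natCard_eq_pow_finrank (K := F)]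
  obtain ⟨x, hx⟩ := hsp.exists_eval_eq_zero (by
    rw [degree_map]; exact (Polynomial.degree_pos_of_irreducible hf).ne')
  exact ⟨x, by rwa [eval_map_algebraMap] at hx⟩

omit [Fintype F] in
/-- Linear maps with a cyclic vector of the same order three unipotent type are conjugate. -/
theorem exists_conj_cyclic (h3 : (3 : F) = 0) (T S : V₃ →ₗ[F] V₃) {y z : V₃} (hT : T (T (T y)) = y)
    (hS : S (S (S z)) = z) (hy : T (T y) + T y + y ≠ 0) (hz : S (S z) + S z + z ≠ 0) :
    ∃ e : V₃ ≃ₗ[F] V₃, ∀ v, e (T v) = S (e v) := by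
  have hli : ∀ (R : V₃ →ₗ[F] V₃) (w : V₃), R (R (R w)) = w → R (R w) + R w + w ≠ 0 →
      LinearIndependent F ![w, R w, R (R w)] := fun R w hR hw => by
    rw [Fintype.linearIndependent_iff]
    intro c hc
    rw [Fin.sum_univ_three] at hc
    simp at hc
    have h1 := congrArg R hc
    have h2 := congrArg R h1
    simp [hR] at h1 h2
    have e0 : (c 0 + c 1 + c 2) • (R (R w) + R w + w) = 0 := by
      linear_combination (norm := module) hc + h1 + h2
    have s0 := (smul_eq_zero.1 e0).resolve_right hw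
    have hc2 : c 2 = -(c 0 + c 1) := by linear_combination s0
    -- apply `R - 1`
    have e1 : (c 1 - c 0) • (R (R w) + R w + w) = 0 := by
      rw [hc2] at hc h1
      linear_combination (norm := skip) hc - h1
      match_scalars <;> first | linear_combination (c 0) * h3 | linear_combination (c 1) * h3 |
        linear_combination (c 0 + c 1) * h3 | linear_combination -(c 0 + c 1) * h3 |
        linear_combination -(c 0) * h3 | linear_combination -(c 1) * h3 | ring
    have s1 : c 1 = c 0 := sub_eq_zero.1 ((smul_eq_zero.1 e1).resolve_right hw)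
    have hc0 : c 2 = c 0 := by rw [hc2, s1]; linear_combination -(c 0) * h3
    rw [s1, hc0, ← smul_add, ← smul_add] at hc
    have h0 : c 0 = 0 := (smul_eq_zero.1 hc).resolve_right (by rwa [add_comm (w + R w), add_comm w, ← add_assoc])
    intro i
    fin_cases i <;> simp [h0, s1, hc0]
  let b := basisOfLinearIndependentOfCardEqFinrank (hli T y hT hy) (by simp)
  let b' := basisOfLinearIndependentOfCardEqFinrank (hli S z hS hz) (by simp)
  have he : ∀ i, b.equiv b' (Equiv.refl _) (b i) = b' i := fun i => Module.Basis.equiv_apply ..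
  refine ⟨b.equiv b' (Equiv.refl _), LinearMap.congr_fun (?_ : (b.equiv b' (Equiv.refl _) : V₃ →ₗ[F] V₃) ∘ₗ T =
    S ∘ₗ (b.equiv b' (Equiv.refl _) : V₃ →ₗ[F] V₃))⟩
  refine b.ext fun i => ?_
  have h0 := he 0
  have h1 := he 1
  have h2 := he 2
  simp [b, b'] at h0 h1 h2
  fin_cases i <;> simp [b, b', h0, h1, h2, hT, hS]

include hF in
/-- An isometry conjugate to `S` by a linear map is conjugate to it within `SU`. -/
theorem exists_su_conj {a : ℕ} (ha : 1 ≤ a) (hq : q = 3 ^ a) (g : Cfsg.SU 3 F q) (S : V₃ →ₗ[F] V₃)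
    (hS : ∀ u v, B (S u) (S v) = B u v) (e : V₃ ≃ₗ[F] V₃) (he : ∀ v, e (suHom g v) = S (e v)) :
    ∃ x : Cfsg.SU 3 F q, ∀ v, suHom (x * g * x⁻¹) v = S v := by
  obtain ⟨S', hS', hSS⟩ := exists_mem_formIsoms (B) (hermB_sep hF) S hS
  rw [← map_gu hF 3] at hS'
  obtain ⟨C, hC, rfl⟩ := hS'
  obtain ⟨X, hX⟩ := (glLin (ι := Fin 3) (F := F)).surjective e
  have hint : X * Matrix.SpecialLinearGroup.toGL g.1 = C * X := by
    refine (glLin (ι := Fin 3) (F := F)).injective (LinearEquiv.ext fun v => ?_)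
    rw [map_mul, map_mul, LinearEquiv.mul_apply, LinearEquiv.mul_apply, hX]
    exact (he v).trans (hSS (e v)).symm
  obtain ⟨Y, hY, hYg⟩ := SemiUnitary.exists_unitary_intertwine hF (A := Matrix.SpecialLinearGroup.toGL g.1)
    g.2 hC X hint
  have hYiso : glLin Y ∈ formIsoms (B) := by rw [← map_gu hF 3]; exact ⟨Y, hY, rfl⟩
  have hnorm := det_isom_norm hF (glLin Y : V₃ →ₗ[F] V₃) hYiso
  obtain ⟨d, hd⟩ : ∃ d, d = LinearMap.det (glLin Y : V₃ →ₗ[F] V₃) := ⟨_, rfl⟩
  rw [← hd] at hnorm
  have hd0 : d ≠ 0 := left_ne_zero_of_mul_eq_one hnorm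
  obtain ⟨j, hj⟩ : ∃ j, a = j + 1 := ⟨a - 1, by omega⟩
  obtain ⟨c, hc⟩ : ∃ c, c = d ^ (3 ^ j) := ⟨_, rfl⟩
  have hcn : c * qFrob hF c = 1 := by rw [hc, map_pow, ← mul_pow, hnorm, one_pow]
  have hc3 : c ^ 3 * d = 1 := by
    rw [hc, ← pow_mul, show 3 ^ j * 3 = q by rw [hq, hj, pow_succ], ← qFrob_apply hF, mul_comm, hnorm]
  obtain ⟨x, hx⟩ := exists_su hF (c • (glLin Y : V₃ →ₗ[F] V₃))
    (fun u v => by
      simp only [LinearMap.smul_apply, LinearMap.map_smulₛₗ, map_smul, smul_eq_mul, LinearEquiv.coe_coe,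
        hYiso u v, RingHom.id_apply]
      linear_combination (B u v) * hcn)
    (by rw [LinearMap.det_smul, Module.finrank_fin_fun, ← hd, hc3])
  refine ⟨x, fun v => ?_⟩
  obtain ⟨w, rfl⟩ := (suHom x).surjective v
  have h1 : suHom (x * g * x⁻¹) (suHom x w) = suHom x (suHom g w) := by
    rw [← LinearEquiv.mul_apply, ← LinearEquiv.mul_apply, ← map_mul, ← map_mul]
    group
  have h2 : glLin Y (suHom g w) = glLin C (glLin Y w) := by
    show glLin Y (glLin (Matrix.SpecialLinearGroup.toGL g.1) w) = _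
    rw [← LinearEquiv.mul_apply, ← map_mul, hYg, map_mul]
    rfl
  rw [h1, hx, hx, LinearMap.smul_apply, LinearMap.smul_apply, map_smul, LinearEquiv.coe_coe, h2]
  exact congrArg _ (hSS _)

variable {L : Type*} [Field L] [Algebra F L]

/-- The semilinear maps of `L`, transported by `e`. -/
def semiGroup (e : L ≃ₗ[F] V₃) [Finite L] : Subgroup (Cfsg.SU 3 F q) :=
  let M : Submonoid (Cfsg.SU 3 F q) :=
    { carrier := {g | ∃ (κ : L) (i : ℕ), ∀ x : L, suHom g (e x) = e (κ * x ^ (Fintype.card F ^ i))}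
      mul_mem' := fun {g h} ⟨κ, i, hg⟩ ⟨μ, j, hh⟩ => ⟨κ * μ ^ (Fintype.card F ^ i), j + i, fun x => by
        rw [map_mul, LinearEquiv.mul_apply, hh, hg, mul_pow, ← pow_mul, ← pow_add, mul_assoc]⟩
      one_mem' := ⟨1, 0, fun x => by simp⟩ }
  { M with
    inv_mem' := fun {g} hg => by
      have h : g⁻¹ = g ^ (orderOf g - 1) := by
        refine inv_eq_of_mul_eq_one_right ?_
        rw [← pow_succ', Nat.sub_add_cancel (orderOf_pos g), pow_orderOf_eq_one]
      exact h.symm ▸ M.pow_mem hg _ }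

include hF in
/-- `PSU_3(3^a)` is covered by two classes of proper subgroups. -/
theorem psu_three_covered {a : ℕ} (ha : 1 ≤ a) (hq : q = 3 ^ a) : CoveredByTwo (Cfsg.PSU 3 F q) := by
  classical
  obtain ⟨p, e₀, hpp, hp, he₀⟩ := exists_charExponent hF
  obtain rfl : p = 3 := by
    have : p ∣ q := by
      rw [he₀]
      refine dvd_pow_self p fun h => ?_
      rw [h, pow_zero, hq] at he₀
      have := Nat.one_lt_pow (by omega : a ≠ 0) (by norm_num : 1 < 3)
      omega
    exact (Nat.prime_dvd_prime_iff_eq hpp Nat.prime_three).1 (hpp.dvd_of_dvd_pow (hq ▸ this))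
  haveI := Fact.mk hpp
  have h3 : (3 : F) = 0 := by exact_mod_cast CharP.cast_eq_zero F 3
  have hQ : Fintype.card F = q * q := by rw [hF, sq]
  -- the field `GF(q^6)`
  obtain ⟨h, hm, hirr, hdeg⟩ := exists_monic_irreducible (F := F) 3
  haveI : Fact (Irreducible h) := ⟨hirr⟩
  haveI : Module.Finite F (AdjoinRoot h) := (AdjoinRoot.powerBasis hirr.ne_zero).finite
  haveI : Finite (AdjoinRoot h) := Module.finite_of_finite F
  haveI := Fintype.ofFinite (AdjoinRoot h)
  have hdim : Module.finrank F (AdjoinRoot h) = 3 := by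
    rw [(AdjoinRoot.powerBasis hirr.ne_zero).finrank, AdjoinRoot.powerBasis_dim, hdeg]
  haveI : CharP (AdjoinRoot h) 3 := charP_of_injective_algebraMap (algebraMap F (AdjoinRoot h)).injective 3
  haveI : ExpChar (AdjoinRoot h) 3 := .prime hpp
  have hL : ∀ x : AdjoinRoot h, x ^ (Fintype.card F ^ 3) = x := fun x => by
    rw [← Nat.card_eq_fintype_card, ← hdim, ← Module.natCard_eq_pow_finrank, Nat.card_eq_fintype_card,
      FiniteField.pow_card]
  obtain ⟨τ, hτ⟩ : ∃ τ : AdjoinRoot h →+* AdjoinRoot h, ∀ x, τ x = x ^ (q ^ 3) :=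
    ⟨iterateFrobenius _ 3 (a * 3), fun x => by rw [iterateFrobenius_def, hq, ← pow_mul]⟩
  have hττ : ∀ x, τ (τ x) = x := fun x => by
    rw [hτ, hτ, ← pow_mul, ← mul_pow, ← hQ, hL]
  have hτF : ∀ c : F, τ (algebraMap F _ c) = algebraMap F _ (qFrob hF c) := fun c => by
    rw [hτ, qFrob_apply, ← map_pow]
    congr 1
    rw [show q ^ 3 = Fintype.card F * q by rw [hF]; ring, pow_mul, FiniteField.pow_card]
  have htrτ : ∀ z, Algebra.trace F (AdjoinRoot h) (τ z) = qFrob hF (Algebra.trace F (AdjoinRoot h) z) := fun z => by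
    refine (algebraMap F (AdjoinRoot h)).injective ?_
    rw [← hτF, FiniteField.algebraMap_trace_eq_sum_pow, FiniteField.algebraMap_trace_eq_sum_pow, map_sum]
    simp [map_pow]
  obtain ⟨BL, hBL⟩ : ∃ BL : AdjoinRoot h →ₛₗ[qFrob hF] AdjoinRoot h →ₗ[F] F,
      ∀ x y, BL x y = Algebra.trace F (AdjoinRoot h) (τ x * y) :=
    ⟨LinearMap.mk₂'ₛₗ (qFrob hF) (RingHom.id F) (fun x y => Algebra.trace F (AdjoinRoot h) (τ x * y))
      (fun _ _ _ => by simp [add_mul]) (fun c x y => by
        rw [Algebra.smul_def c x, map_mul τ, hτF, mul_assoc, ← Algebra.smul_def, map_smul])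
      (fun _ _ _ => by simp [mul_add]) (fun c x y => by
        rw [mul_smul_comm, map_smul]; rfl), fun x y => rfl⟩
  obtain ⟨e, he⟩ := exists_isometry_hermB hF 3 BL
    (fun u v => by rw [hBL, hBL, ← htrτ, map_mul, hττ, mul_comm])
    (fun x hx => by
      have h1 := (traceForm_nondegenerate F (AdjoinRoot h)).1 (τ x) fun y => by
        rw [Algebra.traceForm_apply, ← hBL]; exact hx y
      rw [← hττ x, h1, map_zero]) hdim
  have hBe : ∀ u v, B u v = BL (e.symm u) (e.symm v) := fun u v => by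
    rw [← he, LinearEquiv.apply_symm_apply, LinearEquiv.apply_symm_apply]
  let K := semiGroup (q := q) e
  have hmemK : ∀ g : Cfsg.SU 3 F q, g ∈ K ↔
      ∃ (κ : AdjoinRoot h) (i : ℕ), ∀ x, suHom g (e x) = e (κ * x ^ (Fintype.card F ^ i)) := fun g => Iff.rfl
  refine coveredByTwo_quotient (subStab (F ∙ (Pi.single 0 1 : V₃))) K (fun hH => ?_) (fun hK => ?_)
    (center_le_subStab hF (by norm_num) _) (fun z hz => ?_) fun g => ?_
  · obtain ⟨s, hs⟩ := signed_swap_mem_su hF (i := (0 : Fin 3)) (j := 1) (by decide)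
    have hm : s ∈ subStab (F ∙ (Pi.single 0 1 : V₃)) := hH ▸ Subgroup.mem_top s
    have := (hm (Pi.single 0 1)).2 (Submodule.mem_span_singleton_self _)
    obtain ⟨c, hc⟩ := Submodule.mem_span_singleton.1 this
    have := congrFun hc 1
    rw [suHom_apply, hs] at this
    simp at this
  · -- a diagonal element which is not semilinear
    obtain ⟨u, hu⟩ := IsCyclic.exists_generator (α := Fˣ)
    have hord : orderOf u = (q - 1) * (q + 1) := by
      rw [orderOf_eq_card_of_forall_mem_zpowers hu, units_card_sq hF]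
    have hq3 : 3 ≤ q := hq ▸ Nat.le_self_pow (by omega) 3
    obtain ⟨c, hc, hc3⟩ : ∃ c : Fˣ, c ^ (q + 1) = 1 ∧ c ^ 3 ≠ 1 := by
      refine ⟨u ^ (q - 1), by rw [← pow_mul, ← hord, pow_orderOf_eq_one], fun h => ?_⟩
      rw [← pow_mul, ← orderOf_dvd_iff_pow_eq_one, hord] at h
      have := Nat.le_of_dvd (by omega) (Nat.dvd_of_mul_dvd_mul_left (by omega) h)
      omega
    have hcv : (c : F) ^ (q + 1) = 1 := by rw [← Units.val_pow_eq_pow_val, hc, Units.val_one]
    obtain ⟨s, hs⟩ := diagonal_mem_su hF ![(c : F), (c : F)⁻¹, 1]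
      (fun k => by fin_cases k <;> simp [hcv])
      (by simp [Fin.prod_univ_three])
    obtain ⟨κ, i, hκ⟩ : s ∈ K := hK ▸ Subgroup.mem_top s
    have hs3 : ∀ x, suHom s (suHom s (suHom s (e x))) =
        e ((κ * κ ^ (Fintype.card F ^ i) * κ ^ (Fintype.card F ^ i * Fintype.card F ^ i)) * x) := fun x => by
      have hfix : x ^ (Fintype.card F ^ i * (Fintype.card F ^ i * Fintype.card F ^ i)) = x := by
        rw [← pow_add, ← pow_add, show i + (i + i) = i * 3 by ring]
        clear hκ
        induction i with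
        | zero => simp
        | succ i ih => rw [Nat.succ_mul, pow_add, pow_mul, ih, hL]
      rw [hκ, hκ, hκ]
      simp only [mul_pow, ← pow_mul, hfix, mul_assoc]
    have hdiag : ∀ (v : V₃) k, suHom s v k = ![(c : F), (c : F)⁻¹, 1] k * v k := fun v k => by
      rw [suHom_apply, hs, Matrix.mulVec_diagonal]
    obtain ⟨x, hx⟩ := e.surjective (Pi.single 2 1)
    have hx0 : x ≠ 0 := by
      rintro rfl
      rw [map_zero] at hx
      simpa using congrFun hx 2
    have h2 : suHom s (Pi.single 2 1 : V₃) = Pi.single 2 1 := by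
      funext k; rw [hdiag]; fin_cases k <;> simp
    have hκ1 : κ * κ ^ (Fintype.card F ^ i) * κ ^ (Fintype.card F ^ i * Fintype.card F ^ i) = 1 := by
      have := hs3 x
      rw [hx, h2, h2, h2, ← hx] at this
      exact mul_right_cancel₀ hx0 ((e.injective this).symm.trans (one_mul x).symm)
    obtain ⟨y, hy⟩ := e.surjective (Pi.single 0 1)
    have h0 := congrFun (hs3 y) 0
    rw [hκ1, one_mul, hy, hdiag, hdiag, hdiag] at h0
    simp [← mul_assoc] at h0
    exact hc3 (Units.ext (by simpa [pow_succ] using h0))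
  · obtain ⟨c, hc⟩ := center_scalar hF (by norm_num) hz
    exact (hmemK z).2 ⟨algebraMap F _ c, 0, fun x => by rw [hc, ← map_smul, Algebra.smul_def]; simp⟩
  -- the covering
  have hS := fun u v => hermB_conj (n := 3) hF u v
  have hiso := suHom_isom hF g
  have key : ∀ (S₀ : AdjoinRoot h →ₗ[F] AdjoinRoot h) (κ : AdjoinRoot h) (i : ℕ),
      (∀ x, S₀ x = κ * x ^ (Fintype.card F ^ i)) → (∀ x y, BL (S₀ x) (S₀ y) = BL x y) →
      (∃ e' : V₃ ≃ₗ[F] V₃, ∀ v, e' (suHom g v) = e (S₀ (e.symm (e' v)))) →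
      ∃ x : Cfsg.SU 3 F q, x * g * x⁻¹ ∈ K := fun S₀ κ i hS₀ hSi ⟨e', he'⟩ => by
    obtain ⟨x, hx⟩ := exists_su_conj hF ha hq g (e.toLinearMap ∘ₗ S₀ ∘ₗ e.symm.toLinearMap)
      (fun u v => by simp only [LinearMap.comp_apply, LinearEquiv.coe_coe, he, hSi, ← hBe]) e' he'
    exact ⟨x, (hmemK _).2 ⟨κ, i, fun y => by rw [hx]; simp [hS₀]⟩⟩
  by_cases hH : ∃ (v : V₃) (μ : F), B v v ≠ 0 ∧ suHom g v = μ • v
  · obtain ⟨v, μ, hv, hgv⟩ := hH
    obtain ⟨x, hx⟩ := exists_conj_point hF g hv (v₀ := (Pi.single 0 1 : V₃))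
      (by simp [hermB_apply, Cfsg.hermForm, Fin.sum_univ_three, zero_pow (show q ≠ 0 by rw [hq]; positivity)]) μ hgv
    exact ⟨x, Or.inl hx⟩
  suffices ∃ x : Cfsg.SU 3 F q, x * g * x⁻¹ ∈ K from this.elim fun x hx => ⟨x, Or.inr hx⟩
  push Not at hH
  obtain ⟨A, hA⟩ : ∃ A : GL (Fin 3) F, A = Matrix.SpecialLinearGroup.toGL g.1 := ⟨_, rfl⟩
  obtain ⟨M, hM⟩ : ∃ M : Matrix (Fin 3) (Fin 3) F, M = (A : Matrix (Fin 3) (Fin 3) F) := ⟨_, rfl⟩
  have hMv : ∀ v, M *ᵥ v = suHom g v := fun v => by rw [hM, hA]; rfl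
  by_cases hi : Irreducible M.charpoly
  · -- irreducible
    obtain ⟨f, hf⟩ : ∃ f, f = M.charpoly := ⟨_, rfl⟩
    rw [← hf] at hi
    have hfd : f.natDegree = 3 := by rw [hf, charpoly_natDegree_eq_dim, Fintype.card_fin]
    obtain ⟨θ, hθ⟩ := exists_root_extension (L := AdjoinRoot h) hi (by rw [hfd, hdim])
    obtain ⟨k, hk, h2k, -⟩ := exists_galois hF (A := A) (hA ▸ g.2) (by rwa [← hM, ← hf]) (θ := θ)
      (by rwa [← hM, ← hf])
    rw [Nat.card_eq_fintype_card] at hk h2k
    have hper : ∀ j, θ ^ (Fintype.card F ^ j) = θ ^ (Fintype.card F ^ (j % 3)) := fun j => by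
      conv_lhs => rw [← Nat.mod_add_div j 3, pow_add, pow_mul]
      generalize θ ^ (Fintype.card F ^ (j % 3)) = w
      induction (j / 3) with
      | zero => simp
      | succ i ih => rw [Nat.mul_succ, pow_add, pow_mul, ih, hL]
    have hne : θ ^ Fintype.card F ≠ θ := fun h1 => by
      have hb : θ ∈ (⊥ : IntermediateField F (AdjoinRoot h)) := (IsGalois.mem_bot_iff_fixed θ).2 fun σ => by
        obtain ⟨j, hj⟩ := FiniteField.exists_forall_apply_eq_pow (p := 3) (k := F) (AdjoinRoot h) σ
        rw [hj, Nat.card_eq_fintype_card]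
        clear hj
        induction j with
        | zero => simp
        | succ j ih => rw [pow_succ, pow_mul, ih, h1]
      obtain ⟨c, hc⟩ := IntermediateField.mem_bot.1 hb
      rw [← hc, aeval_algebraMap_apply, map_eq_zero] at hθ
      have h2 := degree_eq_one_of_irreducible_of_root hi hθ
      rw [degree_eq_natDegree hi.ne_zero, hfd] at h2
      norm_num at h2
    have hk2 : k % 3 = 2 := by
      rw [hper (2 * k)] at h2k
      rcases (show k % 3 = 0 ∨ k % 3 = 1 ∨ k % 3 = 2 by omega) with h1 | h1 | h1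
      · rw [show 2 * k % 3 = 0 by omega, pow_zero, pow_one] at h2k
        exact absurd h2k.symm hne
      · rw [show 2 * k % 3 = 2 by omega] at h2k
        refine absurd ?_ hne
        have h4 : (θ ^ (Fintype.card F ^ 2)) ^ (Fintype.card F ^ 2) = θ ^ Fintype.card F := by
          rw [← pow_mul, ← pow_add, hper (2 + 2)]
          norm_num
        rw [h2k, ← pow_mul, ← pow_succ', hL] at h4
        exact h4.symm
      · exact h1
    have hθ0 : θ ≠ 0 := fun h0 => hne (by rw [h0, zero_pow Fintype.card_ne_zero])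
    have hnorm : τ θ * θ = 1 := by
      haveI : ExpChar (AdjoinRoot h) 3 := .prime hpp
      rw [hper k, hk2] at hk
      refine iterateFrobenius_inj (AdjoinRoot h) 3 a ?_
      rw [iterateFrobenius_def, iterateFrobenius_def, one_pow, ← hq, mul_pow, hτ, ← pow_mul, ← pow_succ,
        show q ^ 4 = Fintype.card F ^ 2 by rw [hF, ← pow_mul], ← hk, inv_mul_cancel₀ (pow_ne_zero _ hθ0)]
    -- conjugate to multiplication by `θ`
    haveI : Fact (Irreducible f) := ⟨hi⟩
    haveI : Module.Finite F (AdjoinRoot f) := (AdjoinRoot.powerBasis hi.ne_zero).finite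
    haveI : Finite (AdjoinRoot f) := Module.finite_of_finite F
    have hT : aeval (suHom g : Module.End F V₃) f = 0 := by
      have hTM : (suHom g : Module.End F V₃) = Matrix.toLinAlgEquiv' M := LinearMap.ext fun v => (hMv v).symm
      rw [hTM, show Matrix.toLinAlgEquiv' M = (Matrix.toLinAlgEquiv' (R := F) (n := Fin 3)).toAlgHom M from rfl,
        aeval_algHom_apply, hf, aeval_self_charpoly, map_zero]
    let Φ : AdjoinRoot h →ₐ[F] Module.End F V₃ :=
      (e.conjAlgEquiv F).toAlgHom.comp (Algebra.lmul F (AdjoinRoot h))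
    obtain ⟨φ, hφ⟩ : ∃ φ : AdjoinRoot f →ₐ[F] Module.End F V₃, φ (AdjoinRoot.root f) = suHom g :=
      ⟨Ideal.Quotient.liftₐ (Ideal.span {f}) (aeval (suHom g : Module.End F V₃)) fun x hx => by
        obtain ⟨c, rfl⟩ := Ideal.mem_span_singleton.1 hx
        rw [map_mul, hT, zero_mul], aeval_X (R := F) _⟩
    obtain ⟨e', -, he'⟩ := exists_det_one_conj φ
      (Φ.comp (AdjoinRoot.liftAlgHom f (Algebra.ofId F _) θ (by simpa [aeval_def] using hθ)))
    refine key (LinearMap.mulLeft F θ) θ 0 (fun x => by simp) (fun x y => ?_) ⟨e', fun v => ?_⟩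
    · rw [hBL, hBL, LinearMap.mulLeft_apply, LinearMap.mulLeft_apply, map_mul τ,
        show τ θ * τ x * (θ * y) = τ x * y by linear_combination (τ x * y) * hnorm]
    · have := he' (AdjoinRoot.root f) v
      rw [hφ, AlgHom.comp_apply, AdjoinRoot.liftAlgHom_root] at this
      exact this
  · -- a singular eigenvector, hence unipotent with one Jordan block
    rw [irreducible_iff_roots_eq_zero_of_degree_le_three (by rw [charpoly_natDegree_eq_dim]; simp)
      (by rw [charpoly_natDegree_eq_dim]; simp)] at hi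
    obtain ⟨lam, hlam⟩ := Multiset.exists_mem_of_ne_zero hi
    rw [mem_roots (charpoly_monic _).ne_zero, IsRoot.def, eval_charpoly] at hlam
    obtain ⟨v, hv0, hv⟩ := exists_mulVec_eq_zero_iff.2 hlam
    rw [sub_mulVec, sub_eq_zero, scalar_apply, ← smul_one_eq_diagonal, smul_mulVec, one_mulVec, hMv] at hv
    have hgv : suHom g v = lam • v := hv.symm
    have hvv : B v v = 0 := by_contra fun h => hH v lam h hgv
    obtain ⟨f₁, hf₁⟩ : ∃ f₁, B v f₁ ≠ 0 := by
      by_contra h; push Not at h; exact hv0 (hermB_sep hF v h)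
    obtain ⟨f₀, hf₀⟩ : ∃ f₀, B v f₀ = 1 :=
      ⟨(B v f₁)⁻¹ • f₁, by rw [map_smul, smul_eq_mul, inv_mul_cancel₀ hf₁]⟩
    have hf0w : B f₀ v = 1 := by rw [← hS v f₀, hf₀, map_one]
    obtain ⟨t₀, ht₀⟩ := exists_qFrob_trace_one hF
    obtain ⟨f, hvf, hff⟩ : ∃ f, B v f = 1 ∧ B f f = 0 := by
      refine ⟨f₀ + (-(B f₀ f₀ * t₀)) • v, ?_, ?_⟩ <;>
        simp only [map_add, LinearMap.add_apply, LinearMap.map_smulₛₗ, LinearMap.smul_apply, map_smul,
          smul_eq_mul, map_neg, map_mul, hS f₀ f₀, hf₀, hf0w, hvv, mul_one, mul_zero, add_zero]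
      linear_combination -(B f₀ f₀) * ht₀
    have hfv : B f v = 1 := by rw [← hS v f, hvf, map_one]
    let Lm : V₃ →ₗ[F] F × F := (B v).prod (B f)
    have hker : Module.finrank F (LinearMap.ker Lm) = 1 := by
      have hsurj : Function.Surjective Lm := fun c => ⟨c.1 • f + c.2 • v, by simp [Lm, hvf, hff, hvv, hfv]⟩
      have h := Lm.finrank_range_add_finrank_ker
      rw [LinearMap.range_eq_top.2 hsurj, finrank_top, Module.finrank_prod, Module.finrank_self,
        Module.finrank_fin_fun] at h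
      omega
    obtain ⟨u, hu, hu0⟩ := Submodule.exists_mem_ne_zero_of_ne_bot (p := LinearMap.ker Lm)
      (fun h => by rw [h, finrank_bot] at hker; omega)
    obtain ⟨hvu, hfu⟩ : B v u = 0 ∧ B f u = 0 := by simpa [Lm] using hu
    have huv : B u v = 0 := by rw [← hS v, hvu, map_zero]
    have huf : B u f = 0 := by rw [← hS f, hfu, map_zero]
    have hdec : ∀ z, ∃ c : F, z = B v z • f + B f z • v + c • u := fun z => by
      obtain ⟨c, hc⟩ := (finrank_eq_one_iff_of_nonzero' (⟨u, hu⟩ : LinearMap.ker Lm) (by simpa using hu0)).1 hker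
        ⟨z - B v z • f - B f z • v, by simp [Lm, hvf, hff, hvv, hfv]⟩
      exact ⟨c, by have h1 := congrArg Subtype.val hc; rw [Submodule.coe_smul] at h1; linear_combination (norm := module) -h1⟩
    have huu : B u u ≠ 0 := fun h0 => hu0 (hermB_sep hF u fun z => by
      obtain ⟨c, hc⟩ := hdec z
      rw [hc]; simp [huv, huf, h0])
    -- images
    have hgu1 : B v (suHom g u) = 0 := by
      have h := hiso v u
      rw [hgv, hvu, LinearMap.map_smulₛₗ, LinearMap.smul_apply, smul_eq_mul] at h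
      refine (mul_eq_zero.1 h).resolve_left fun h0 => hv0 ((suHom g).injective ?_)
      rw [hgv, map_zero, show lam = 0 by simpa using h0, zero_smul]
    obtain ⟨μ, hμ⟩ := hdec (suHom g u)
    obtain ⟨a₁, hgu⟩ : ∃ a₁ : F, suHom g u = μ • u + a₁ • v := ⟨B f (suHom g u), by
      conv_lhs => rw [hμ]
      rw [hgu1, zero_smul, zero_add, add_comm]⟩
    have hμn : qFrob hF μ * μ = 1 := by
      have h := hiso u u
      simp [hgu, huv, hvu, hvv] at h
      exact mul_right_cancel₀ huu (by linear_combination h)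
    have hμl : μ = lam := by
      by_contra hne
      refine hH (u + (a₁ / (μ - lam)) • v) μ (by simpa [huv, hvu, hvv] using huu) ?_
      have := sub_ne_zero.2 hne
      rw [map_add, map_smul, hgu, hgv]
      match_scalars <;> field_simp <;> ring
    subst hμl
    obtain ⟨c₁, hc₁⟩ := hdec (suHom g f)
    have hcoef : B v (suHom g f) = μ := by
      have h := hiso v f
      rw [hgv, hvf, LinearMap.map_smulₛₗ, LinearMap.smul_apply, smul_eq_mul] at h
      linear_combination (B v (suHom g f)) * (-hμn) + μ * h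
    rw [hcoef] at hc₁
    obtain ⟨b₁, hb₁⟩ : ∃ b₁, b₁ = B f (suHom g f) := ⟨_, rfl⟩
    rw [← hb₁] at hc₁
    -- the determinant forces `μ = 1`
    have hli : LinearIndependent F ![v, u, f] := by
      rw [Fintype.linearIndependent_iff]
      intro c hc
      rw [Fin.sum_univ_three] at hc
      simp at hc
      have e1 := congrArg (B v) hc
      have e2 := congrArg (B u) hc
      have e3 := congrArg (B f) hc
      simp [hvv, hvu, hvf, huv, huu, huf, hfv, hfu, hff] at e1 e2 e3
      intro i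
      fin_cases i <;> simp [e1, e2, e3]
    let bb := basisOfLinearIndependentOfCardEqFinrank hli (by simp)
    have hμ1 : μ = 1 := by
      have hd := det_suHom g
      rw [← LinearMap.det_toMatrix bb,
        show LinearMap.toMatrix bb bb (suHom g : V₃ →ₗ[F] V₃) = !![μ, a₁, b₁; 0, μ, c₁; 0, 0, μ] by
          refine (LinearMap.toMatrix bb bb).symm.injective ?_
          rw [LinearEquiv.symm_apply_apply, LinearMap.toMatrix_symm]
          refine bb.ext fun i => ?_
          rw [Matrix.toLin_self, Fin.sum_univ_three]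
          fin_cases i <;> simp [bb, hgv, hgu, hc₁] <;> module] at hd
      rw [Matrix.det_fin_three] at hd
      simp at hd
      have : (μ - 1) ^ 3 = 0 := by linear_combination hd + (μ - μ * μ) * h3
      exact sub_eq_zero.1 (eq_zero_of_pow_eq_zero this)
    subst hμ1
    rw [one_smul] at hgu hc₁ hgv
    have ha1 : a₁ ≠ 0 := fun h0 => hH u 1 huu (by rw [hgu, h0, zero_smul, add_zero, one_smul])
    have hc1 : c₁ ≠ 0 := fun h0 => by
      have h := hiso u f
      rw [hgu, hc₁, h0] at h
      simp [huv, huf, hvv, hvu, hvf] at h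
      exact ha1 h
    -- a cyclic vector in `L`
    obtain ⟨y, hy⟩ : ∃ y : AdjoinRoot h, Algebra.trace F (AdjoinRoot h) y ≠ 0 := by
      by_contra hh
      push Not at hh
      exact Algebra.trace_ne_zero F (AdjoinRoot h) (LinearMap.ext hh)
    obtain ⟨π, hπ⟩ : ∃ π : AdjoinRoot h →ₗ[F] AdjoinRoot h, ∀ x, π x = x ^ Fintype.card F :=
      ⟨(FiniteField.frobeniusAlgEquivOfAlgebraic F (AdjoinRoot h)).toLinearMap, fun x => rfl⟩
    have hsum : π (π y) + π y + y = algebraMap F (AdjoinRoot h) (Algebra.trace F _ y) := by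
      rw [FiniteField.algebraMap_trace_eq_sum_pow, hdim, Finset.sum_range_succ, Finset.sum_range_succ,
        Finset.sum_range_one, Nat.card_eq_fintype_card, hπ, hπ, ← pow_mul, ← sq, pow_zero, pow_one, pow_one]
      ring
    obtain ⟨e', he'⟩ := exists_conj_cyclic h3 (suHom g : V₃ →ₗ[F] V₃) (e.toLinearMap ∘ₗ π ∘ₗ e.symm.toLinearMap)
      (y := f) (z := e y) (by
        simp only [LinearEquiv.coe_coe]
        rw [hc₁]; simp [hgu, hgv, hc₁]
        match_scalars <;> first | (ring1) | linear_combination h3 | linear_combination c₁ * h3 |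
          linear_combination (c₁ * a₁ + b₁) * h3 | linear_combination -(c₁ * a₁ + b₁) * h3 |
          linear_combination -h3 | linear_combination -c₁ * h3)
      (by simp [hπ, ← pow_mul, show Fintype.card F * (Fintype.card F * Fintype.card F) = Fintype.card F ^ 3 by ring, hL,
        mul_assoc])
      (fun h0 => by
        have := congrArg (B f) h0
        simp [hc₁, hgu, hgv, hff, hfu, hfv] at this
        exact mul_ne_zero hc1 ha1 (by linear_combination this - b₁ * h3))
      (by
        simp only [LinearMap.comp_apply, LinearEquiv.coe_coe, LinearEquiv.symm_apply_apply]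
        rw [← LinearEquiv.map_add, ← LinearEquiv.map_add, hsum]
        exact e.map_ne_zero_iff.2 (by simpa using hy))
    refine key π 1 1 (fun x => by simp [hπ]) (fun x y => ?_) ⟨e', he'⟩
    rw [hBL, hBL, hπ, hπ, map_pow, ← mul_pow]
    exact Algebra.trace_eq_of_algEquiv (FiniteField.frobeniusAlgEquivOfAlgebraic F (AdjoinRoot h)) _

end CfsgLib.NormalCover.Unitary
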